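import Cfsg.Agent.R2.T1.Odd.Tab9
import Cfsg.Agent.R2.T1.Odd.Out
import Cfsg.Agent.R2.T1.T2p.Msk
import Cfsg.Agent.R2.T1.Odd.Nrm
import Cfsg.Agent.R2.T1.Five.CaseII_m3
import Cfsg.Agent.R2.T1.E5.Tor_m3
import Cfsg.Agent.R2.PX.Conf_m3
import Cfsg.Agent.R2.T1.Five.Lin_m3
import Mathlib
import Cfsg.Agent.R2.T1.Five.TwoE_m3
import Cfsg.Agent.Lib.FastPerm
import Cfsg.Agent.S1054
import Cfsg.Agent.R2.PX.W.Cl_m3
import Cfsg.Agent.R2.PX.Del_m3
import Cfsg.Agent.R2.T1.P3.Q3
import Mathlib.LinearAlgebra.Basis.VectorSpace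
import Cfsg.Agent.R2.T1.Inf.Cnt_m3
import Cfsg.Agent.StandardComponent.AltAut
import Cfsg.Agent.R2.T1.T2p.GenA
import Cfsg.Agent.FastGrp
import Cfsg.Agent.Prune
set_option linter.all false

section
prune_inst 0x7fb0a9f82bb8a9dfdfff7e7fa69ecffdf9b93fffe6dff9433fe023ff2b9f6b008bc5fb850be800fe0ed6e01410f87b43f97eefffe86bd87ffffd1ff41ffbffcfedf6b508519c88b40fb80ff603f0778e7f3fffffffffffffffffffffffffffaeffbfffffffff

-- part: R2/T1/Odd/Nine5
section
prune_inst 0x4f5607d042562020000000596110020246c000090002b8c00ccc009460041e3428002af403fb0110210eaaa002001006000000030404000000e00000000000120900212041140a100600099000084000000000000000000000000000000010004000000000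
set_option linter.all false
open scoped Cfsg.Agent.FastGrp

/-!
# S5771, ODD5: `n ≥ 9`, `p ≠ 2, 3, 7`: the 3-cycles are not of type 20 (helper11)

* `om_nine`;
* `d33` : `ev = 20` for the elements of type `3²`, `n ≥ 8`, `p ≥ 5`;
* `nine5` : `n ≥ 9`, `p ≠ 2, 3, 7`: `ev ≠ 20` for the 3-cycles.
-/

set_option autoImplicit false
set_option maxRecDepth 100000

namespace Cfsg.Agent.R2.T1.Odd

open Cfsg Cfsg.Lie Module Equiv Equiv.Perm
open Cfsg.Agent.H943.E7V.Block (D1 rho)
open Cfsg.Agent.H952.F4 (ev es MaxAlt)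
open Cfsg.Agent.R2.T1.Art

universe u v

theorem om_nine {K : Type*} [Field K] {W : Type*} [AddCommGroup W] [Module K W] {T : Type*} [Group T]
    (σ : Representation K T W) {x : T} (h : orderOf x = 9) : om σ x = (9 * ev (σ x) 1 - 3 * ev (σ (x ^ 3)) 1) / 6 := by
  unfold om
  have h1 : (9 : ℕ).divisorsAntidiagonal = {(1, 9), (3, 3), (9, 1)} := by decide
  have h2 : (9 : ℕ).totient = 6 := by decide
  have h3 : ArithmeticFunction.moebius 9 = 0 := by
    have h5 := ArithmeticFunction.moebius_apply_prime_pow Nat.prime_three (k := 2) (by norm_num)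
    rw [if_neg (by norm_num)] at h5
    exact h5
  have h4 : ArithmeticFunction.moebius 3 = -1 := ArithmeticFunction.moebius_apply_prime Nat.prime_three
  rw [h, h1, h2, Finset.sum_insert (by decide), Finset.sum_insert (by decide), Finset.sum_singleton, h3, h4]
  simp only [_root_.isUnit_iff_eq_one, _root_.IsUnit.squarefree, _root_.ArithmeticFunction.moebius_apply_of_squarefree, _root_.Int.reduceNeg, _root_.ArithmeticFunction.cardFactors_one, _root_.pow_zero, _root_.Int.cast_one, _root_.Nat.cast_ofNat, _root_.pow_one, _root_.one_mul, _root_.Int.cast_neg, _root_.map_pow, _root_.neg_mul, _root_.Int.cast_zero, _root_.Nat.cast_one, _root_.MulZeroClass.zero_mul, _root_.add_zero, _root_.ne_eq, _root_.OfNat.ofNat_ne_zero, _root_.not_false_eq_true, _root_.div_left_inj']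
  ring

section
variable {F : Type u} [Field F] [Finite F] {n : ℕ} [NeZero n] (h2 : (2 : F) ≠ 0) (h3 : (3 : F) ≠ 0)
  {ψ : ↥(alternatingGroup (Fin n)) →* Gh F} (hψ : ∀ a, ad F (ψ a) = 1 → a = 1)

omit [NeZero n] in
include h3 in
/-- elements of order 3 -/
theorem three_val {x : Gh F} (hx : x ^ 3 = 1) (hx1 : x ≠ 1) :
    ev (V F x) 1 = 2 ∨ ev (V F x) 1 = 14 ∨ ev (V F x) 1 = 20 ∨ ev (V F x) 1 = 32 := by
  rcases three h3 hx hx1 with ⟨h, -⟩ | ⟨h, -⟩ | ⟨h, -⟩ | ⟨h, -⟩ | ⟨h, -⟩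
  · exact Or.inl h
  · exact Or.inr (Or.inr (Or.inr h))
  · exact Or.inr (Or.inr (Or.inl h))
  · exact Or.inr (Or.inl h)
  · exact Or.inr (Or.inr (Or.inl h))

include hψ in
omit [Finite F] in
theorem psi_ne' {m : ℕ} (hm : m ≤ n) {l : List (ℕ × ℕ)} (h : vl m l = true) (hc : cd m l ≠ cd m []) : ψ (P n l) ≠ 1 := by
  intro h1
  have h4 := hψ (P n l) (by rw [h1, map_one])
  exact P_ne hm h rfl hc (by rw [h4, P_nil])

theorem gQ_le_gQy : Tg n gQ ≤ Tg n gQy := by
  unfold Tg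
  refine Subgroup.closure_mono ?_
  rintro x ⟨g, hg, rfl⟩
  refine ⟨g, ?_, rfl⟩
  revert g
  decide

include h2 h3 hψ in
/-- elements of type `3²` -/
theorem d33 (hn : 8 ≤ n) : ev (V F (ψ (P n l33))) 1 = 20 := by
  set ρ : Representation F ↥(alternatingGroup (Fin n)) (D1 → F) := MonoidHom.comp (V F) ψ with hρ
  obtain ⟨tt, ts, -, -, tq, -, -⟩ := types hn h2 hψ
  have e0 : om ρ 1 = 56 := by rw [om_one, finrank_V]; norm_num
  have et : om ρ (P n lt) = 8 := by
    rw [om_prime ρ Nat.prime_two (orderOf_P hn (by decide +kernel)), finrank_V, show ev (ρ (P n lt)) 1 = 32 from tt]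
    norm_num
  have es : om ρ (P n ls) = -8 := by
    rw [om_prime ρ Nat.prime_two (orderOf_P hn (by decide +kernel)), finrank_V, show ev (ρ (P n ls)) 1 = 24 from ts]
    norm_num
  have e3 : om ρ (P n l33) = (3 * (ev (ρ (P n l33)) 1 : ℚ) - 56) / 2 := by
    rw [om_prime ρ Nat.prime_three (orderOf_P hn (by decide +kernel)), finrank_V]
    norm_num only []
  have h := dim_Qy hn h2 ρ h3
  have hle : finrank F ↥(inv ρ (Tg n gQy)) ≤ finrank F ↥(inv ρ (Tg n gQ)) := Submodule.finrank_mono (inv_mono gQ_le_gQy)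
  have hv := three_val h3 (x := ψ (P n l33)) (by rw [← map_pow, P_pow_one hn (m := 8) (by decide) (by decide), map_one])
    (psi_ne' hψ hn (by decide) (by decide))
  rw [e0, et, es, e3] at h
  rw [tq] at hle
  show ev (ρ (P n l33)) 1 = 20
  have hv' : ev (ρ (P n l33)) 1 = 2 ∨ ev (ρ (P n l33)) 1 = 14 ∨ ev (ρ (P n l33)) 1 = 20 ∨ ev (ρ (P n l33)) 1 = 32 := hv
  generalize ev (ρ (P n l33)) 1 = d at *
  generalize finrank F ↥(inv ρ (Tg n gQy)) = a at *
  have h' : 48 * (a : ℤ) = 56 + 48 - 72 + 16 * (3 * d - 56) := by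
    have : 48 * (a : ℚ) = 56 + 48 - 72 + 16 * (3 * d - 56) := by linarith only [h]
    exact_mod_cast this
  omega

def l333 : List (ℕ × ℕ) := [(0, 1), (1, 2), (3, 4), (4, 5), (6, 7), (7, 8)]
def l9 : List (ℕ × ℕ) := [(0, 1), (1, 2), (2, 3), (3, 4), (4, 5), (5, 6), (6, 7), (7, 8)]
def l9b : List (ℕ × ℕ) := [(0, 2), (2, 3), (3, 4), (4, 5), (5, 6), (6, 7), (7, 8), (8, 1)]
def l7 : List (ℕ × ℕ) := [(0, 1), (1, 2), (2, 3), (3, 4), (4, 5), (5, 6)]

theorem r9t_eq : r9t = [[], ls, l3, l33, l333, l9, l9b, l7] := by decide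

theorem le_of_sub {g g' : List (List (ℕ × ℕ))} (h : ∀ x ∈ g, x ∈ g') : Tg n g ≤ Tg n g' := by
  unfold Tg
  refine Subgroup.closure_mono ?_
  rintro x ⟨y, hy, rfl⟩
  exact ⟨y, h y hy, rfl⟩

/-- conjugate elements -/
theorem ev_cj {m : ℕ} (hm : m ≤ n) {W : Type*} [AddCommGroup W] [Module F W]
    (ρ : Representation F ↥(alternatingGroup (Fin n)) W)
    {x c r : List (ℕ × ℕ)} (hx : vl m x = true) (hc : vl m c = true) (hr : vl m r = true)
    (h : cd m (x ++ c) = cd m (c ++ r)) (μ : F) : ev (ρ (P n x)) μ = ev (ρ (P n r)) μ := by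
  have h1 : P n x = P n c * P n r * (P n c)⁻¹ := by
    rw [← P_append hm hc hr, ← (P_eq_iff hm (vl_append hx hc) (vl_append hc hr)).2 h, P_append hm hx hc, mul_inv_cancel_right]
  rw [h1, Cfsg.Agent.H944.E6T.ev_conj]

include h2 h3 hψ in
/-- elements of type `3³` -/
theorem d333 (hn : 9 ≤ n) (h20 : ev (V F (ψ (P n l3))) 1 = 20) : ev (V F (ψ (P n l333))) 1 = 20 := by
  have hn8 : 8 ≤ n := by omega
  set ρ : Representation F ↥(alternatingGroup (Fin n)) (D1 → F) := MonoidHom.comp (V F) ψ with hρ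
  have e0 : om ρ 1 = 56 := by rw [om_one, finrank_V]; norm_num
  have e3 : om ρ (P n l3) = 2 := by
    rw [om_prime ρ Nat.prime_three (orderOf_P hn8 (by decide +kernel)), finrank_V, show ev (ρ (P n l3)) 1 = 20 from h20]
    norm_num
  have e33 : om ρ (P n l33) = 2 := by
    rw [om_prime ρ Nat.prime_three (orderOf_P hn8 (by decide +kernel)), finrank_V,
      show ev (ρ (P n l33)) 1 = 20 from d33 h2 h3 hψ hn8]
    norm_num
  have e333 : om ρ (P n l333) = (3 * (ev (ρ (P n l333)) 1 : ℚ) - 56) / 2 := by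
    rw [om_prime ρ Nat.prime_three (orderOf_P hn (by decide +kernel)), finrank_V]
    norm_num only []
  have h27 : ((27 : ℕ) : F) ≠ 0 := by simpa only [_root_.Nat.cast_ofNat, _root_.ne_eq, _root_.pow_zero, _root_.Nat.reducePow, _root_.one_mul] using three_pow_ne h2 h3 0 3
  have h := dimC hn chkG_B27 chkC_B27 len_B27 (K := 8) rfl h27 cnt_B27 ρ
  simp only [r9t_eq, Finset.sum_range_succ, Finset.sum_range_zero, List.getD_cons_zero, List.getD_cons_succ, P_nil,
    e0, e3, e33, e333] at h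
  have hv := three_val h3 (x := ψ (P n l333)) (by rw [← map_pow, P_pow_one hn (m := 9) (by decide) (by decide), map_one])
    (psi_ne' hψ hn (by decide) (by decide))
  show ev (ρ (P n l333)) 1 = 20
  have hv' : ev (ρ (P n l333)) 1 = 2 ∨ ev (ρ (P n l333)) 1 = 14 ∨ ev (ρ (P n l333)) 1 = 20 ∨ ev (ρ (P n l333)) 1 = 32 := hv
  generalize ev (ρ (P n l333)) 1 = d at *
  generalize finrank F ↥(inv ρ (Tg n gB27)) = a at *
  push_cast at h
  have h' : 27 * (a : ℤ) = 56 + 12 + 24 + 4 * (3 * d - 56) := by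
    have : 27 * (a : ℚ) = 56 + 12 + 24 + 4 * (3 * d - 56) := by linarith only [h]
    exact_mod_cast this
  omega

include h2 h3 hψ in
/-- elements of order 9 of the class of `l9` -/
theorem d9 (hn : 9 ≤ n) (h7 : (7 : F) ≠ 0) (h20 : ev (V F (ψ (P n l3))) 1 = 20) : ev (V F (ψ (P n l9))) 1 = 8 := by
  have hn8 : 8 ≤ n := by omega
  set ρ : Representation F ↥(alternatingGroup (Fin n)) (D1 → F) := MonoidHom.comp (V F) ψ with hρ
  obtain ⟨-, ts, -⟩ := types hn8 h2 hψ
  have e0 : om ρ 1 = 56 := by rw [om_one, finrank_V]; norm_num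
  have es : om ρ (P n ls) = -8 := by
    rw [om_prime ρ Nat.prime_two (orderOf_P hn8 (by decide +kernel)), finrank_V, show ev (ρ (P n ls)) 1 = 24 from ts]
    norm_num
  have h333 : ev (ρ (P n l333)) 1 = 20 := d333 h2 h3 hψ hn h20
  have e333 : om ρ (P n l333) = 2 := by
    rw [om_prime ρ Nat.prime_three (orderOf_P hn (by decide +kernel)), finrank_V, h333]
    norm_num
  have e7 : om ρ (P n l7) = (7 * (ev (ρ (P n l7)) 1 : ℚ) - 56) / 6 := by
    rw [om_prime ρ (by norm_num : Nat.Prime 7) (orderOf_P hn (by decide +kernel)), finrank_V]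
    norm_num only []
  have e9 : om ρ (P n l9) = (9 * (ev (ρ (P n l9)) 1 : ℚ) - 60) / 6 := by
    rw [om_nine ρ (orderOf_P hn (by decide +kernel)), ← P_pwl hn (m := 9) (by decide),
      ev_cj hn ρ (x := pwl l9 3) (c := [(0, 3), (3, 2), (1, 6), (4, 5), (5, 8), (8, 7)]) (r := l333) (by decide) (by decide) (by decide)
        (by decide +kernel), h333]
    norm_num only []
  have h8 : ((8 : ℕ) : F) ≠ 0 := by simpa only [_root_.Nat.cast_ofNat, _root_.ne_eq, _root_.Nat.reducePow] using two_pow_ne h2 3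
  have h56 : ((56 : ℕ) : F) ≠ 0 := by
    have h9 : ((56 : ℕ) : F) = ((8 : ℕ) : F) * 7 := by norm_num
    rw [h9]
    exact mul_ne_zero h8 h7
  have h504 : ((504 : ℕ) : F) ≠ 0 := by
    have h9 : ((504 : ℕ) : F) = ((8 : ℕ) : F) * 7 * (3 * 3) := by norm_num
    rw [h9]
    exact mul_ne_zero (mul_ne_zero h8 h7) (mul_ne_zero h3 h3)
  have dR := dimC hn chkG_R8 chkC_R8 len_R8 (K := 8) rfl h8 cnt_R8 ρ
  have dR56 := dimC hn chkG_R56 chkC_R56 len_R56 (K := 8) rfl h56 cnt_R56 ρ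
  have dRL := dimC hn chkG_R8L chkC_R8L len_R8L (K := 8) rfl h8 cnt_R8L ρ
  have dL := dimC hn chkG_L28 chkC_L28 len_L28 (K := 8) rfl h504 cnt_L28 ρ
  simp only [r9t_eq, Finset.sum_range_succ, Finset.sum_range_zero, List.getD_cons_zero, List.getD_cons_succ, P_nil,
    e0, es, e333, e7, e9] at dR dR56 dRL dL
  have m1 : finrank F ↥(inv ρ (Tg n gR56)) ≤ finrank F ↥(inv ρ (Tg n gR8)) :=
    Submodule.finrank_mono (inv_mono (le_of_sub (by decide)))
  have m2 : finrank F ↥(inv ρ (Tg n gL28)) ≤ finrank F ↥(inv ρ (Tg n gR8L)) :=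
    Submodule.finrank_mono (inv_mono (le_of_sub (by decide)))
  show ev (ρ (P n l9)) 1 = 8
  generalize ev (ρ (P n l9)) 1 = d at *
  generalize ev (ρ (P n l7)) 1 = d7 at *
  generalize finrank F ↥(inv ρ (Tg n gR8)) = a at *
  generalize finrank F ↥(inv ρ (Tg n gR56)) = b at *
  generalize finrank F ↥(inv ρ (Tg n gR8L)) = a' at *
  generalize finrank F ↥(inv ρ (Tg n gL28)) = b' at *
  push_cast at dR dR56 dRL dL
  have k1 : (a : ℤ) = 0 := by
    have : (a : ℚ) = 0 := by linarith only [dR]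
    exact_mod_cast this
  have k2 : (a' : ℤ) = 0 := by
    have : (a' : ℚ) = 0 := by linarith only [dRL]
    exact_mod_cast this
  have k3 : (b : ℤ) = d7 - 8 := by
    have : (b : ℚ) = d7 - 8 := by linarith only [dR56]
    exact_mod_cast this
  have k4 : 6 * (b' : ℤ) = 3 * d7 - 24 + 3 * d - 24 := by
    have : 6 * (b' : ℚ) = 3 * d7 - 24 + 3 * d - 24 := by linarith only [dL]
    exact_mod_cast this
  omega

/-- conjugation with the transposition `(01)` -/
noncomputable def cjt (n : ℕ) [NeZero n] : ↥(alternatingGroup (Fin n)) →* ↥(alternatingGroup (Fin n)) :=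
  (MulAut.conjNormal (swap (Fin.ofNat n 0) (Fin.ofNat n 1)) : MulAut ↥(alternatingGroup (Fin n))).toMonoidHom

omit [Field F] [Finite F] in
theorem cjt_P {m : ℕ} (hm : m ≤ n) (h2 : 2 ≤ m) {l : List (ℕ × ℕ)} (hl : vl m l = true) :
    cjt n (P n l) = P n ((0, 1) :: (l ++ [(0, 1)])) := by
  have hv : vl m ((0, 1) :: (l ++ [(0, 1)])) = true := by
    rw [vl_iff] at hl ⊢
    refine ⟨?_, ?_⟩
    · rw [List.length_cons, List.length_append, List.length_singleton]
      omega
    · intro x hx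
      rcases List.mem_cons.1 hx with rfl | hx
      · exact ⟨by show 0 < m; omega, by show 1 < m; omega, by decide⟩
      · rcases List.mem_append.1 hx with hx | hx
        · exact hl.2 x hx
        · rw [List.mem_singleton] at hx
          subst hx
          exact ⟨by show 0 < m; omega, by show 1 < m; omega, by decide⟩
  apply Subtype.ext
  rw [coe_P hm hv]
  show ((MulAut.conjNormal (swap (Fin.ofNat n 0) (Fin.ofNat n 1)) (P n l) : ↥(alternatingGroup (Fin n))) : Perm (Fin n)) = _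
  rw [MulAut.conjNormal_apply, coe_P hm hl, pm_cons, pm_append, pm_cons, pm_nil, mul_one, swap_inv, mul_assoc]

omit [Field F] [Finite F] in
theorem cjt_inj {a : ↥(alternatingGroup (Fin n))} (h : cjt n a = 1) : a = 1 :=
  (MulAut.conjNormal (swap (Fin.ofNat n 0) (Fin.ofNat n 1)) : MulAut ↥(alternatingGroup (Fin n))).injective
    (h.trans (map_one _).symm)

include h2 h3 hψ in
/-- **`n ≥ 9`, `p ≠ 2, 3, 7`** -/
theorem nine5 (hn : 9 ≤ n) (h7 : (7 : F) ≠ 0) : ev (V F (ψ (P n l3))) 1 ≠ 20 := by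
  intro h20
  have hn8 : 8 ≤ n := by omega
  set ρ : Representation F ↥(alternatingGroup (Fin n)) (D1 → F) := MonoidHom.comp (V F) ψ with hρ
  have h9a : ev (ρ (P n l9)) 1 = 8 := d9 h2 h3 hψ hn h7 h20
  have hψ' : ∀ a, ad F ((ψ.comp (cjt n)) a) = 1 → a = 1 := fun a ha => cjt_inj (hψ _ ha)
  have h20' : ev (V F ((ψ.comp (cjt n)) (P n l3))) 1 = 20 := by
    show ev (V F (ψ (cjt n (P n l3)))) 1 = 20
    rw [cjt_P hn8 (by norm_num) (by decide)]
    have h4 := ev_cj hn8 ρ (x := (0, 1) :: (l3 ++ [(0, 1)])) (c := [(0, 1), (3, 6), (4, 5), (5, 7)]) (r := l3) (by decide) (by decide)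
      (by decide) (by decide) 1
    exact h4.trans h20
  have h9b : ev (ρ (P n l9b)) 1 = 8 := by
    have h4 := d9 h2 h3 hψ' hn h7 h20'
    have h5 : cjt n (P n l9) = P n l9b := by
      rw [cjt_P hn (by norm_num) (by decide), P_eq_iff hn (by decide) (by decide)]
      decide
    rw [← h5]
    exact h4
  have e0 : om ρ 1 = 56 := by rw [om_one, finrank_V]; norm_num
  have e3 : om ρ (P n l3) = 2 := by
    rw [om_prime ρ Nat.prime_three (orderOf_P hn8 (by decide +kernel)), finrank_V, show ev (ρ (P n l3)) 1 = 20 from h20]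
    norm_num
  have e33 : om ρ (P n l33) = 2 := by
    rw [om_prime ρ Nat.prime_three (orderOf_P hn8 (by decide +kernel)), finrank_V,
      show ev (ρ (P n l33)) 1 = 20 from d33 h2 h3 hψ hn8]
    norm_num
  have h333 : ev (ρ (P n l333)) 1 = 20 := d333 h2 h3 hψ hn h20
  have e333 : om ρ (P n l333) = 2 := by
    rw [om_prime ρ Nat.prime_three (orderOf_P hn (by decide +kernel)), finrank_V, h333]
    norm_num
  have e9 : om ρ (P n l9) = 2 := by
    rw [om_nine ρ (orderOf_P hn (by decide +kernel)), ← P_pwl hn (m := 9) (by decide),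
      ev_cj hn ρ (x := pwl l9 3) (c := [(0, 3), (3, 2), (1, 6), (4, 5), (5, 8), (8, 7)]) (r := l333) (by decide) (by decide) (by decide)
        (by decide +kernel), h333, h9a]
    norm_num
  have e9b : om ρ (P n l9b) = 2 := by
    rw [om_nine ρ (orderOf_P hn (by decide +kernel)), ← P_pwl hn (m := 9) (by decide),
      ev_cj hn ρ (x := pwl l9b 3) (c := [(1, 4), (4, 2), (2, 7), (7, 6), (6, 3), (3, 8)]) (r := l333) (by decide) (by decide) (by decide)
        (by decide +kernel), h333, h9b]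
    norm_num
  have h81 : ((81 : ℕ) : F) ≠ 0 := by simpa only [_root_.Nat.cast_ofNat, _root_.ne_eq, _root_.pow_zero, _root_.Nat.reducePow, _root_.one_mul] using three_pow_ne h2 h3 0 4
  have dW := dimC hn chkG_W81 chkC_W81 len_W81 (K := 8) rfl h81 cnt_W81 ρ
  simp only [r9t_eq, Finset.sum_range_succ, Finset.sum_range_zero, List.getD_cons_zero, List.getD_cons_succ, P_nil,
    e0, e3, e33, e333, e9, e9b] at dW
  generalize finrank F ↥(inv ρ (Tg n gW81)) = a at *
  push_cast at dW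
  have k1 : 3 * (a : ℤ) = 8 := by
    have : 3 * (a : ℚ) = 8 := by linarith only [dW]
    exact_mod_cast this
  omega

end

end Cfsg.Agent.R2.T1.Odd

private theorem dce_e10dc9aed7d0 : _root_.True := by
  try have : _root_.True := by simp only [_root_.Cfsg.Agent.R2.T1.Odd.cjt.congr_simp]
  exact _root_.True.intro
end

-- part: R2/T1/Nodd/B
section
set_option linter.all false
open scoped Cfsg.Agent.FastGrp

/-- decoders of the packed data (elaboration time only) -/
private noncomputable def pk61d (b S i : Nat) : Nat := Nat.mod (Nat.shiftRight S (Nat.mul b i)) (Nat.shiftLeft (nat_lit 1) b)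
private noncomputable def pk61c {α : Type} (t : Nat) (a : α) (f : Nat → α) : α := Nat.rec a (fun k _ => f k) t
private noncomputable def pk61f {α : Type} (t : Nat) (f : Nat → α) : α := Nat.rec (f Nat.zero) (fun k _ => f (Nat.succ k)) t
private noncomputable def pk61l {α : Type} (f : Nat → α) (s e : Nat) (tl : List α) : List α :=
  pk61f e fun e => Nat.rec tl (fun k ih => List.cons (pk61f (Nat.sub e (Nat.succ k)) f) ih) (Nat.sub e s)
private noncomputable def pk61o {α : Type} (O : (n : Nat) → OfNat α n → α) (I : (n : Nat) → OfNat α n) (t : Nat) : α :=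
  pk61c t (O (nat_lit 0) (I (nat_lit 0))) fun k => O (Nat.succ k) (I (Nat.succ k))

-- part: R2/T1/Nodd/TabB
section
/-!
# S5771, NODD: tables of subgroups of `A_10` (helper25)

`F = 5²:2` (order 50), `T = 5²:8` (order 200), `D` (order 16).
-/

set_option autoImplicit false
set_option maxRecDepth 100000

namespace Cfsg.Agent.R2.T1.Nodd

open Cfsg.Agent.R2.T1.Odd

/-- representatives of the classes: `1`, `2⁴`, `44`, `5`, `55`, `82` -/
noncomputable def r10 : List (List (ℕ × ℕ)) :=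
  (by
  refine (?fq9001 : ((pk61l (fun i1 => ((fun g1 : Nat → Nat => pk61l (fun i2 => (_root_.Prod.mk (pk61d (nat_lit 4) 
    (nat_lit 0x865432108765321032106542106420) i2) (pk61d (nat_lit 4) 
    (nat_lit 0x976543219876432143217653217531) i2))) (g1 i1) (g1 (Nat.succ i1)) List.nil) fun j => (pk61d (nat_lit 5) 
    (nat_lit 0x7ace51000) j))) (nat_lit 0) (nat_lit 6) List.nil) : List (List (ℕ × ℕ)))
    = ?xq9001 → (List (List (ℕ × ℕ)))) ?hq9001; (case hq9001 => (set_option maxRecDepth 1000000 in conv => lhs; reduce)); intro _; exact ?xq9001 : List (List (ℕ × ℕ)))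

def gF : List (List (ℕ × ℕ)) :=
  [[(0, 1), (1, 2), (2, 3), (3, 4)], [(5, 6), (6, 7), (7, 8), (8, 9)], [(1, 4), (2, 3), (6, 9), (7, 8)]]

noncomputable def eF : List (List ℕ) :=
  (by
  refine (?fq9002 : ((pk61l (fun i1 => ((fun g1 : Nat → Nat => pk61l (fun i2 => (pk61d (nat_lit 2) 
    (nat_lit 0x542685816819620941581405580985a1819882494561416040561826586882265545841620018a546024) i2)) (g1 i1) (g1 (Nat.succ i1)) List.nil) fun j => (pk61d (nat_lit 8) 
    (nat_lit 0xaba5a09b96918c87827d78736f6b67635f5b57534f4b47433f3b3835322f2c292623201d1a1714110f0d0b0907050302010000) j))) (nat_lit 0) (nat_lit 50) List.nil) : List (List ℕ))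
    = ?xq9002 → (List (List ℕ))) ?hq9002; (case hq9002 => (set_option maxRecDepth 1000000 in conv => lhs; reduce)); intro _; exact ?xq9002 : List (List ℕ))

noncomputable def dF : List (ℕ × List (ℕ × ℕ)) :=
  (by
  refine (?fq9003 : (fun (On : (n : Nat) → OfNat Nat n → Nat) (In : (n : Nat) → OfNat Nat n) => ((pk61l (fun i1 => (_root_.Prod.mk (pk61o On In (pk61d (nat_lit 3) 
    (nat_lit 0x2486430c30c30986184b25925c30964970b2d8) i1)) ((fun g1 : Nat → Nat => pk61l (fun i2 => (_root_.Prod.mk (pk61o On In (pk61d (nat_lit 4) 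
    (nat_lit 0x986431264739103746281054313648291028463710697542309864216975432197643185432076854176217954312197654230286975402749381069754397642197654321294836105430879543203824915054108795412157643128976540697540274938103849271097654339472610795430587643205431795410587641976540384927105764305421576410432150) i2)) (pk61o On In (pk61d (nat_lit 4) 
    (nat_lit 0x798243826473959374628585237364829592846375869751237983428697543289724318543289285489348795233489765123128697546274938586975489734289765432729483658541187954327386491585412879543498762312897654869754627493856384927589765483947265879541918764326243879541928764897654638492759876416342987641987615) i2)))) (g1 i1) (g1 (Nat.succ i1)) List.nil) fun j => (pk61d (nat_lit 9) 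
    (nat_lit 0x49a41188843208fc7a3b9cce06d361a8d06532180b8582a9489c4a24110803e1d8e86e33180b050251087834180a8481e0b058200c030000000) j)))) (nat_lit 0) (nat_lit 50) List.nil) : List (ℕ × List (ℕ × ℕ))))
    = ?xq9003 → (List (ℕ × List (ℕ × ℕ)))) ?hq9003; (case hq9003 => (set_option maxRecDepth 1000000 in conv => lhs; reduce)); intro _; exact ?xq9003 (@OfNat.ofNat Nat) instOfNatNat : List (ℕ × List (ℕ × ℕ)))

def gT : List (List (ℕ × ℕ)) :=
  [[(0, 1), (1, 2), (2, 3), (3, 4)], [(5, 6), (6, 7), (7, 8), (8, 9)], [(0, 5), (1, 6), (6, 2), (2, 7), (7, 4),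
   (4, 9), (9, 3), (3, 8)]]

noncomputable def eT : List (List ℕ) :=
  (by
  refine (?fq9004 : ((pk61l (fun i1 => ((fun g1 : Nat → Nat => pk61l (fun i2 => (pk61d (nat_lit 2) 
    (nat_lit 0x1aaa88aaa68aaa22aa2a2aa88aa6a8aa2a2aa88a8aa8aa2a2aa88a6aa8a2aa2a8a8aaa226aaa2aaa1aaa8aaa06aaa2aa22aa05aaa8aa68aa88aa08aaaa2a2a2aa22aaa8a6a8a8a8a0a8aa88aaaa22aa2a2a2aa2200556aa88aa80aa8a8a8aa88aaa9aaa2aa86aa8aa82aa16a81aaa2a88aa05aaa2a68aa22a08aaa8a2a2968aa228016aa89aa28a882a2168aa220154015aaa0aa85aa28a80062a88aaa6aa2aa5aa1aa8aa0aa16a06aa2a22a05aa8a68a88a08a016006aa22a25a21a2062a22222055015005aa86a88a80a8168018a88288188008aa9aa2a96a1aa2a0a85a06a8a2281601aa2688a218a22088021541501401aa0a85a0680628862088022a9a8a9686a2828581a8988880954541406a1a0a062202002a68a5868825450686080298946024) i2)) (g1 i1) (g1 (Nat.succ i1)) List.nil) fun j => (pk61d (nat_lit 11) 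
    (nat_lit 0x4929132023bc6e8cb17229c4a8830e217c2683b05205c027f4fc9f53e27b4f49e53c2774ec9d53a2734e49c53826f4dc9b53626b4d49a5342674cc995322634c4985b045fabd977ae85c2b6969acc58aaf95bab0552a894da9451aa193fa784e29a931a5c4aa93923a404728c915a2443c8610920c40c800fd1f43dc7a0f11dc3ac740e51c437c6e0d91ac34c680cd19431c620c117c2ec5c0b51642bc560a914c28c5009d9362624b09392223a4608990e2124107f8fa1ea3c0758e61c23706b8d219a320618be1722d0578aa14a2804d89712623c458871061fc3d8770e61bc358670c617c2d8570a613c258470860fc1d83806a0c81782c0520981182003a0680b81402203c0680b01201c0280300400400000) j))) (nat_lit 0) (nat_lit 200) List.nil) : List (List ℕ))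
    = ?xq9004 → (List (List ℕ))) ?hq9004; (case hq9004 => (set_option maxRecDepth 1000000 in conv => lhs; reduce)); intro _; exact ?xq9004 : List (List ℕ))

noncomputable def dT : List (ℕ × List (ℕ × ℕ)) :=
  let y0 : List (ℕ × List (ℕ × ℕ)) := (by
  refine (?fq9005 : (fun (On : (n : Nat) → OfNat Nat n → Nat) (In : (n : Nat) → OfNat Nat n) => (pk61l (fun i0 => (_root_.Prod.mk (pk61o On In (nat_lit 5)) ((fun g0 : Nat → Nat => pk61l (fun i1 => (_root_.Prod.mk (pk61o On In (pk61d (nat_lit 4) 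
    (nat_lit 0x26539781398183265710) i1)) (pk61o On In (pk61d (nat_lit 4) 
    (nat_lit 0x42653978629898326571) i1)))) (g0 i0) (g0 (Nat.succ i0)) List.nil) fun j => (pk61d (nat_lit 5) 
    (nat_lit 0xa3100) j)))) (nat_lit 0) (nat_lit 3) List.nil : List (ℕ × List (ℕ × ℕ))))
    = ?xq9005 → (List (ℕ × List (ℕ × ℕ)))) ?hq9005; (case hq9005 => (set_option maxRecDepth 1000000 in conv => lhs; reduce)); intro _; exact ?xq9005 (@OfNat.ofNat Nat) instOfNatNat : List (ℕ × List (ℕ × ℕ)))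
  let y1 : List (ℕ × List (ℕ × ℕ)) := (by
  refine (?fq9006 : (fun (On : (n : Nat) → OfNat Nat n → Nat) (In : (n : Nat) → OfNat Nat n) (tl : List (ℕ × List (ℕ × ℕ))) => (pk61l (fun i0 => (_root_.Prod.mk (pk61o On In (pk61d (nat_lit 3) 
    (nat_lit 0x5b6db6db6db55b51a95a954aaa928954aa555) i0)) ((fun g0 : Nat → Nat => pk61l (fun i1 => (_root_.Prod.mk (pk61o On In (pk61d (nat_lit 4) 
    (nat_lit 0x8534919375816783215632717325109536717326105873913268719731583261853210875324618397515732468176543132465175638152639195421054312673985176854038954195328198357167543186754073495176542195412067348167542185936179654210387965417965412076217628541095423957102867541079654232675810765423105964317310954130579321) i1)) (pk61o On In (pk61d (nat_lit 4) 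
    (nat_lit 0x6853494967584678398463978639512953679732616587299426874976958426685391987532466829759573246897854393246597463874263989542385234267398597385423895469532849865786754338675486349597853289531226734886753278293687965423238796548796531289349732854189546895713286754187965493267581978542318596436781895413657948) i1)))) (g0 i0) (g0 (Nat.succ i0)) List.nil) fun j => (pk61d (nat_lit 9) 
    (nat_lit 0x2612a9247a31128641a00fa7b3c1d4e26e3519cc8612f16cb2552913c98492310c803d1d0dc6831168a44a230f87434160983c16080300c00) j)))) (nat_lit 0) (nat_lit 49) tl : List (ℕ × List (ℕ × ℕ))))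
    = ?xq9006 → (List (ℕ × List (ℕ × ℕ)))) ?hq9006; (case hq9006 => (set_option maxRecDepth 1000000 in conv => lhs; reduce)); intro _; exact ?xq9006 (@OfNat.ofNat Nat) instOfNatNat y0 : List (ℕ × List (ℕ × ℕ)))
  let y2 : List (ℕ × List (ℕ × ℕ)) := (by
  refine (?fq9007 : (fun (On : (n : Nat) → OfNat Nat n → Nat) (In : (n : Nat) → OfNat Nat n) (tl : List (ℕ × List (ℕ × ℕ))) => (pk61l (fun i0 => (_root_.Prod.mk (pk61o On In (pk61d (nat_lit 3) 
    (nat_lit 0x255aad2a9b55a6d91536d56934db4aa4db69) i0)) ((fun g0 : Nat → Nat => pk61l (fun i1 => (_root_.Prod.mk (pk61o On In (pk61d (nat_lit 4) 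
    (nat_lit 0x854179543185964083659126587391675423102369717536106975423059642175329185432059327163879179654130785361936197654230326510937510364829103746281028596410328791543065387167534891527361596423109732515736915410879541325157643193687187532610634895712869754076954136795187954320697543216853217539103510532128976540) i1)) (pk61o On In (pk61d (nat_lit 4) 
    (nat_lit 0x285487952338596448265942658739867542314836979853618697512385963267548918543285936746387987965413948526894689765123932651698751736482959374628532859641632879854146538726753489948736859642318973658574698541287954648598762329368798753261263489571286975487695484679518795432869754324685396758916851783612897654) i1)))) (g0 i0) (g0 (Nat.succ i0)) List.nil) fun j => (pk61d (nat_lit 9) 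
    (nat_lit 0x132974a2451c8a4320d007c3c9d8e670369a4cc6430174b456291389649231087e3b1c0d46630170ac50241007032160903816080301000) j)))) (nat_lit 0) (nat_lit 48) tl : List (ℕ × List (ℕ × ℕ))))
    = ?xq9007 → (List (ℕ × List (ℕ × ℕ)))) ?hq9007; (case hq9007 => (set_option maxRecDepth 1000000 in conv => lhs; reduce)); intro _; exact ?xq9007 (@OfNat.ofNat Nat) instOfNatNat y1 : List (ℕ × List (ℕ × ℕ)))
  let y3 : List (ℕ × List (ℕ × ℕ)) := (by
  refine (?fq9008 : (fun (On : (n : Nat) → OfNat Nat n → Nat) (In : (n : Nat) → OfNat Nat n) (tl : List (ℕ × List (ℕ × ℕ))) => (pk61l (fun i0 => (_root_.Prod.mk (pk61o On In (pk61d (nat_lit 3) 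
    (nat_lit 0x5a8d92526aa6ab49b4d48db4daaab2486a56a) i0)) ((fun g0 : Nat → Nat => pk61l (fun i1 => (_root_.Prod.mk (pk61o On In (pk61d (nat_lit 4) 
    (nat_lit 0x98753153978196218540976543212639812647391098643128463710693487517954306975437834918769541073219765433246758196542123659136591079541058764176325153497169754053918769542021897540587643207832105328717532819765407324619573819654319583616541573291769864219764312157643053267176954297542159367157326810965410) i1)) (pk61o On In (pk61d (nat_lit 4) 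
    (nat_lit 0x49875665297879321854897654324263988264739579824392846375269348758795418697546783492876954367488976549324675879854348365983659187954192876484639586349786975476293876954232189754918764326783916532879763288976549732464957687985422958368654857369897983428972433498764195426787695389754385946795732681798531) i1)))) (g0 i0) (g0 (Nat.succ i0)) List.nil) fun j => (pk61d (nat_lit 9) 
    (nat_lit 0x25d289146a250c823f9ecee74389b8d46832984bc5b2c154a44f261248e431f8ec7035190bc58291308c421e0e8682e16098401a0a0380c00) j)))) (nat_lit 0) (nat_lit 49) tl : List (ℕ × List (ℕ × ℕ))))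
    = ?xq9008 → (List (ℕ × List (ℕ × ℕ)))) ?hq9008; (case hq9008 => (set_option maxRecDepth 1000000 in conv => lhs; reduce)); intro _; exact ?xq9008 (@OfNat.ofNat Nat) instOfNatNat y2 : List (ℕ × List (ℕ × ℕ)))
  (by
  refine (?fq9009 : (fun (On : (n : Nat) → OfNat Nat n → Nat) (In : (n : Nat) → OfNat Nat n) (tl : List (ℕ × List (ℕ × ℕ))) => (pk61l (fun i0 => (_root_.Prod.mk (pk61o On In (pk61d (nat_lit 3) 
    (nat_lit 0xa9b52aada95724a9555d4ad55c8ad6ad72bad8) i0)) ((fun g0 : Nat → Nat => pk61l (fun i1 => (_root_.Prod.mk (pk61o On In (pk61d (nat_lit 4) 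
    (nat_lit 0x8654106953815764102683975183246571769542109754319351759641587361836971853261965413208654206579348138249150274938109764212948361073985197541087596410369710654257931021532710975413208759642093275172536165421032957127493810384927103947261075964232795193215431759642109736515361384927106348515421573610432150) i1)) (pk61o On In (pk61d (nat_lit 4) 
    (nat_lit 0x2865434695389876414268397598324657876954218975424965875964948726482697789426798541323865422657934873864915627493858973427294836567298589753128759643836971865365798134863971897541323875964269487594853686542164895762749385638492758394726587596383679589366243875964218974657846638492752634856342987361987615) i1)))) (g0 i0) (g0 (Nat.succ i0)) List.nil) fun j => (pk61d (nat_lit 9) 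
    (nat_lit 0x984aa491e8b43a0d007e3d9e0ea72371acce632f970b05529138964923114843e1d0dc6831170a84c220f87034180a0441e0b058200c030000000) j)))) (nat_lit 0) (nat_lit 51) tl : List (ℕ × List (ℕ × ℕ))))
    = ?xq9009 → (List (ℕ × List (ℕ × ℕ)))) ?hq9009; (case hq9009 => (set_option maxRecDepth 1000000 in conv => lhs; reduce)); intro _; exact ?xq9009 (@OfNat.ofNat Nat) instOfNatNat y3 : List (ℕ × List (ℕ × ℕ)))

def gD : List (List (ℕ × ℕ)) :=
  [[(0, 1), (1, 2), (2, 3), (3, 4), (4, 5), (5, 6), (6, 7), (8, 9)], [(1, 7), (2, 6), (3, 5), (8, 9)]]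

def eD : List (List ℕ) :=
  [[], [0], [1], [0, 0], [0, 1], [1, 0], [0, 0, 0], [0, 0, 1], [1, 0, 0], [1, 0, 1], [0, 0, 0, 0], [0, 0, 0, 1],
   [1, 0, 0, 0], [1, 0, 0, 1], [0, 0, 0, 0, 0], [1, 0, 0, 0, 0]]

noncomputable def dD : List (ℕ × List (ℕ × ℕ)) :=
  (by
  refine (?fq9010 : (fun (On : (n : Nat) → OfNat Nat n → Nat) (In : (n : Nat) → OfNat Nat n) => ((pk61l (fun i1 => (_root_.Prod.mk (pk61o On In (pk61d (nat_lit 3) 
    (nat_lit 0x351269349468) i1)) ((fun g1 : Nat → Nat => pk61l (fun i2 => (_root_.Prod.mk (pk61o On In (pk61d (nat_lit 4) 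
    (nat_lit 0x2869754031237561435175315341832172453860865973208521347165736321634970) i2)) (pk61o On In (pk61d (nat_lit 4) 
    (nat_lit 0x1286975475423756243567236524956791245386186597329763624746575642863497) i2)))) (g1 i1) (g1 (Nat.succ i1)) List.nil) fun j => (pk61d (nat_lit 7) 
    (nat_lit 0x467cf1b325ca931e2c4870a0c00000) j)))) (nat_lit 0) (nat_lit 16) List.nil) : List (ℕ × List (ℕ × ℕ))))
    = ?xq9010 → (List (ℕ × List (ℕ × ℕ)))) ?hq9010; (case hq9010 => (set_option maxRecDepth 1000000 in conv => lhs; reduce)); intro _; exact ?xq9010 (@OfNat.ofNat Nat) instOfNatNat : List (ℕ × List (ℕ × ℕ)))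

theorem chkG_F : chkG 10 gF eF = true := Fq.chkG_of 181 (by decide +kernel)
theorem chkC_F : chkC 10 gF eF [] r10 dF = true := Fq.chkC_of (by decide +kernel)
theorem len_F : eF.length = 50 := by decide +kernel
theorem cnt_F : (List.range 6).map (fun k => (dF.map Prod.fst).count k) = [1, 25, 0, 8, 16, 0] := by decide +kernel

theorem chkG_T : chkG 10 gT eT = true := Fq.chkG_of 4351 (by decide +kernel)
theorem chkC_T : chkC 10 gT eT [] r10 dT = true := Fq.chkC_of (by decide +kernel)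
theorem len_T : eT.length = 200 := by decide +kernel
theorem cnt_T : (List.range 6).map (fun k => (dT.map Prod.fst).count k) = [1, 25, 50, 8, 16, 100] := by decide +kernel

theorem chkG_D : chkG 10 gD eD = true := Fq.chkG_of 49 (by decide +kernel)
theorem chkC_D : chkC 10 gD eD [] r10 dD = true := Fq.chkC_of (by decide +kernel)
theorem len_D : eD.length = 16 := by decide +kernel
theorem cnt_D : (List.range 6).map (fun k => (dD.map Prod.fst).count k) = [1, 9, 2, 0, 0, 4] := by decide +kernel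

end Cfsg.Agent.R2.T1.Nodd
end

-- part: R2/T1/Nodd/B
section
/-!
# S5771, NODD: `n ≥ 10`, characteristic different from 2 and 5 (helper25)

* `no_ten` : for `n ≥ 10` and `2, 5 ≠ 0` in `F`, the alternating group does not embed in `E₇` (lifted to the simply
  connected group).
-/

set_option autoImplicit false
set_option maxRecDepth 100000

namespace Cfsg.Agent.R2.T1.Nodd

open Cfsg Cfsg.Lie Module
open Cfsg.Agent.H943.E7V.Block (D1 rho)
open Cfsg.Agent.H952.F4 (ev es)
open Cfsg.Agent.R2.T1 Cfsg.Agent.R2.T1.Art Cfsg.Agent.R2.T1.Odd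

universe u

/-- the 5-cycle and the product of two 5-cycles, the elements of type `82` -/
def l5 : List (ℕ × ℕ) := [(0, 1), (1, 2), (2, 3), (3, 4)]
def l55 : List (ℕ × ℕ) := [(0, 1), (1, 2), (2, 3), (3, 4), (5, 6), (6, 7), (7, 8), (8, 9)]
def l82 : List (ℕ × ℕ) := [(0, 1), (1, 2), (2, 3), (3, 4), (4, 5), (5, 6), (6, 7), (8, 9)]

theorem r10_eq : r10 = [[], ls, l44, l5, l55, l82] := by decide

/-- a word is an element of the group -/
theorem mem_of_word {n m : ℕ} [NeZero n] (hm : m ≤ n) {gens : List (List (ℕ × ℕ))} (h : gens.all (vl m) = true)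
    {l : List (ℕ × ℕ)} (hl : vl m l = true) (w : List ℕ) (hc : cd m l = cd m (wd gens w)) : P n l ∈ Tg n gens := by
  rw [(P_eq_iff hm hl (vl_wd h w)).2 hc]
  exact P_wd_mem hm h w

theorem Tg_le {n : ℕ} [NeZero n] {gens : List (List (ℕ × ℕ))} {T : Subgroup ↥(alternatingGroup (Fin n))}
    (h : ∀ g ∈ gens, P n g ∈ T) : Tg n gens ≤ T := by
  unfold Tg
  rw [Subgroup.closure_le]
  rintro _ ⟨g, hg, rfl⟩
  exact h g hg

section
variable {n : ℕ} [NeZero n] (hn : 10 ≤ n)
include hn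

theorem gF_le : Tg n gF ≤ Tg n gT := by
  refine Tg_le fun g hg => ?_
  have hT : gT.all (vl 10) = true := by decide +kernel
  have hg' : g = gF.getD 0 [] ∨ g = gF.getD 1 [] ∨ g = gF.getD 2 [] := by
    revert g
    decide +kernel
  rcases hg' with rfl | rfl | rfl
  · exact mem_of_word hn hT (by decide +kernel) [0] (by decide +kernel)
  · exact mem_of_word hn hT (by decide +kernel) [1] (by decide +kernel)
  · exact mem_of_word hn hT (by decide +kernel) [2, 2, 2, 2] (by decide +kernel)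

variable {F : Type u} [Field F] [Finite F] (h2 : (2 : F) ≠ 0) (h5 : (5 : F) ≠ 0)
  {ψ : ↥(alternatingGroup (Fin n)) →* Gh F} (hψ : ∀ a, ad F (ψ a) = 1 → a = 1)

include h5 hψ in
theorem ev_five {l c : List (ℕ × ℕ)} (hl : vl 10 l = true) (hc : vl 10 c = true) (h1 : cd 10 l ≠ cd 10 [])
    (hp : cd 10 (pwl l 5) = cd 10 []) (hlc : cd 10 (c ++ l) = cd 10 (pwl l 2 ++ c)) :
    ev (V F (ψ (P n l))) 1 = 16 := by
  refine five_rat h5 (x := ψ (P n l)) (g := ψ (P n c)) ?_ ?_ ?_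
  · rw [← map_pow, P_pow_one hn hl hp, map_one]
  · intro h
    have h3 := hψ (P n l) (by rw [h, map_one])
    exact P_ne hn hl rfl h1 (by rw [h3, P_nil])
  · rw [← map_inv, ← map_mul, ← map_mul, ← map_pow]
    congr 1
    rw [mul_inv_eq_iff_eq_mul, ← P_pwl hn hl, ← P_append hn hc hl, ← P_append hn (vl_pwl hl 2) hc]
    exact (P_eq_iff hn (vl_append hc hl) (vl_append (vl_pwl hl 2) hc)).2 hlc

include h2 h5 hψ in
/-- **`n ≥ 10`, `p ≠ 2, 5`** -/
theorem no_ten : False := by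
  have hn8 : 8 ≤ n := by omega
  set ρ : Representation F ↥(alternatingGroup (Fin n)) (D1 → F) := MonoidHom.comp (V F) ψ with hρ
  obtain ⟨-, ts, -, t44, -⟩ := types hn8 h2 hψ
  have e5 : ev (ρ (P n l5)) 1 = 16 := ev_five hn h5 hψ (l := l5) (c := [(1, 2), (2, 4), (4, 3), (5, 6)])
    (by decide +kernel) (by decide +kernel) (by decide +kernel) (by decide +kernel) (by decide +kernel)
  have e55 : ev (ρ (P n l55)) 1 = 16 := ev_five hn h5 hψ (l := l55)
    (c := [(1, 2), (2, 4), (4, 3), (6, 7), (7, 9), (9, 8)])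
    (by decide +kernel) (by decide +kernel) (by decide +kernel) (by decide +kernel) (by decide +kernel)
  have ts' : ev (ρ (P n ls)) 1 = 24 := ts
  have t44' : ev (ρ (P n l44)) 1 = 12 := t44
  have o0 : om ρ 1 = 56 := by rw [om_one, finrank_V]; norm_num
  have os : om ρ (P n ls) = -8 := by
    rw [om_prime ρ Nat.prime_two (orderOf_P hn8 (by decide +kernel)), finrank_V, ts']
    norm_num
  have o44 : om ρ (P n l44) = 0 := by
    rw [om_four ρ (orderOf_P hn8 (by decide +kernel)), ← P_pwl hn8 (m := 8) (by decide),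
      ev_P_conj hn8 ρ (x := pwl l44 2) (c := [(1, 2), (5, 6)]) (r := ls) (by decide) (by decide) (by decide) (by decide),
      ts', t44']
    norm_num
  have o5 : om ρ (P n l5) = 6 := by
    rw [om_prime ρ Nat.prime_five (orderOf_P hn (by decide +kernel)), finrank_V, e5]
    norm_num
  have o55 : om ρ (P n l55) = 6 := by
    rw [om_prime ρ Nat.prime_five (orderOf_P hn (by decide +kernel)), finrank_V, e55]
    norm_num
  have h50 : ((50 : ℕ) : F) ≠ 0 := by
    have : ((50 : ℕ) : F) = 2 * 5 * 5 := by norm_num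
    rw [this]
    exact mul_ne_zero (mul_ne_zero h2 h5) h5
  have h200 : ((200 : ℕ) : F) ≠ 0 := by
    have : ((200 : ℕ) : F) = 2 * 2 * 2 * 5 * 5 := by norm_num
    rw [this]
    exact mul_ne_zero (mul_ne_zero (mul_ne_zero (mul_ne_zero h2 h2) h2) h5) h5
  have h16 : ((16 : ℕ) : F) ≠ 0 := by simpa using two_pow_ne h2 4
  have dF := dimC hn chkG_F chkC_F len_F (K := 6) rfl h50 cnt_F ρ
  have dT := dimC hn chkG_T chkC_T len_T (K := 6) rfl h200 cnt_T ρ
  have dD := dimC hn chkG_D chkC_D len_D (K := 6) rfl h16 cnt_D ρ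
  simp only [r10_eq, Finset.sum_range_succ, Finset.sum_range_zero, List.getD_cons_zero, List.getD_cons_succ, P_nil,
    o0, os, o44, o5, o55] at dF dT dD
  have hle : finrank F ↥(inv ρ (Tg n gT)) ≤ finrank F ↥(inv ρ (Tg n gF)) := Submodule.finrank_mono (inv_mono (gF_le hn))
  push_cast at dF dT dD
  have z1 : (finrank F ↥(inv ρ (Tg n gF)) : ℚ) = 0 := by linarith
  have z2 : finrank F ↥(inv ρ (Tg n gF)) = 0 := by exact_mod_cast z1
  have z3 : finrank F ↥(inv ρ (Tg n gT)) = 0 := by omega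
  rw [z3] at dT
  have z4 : om ρ (P n l82) = 0 := by
    push_cast at dT
    linarith
  rw [z4] at dD
  have z5 : (finrank F ↥(inv ρ (Tg n gD)) : ℚ) = -1 := by linarith
  have z6 : (0 : ℚ) ≤ (finrank F ↥(inv ρ (Tg n gD)) : ℚ) := Nat.cast_nonneg _
  linarith

end

end Cfsg.Agent.R2.T1.Nodd
end
end

-- part: R2/T1/Nodd/A
section
prune_inst 0x10000000000000
set_option linter.all false
open scoped Cfsg.Agent.FastGrp

-- part: R2/T1/Nodd/TabA
section
/-!
# S5771, NODD: tables of subgroups of `A_11` (helper25)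

`R = 2³` (regular on 8 points), `Z = R × 3`.
-/

set_option autoImplicit false
set_option maxRecDepth 100000

namespace Cfsg.Agent.R2.T1.Nodd

open Cfsg.Agent.R2.T1.Odd

/-- representatives of the classes: `1`, `2⁴`, `3`, `32⁴` -/
def r11 : List (List (ℕ × ℕ)) :=
  [[], [(0, 1), (2, 3), (4, 5), (6, 7)], [(0, 1), (1, 2)], [(0, 1), (2, 3), (4, 5), (6, 7), (8, 9), (9, 10)]]

def gR : List (List (ℕ × ℕ)) :=
  [[(0, 1), (2, 3), (4, 5), (6, 7)], [(0, 2), (1, 3), (4, 6), (5, 7)], [(0, 4), (1, 5), (2, 6), (3, 7)]]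

def eR : List (List ℕ) :=
  [[], [0], [1], [2], [1, 0], [2, 0], [2, 1], [2, 1, 0]]

def dR : List (ℕ × List (ℕ × ℕ)) :=
  [(0, []), (1, []), (1, [(1, 2), (5, 6)]), (1, [(1, 4), (4, 2), (3, 5), (5, 6)]), (1, [(1, 3), (3, 2), (5, 7),
   (7, 6)]), (1, [(1, 5), (5, 7), (7, 6), (6, 3), (3, 4), (4, 2)]), (1, [(1, 6), (6, 3), (3, 7), (7, 5), (5, 4),
   (4, 2)]), (1, [(1, 7), (7, 4), (4, 2), (3, 6)])]

def gZ : List (List (ℕ × ℕ)) :=
  [[(0, 1), (2, 3), (4, 5), (6, 7)], [(0, 2), (1, 3), (4, 6), (5, 7)], [(0, 4), (1, 5), (2, 6), (3, 7)], [(8, 9),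
   (9, 10)]]

def eZ : List (List ℕ) :=
  [[], [0], [1], [2], [3], [1, 0], [2, 0], [2, 1], [3, 0], [3, 1], [3, 2], [3, 3], [2, 1, 0], [3, 1, 0], [3, 2,
   0], [3, 2, 1], [3, 3, 0], [3, 3, 1], [3, 3, 2], [3, 2, 1, 0], [3, 3, 1, 0], [3, 3, 2, 0], [3, 3, 2, 1], [3, 3,
   2, 1, 0]]

def dZ : List (ℕ × List (ℕ × ℕ)) :=
  [(0, []), (1, []), (1, [(1, 2), (5, 6)]), (1, [(1, 4), (4, 2), (3, 5), (5, 6)]), (2, [(0, 8), (8, 5), (5, 2),
   (2, 10), (10, 7), (7, 4), (4, 1), (1, 9), (9, 6), (6, 3)]), (1, [(1, 3), (3, 2), (5, 7), (7, 6)]), (1, [(1, 5),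
   (5, 7), (7, 6), (6, 3), (3, 4), (4, 2)]), (1, [(1, 6), (6, 3), (3, 7), (7, 5), (5, 4), (4, 2)]), (3, []), (3,
   [(1, 2), (5, 6)]), (3, [(1, 4), (4, 2), (3, 5), (5, 6)]), (2, [(0, 8), (8, 5), (5, 2), (2, 9), (9, 6), (6, 3),
   (3, 1), (1, 10), (10, 7), (7, 4)]), (1, [(1, 7), (7, 4), (4, 2), (3, 6)]), (3, [(1, 3), (3, 2), (5, 7), (7,
   6)]), (3, [(1, 5), (5, 7), (7, 6), (6, 3), (3, 4), (4, 2)]), (3, [(1, 6), (6, 3), (3, 7), (7, 5), (5, 4), (4,
   2)]), (3, [(0, 1), (9, 10)]), (3, [(0, 2), (2, 1), (5, 6), (9, 10)]), (3, [(0, 4), (4, 2), (2, 1), (3, 5), (5,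
   6), (9, 10)]), (3, [(1, 7), (7, 4), (4, 2), (3, 6)]), (3, [(0, 3), (3, 2), (2, 1), (5, 7), (7, 6), (9, 10)]),
   (3, [(0, 5), (5, 7), (7, 6), (6, 3), (3, 4), (4, 2), (2, 1), (9, 10)]), (3, [(0, 6), (6, 3), (3, 7), (7, 5),
   (5, 4), (4, 2), (2, 1), (9, 10)]), (3, [(0, 7), (7, 4), (4, 2), (2, 1), (3, 6), (9, 10)])]

theorem chkG_R : chkG 11 gR eR = true := by decide +kernel
theorem chkC_R : chkC 11 gR eR [] r11 dR = true := by decide +kernel
theorem len_R : eR.length = 8 := by decide +kernel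
theorem cnt_R : (List.range 4).map (fun k => (dR.map Prod.fst).count k) = [1, 7, 0, 0] := by decide +kernel

theorem chkG_Z : chkG 11 gZ eZ = true := by decide +kernel
theorem chkC_Z : chkC 11 gZ eZ [] r11 dZ = true := by decide +kernel
theorem len_Z : eZ.length = 24 := by decide +kernel
theorem cnt_Z : (List.range 4).map (fun k => (dZ.map Prod.fst).count k) = [1, 7, 2, 14] := by decide +kernel

end Cfsg.Agent.R2.T1.Nodd
end

-- part: R2/T1/Nodd/A
section
/-!
# S5771, NODD: `n ≥ 11`, characteristic different from 2 and 3 (helper25)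

* `d3_cases` : for `n ≥ 8` and `2, 3 ≠ 0` in `F` the 3-cycles have 20 or 32 eigenvalues 1;
* `no_eleven` : for `n ≥ 11` and `2, 3 ≠ 0` in `F`, the alternating group does not embed in `E₇` (lifted to the simply
  connected group);
* `no_odd` : the same for all odd characteristics, `n ≥ 11`.
-/

set_option autoImplicit false
set_option maxRecDepth 100000

namespace Cfsg.Agent.R2.T1.Nodd

open Cfsg Cfsg.Lie Module
open Cfsg.Agent.H943.E7V.Block (D1 rho)
open Cfsg.Agent.H952.F4 (ev es)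
open Cfsg.Agent.R2.T1 Cfsg.Agent.R2.T1.Art Cfsg.Agent.R2.T1.Odd
open Cfsg.Agent.H944.E6T (ev_conj trace_conj)

universe u

/-- the elements of type `32⁴` -/
def l6 : List (ℕ × ℕ) := [(0, 1), (2, 3), (4, 5), (6, 7), (8, 9), (9, 10)]

theorem r11_eq : r11 = [[], ls, l3, l6] := by decide

theorem gA4_le {n : ℕ} [NeZero n] : Tg n gA4 ≤ Tg n gS4 := by
  unfold Tg
  refine Subgroup.closure_mono ?_
  rintro x ⟨g, hg, rfl⟩
  refine ⟨g, ?_, rfl⟩
  revert g
  decide

theorem gR_le {n : ℕ} [NeZero n] : Tg n gR ≤ Tg n gZ := by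
  unfold Tg
  refine Subgroup.closure_mono ?_
  rintro x ⟨g, hg, rfl⟩
  refine ⟨g, ?_, rfl⟩
  revert g
  decide

section
variable {n : ℕ} [NeZero n] {F : Type u} [Field F]

theorem ev_conj' {m : ℕ} (hm : m ≤ n) {W : Type*} [AddCommGroup W] [Module F W]
    (ρ : Representation F ↥(alternatingGroup (Fin n)) W) {x c r : List (ℕ × ℕ)} (hx : vl m x = true)
    (hc : vl m c = true) (hr : vl m r = true) (h : cd m (x ++ c) = cd m (c ++ r)) (μ : F) :
    ev (ρ (P n x)) μ = ev (ρ (P n r)) μ := by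
  have h1 : P n x = P n c * P n r * (P n c)⁻¹ := by
    rw [← P_append hm hc hr, ← (P_eq_iff hm (vl_append hx hc) (vl_append hc hr)).2 h, P_append hm hx hc,
      mul_inv_cancel_right]
  rw [h1, ev_conj]

variable [Finite F] (h2 : (2 : F) ≠ 0) (h3 : (3 : F) ≠ 0)
  {ψ : ↥(alternatingGroup (Fin n)) →* Gh F} (hψ : ∀ a, ad F (ψ a) = 1 → a = 1)
include h2 h3 hψ

theorem d3_cases (hn : 8 ≤ n) : ev (V F (ψ (P n l3))) 1 = 20 ∨ ev (V F (ψ (P n l3))) 1 = 32 := by
  set ρ : Representation F ↥(alternatingGroup (Fin n)) (D1 → F) := MonoidHom.comp (V F) ψ with hρ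
  obtain ⟨tt, ts, t42, -⟩ := types hn h2 hψ
  have tt' : ev (ρ (P n lt)) 1 = 32 := tt
  have t42' : ev (ρ (P n l42)) 1 = 16 := t42
  have o0 : om ρ 1 = 56 := by rw [om_one, finrank_V]; norm_num
  have ot : om ρ (P n lt) = 8 := by
    rw [om_prime ρ Nat.prime_two (orderOf_P hn (by decide +kernel)), finrank_V, tt']
    norm_num
  have o42 : om ρ (P n l42) = 0 := by
    rw [om_four ρ (orderOf_P hn (by decide +kernel)), ← P_pwl hn (m := 8) (by decide),
      ev_P_conj hn ρ (x := pwl l42 2) (c := [(1, 2), (4, 5)]) (r := lt) (by decide) (by decide) (by decide) (by decide),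
      tt', t42']
    norm_num
  have o3 : om ρ (P n l3) = (3 * (ev (ρ (P n l3)) 1 : ℚ) - 56) / 2 := by
    rw [om_prime ρ Nat.prime_three (orderOf_P hn (by decide +kernel)), finrank_V]
    norm_num only []
  have dA := dim_A4 hn h2 ρ h3
  have dS := dim_S4 hn h2 ρ h3
  rw [o0, ot, o3] at dA
  rw [o0, ot, o42, o3] at dS
  have hle : finrank F ↥(inv ρ (Tg n gS4)) ≤ finrank F ↥(inv ρ (Tg n gA4)) := Submodule.finrank_mono (inv_mono gA4_le)
  have hne : ψ (P n l3) ≠ 1 := by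
    intro h
    have h4 := hψ (P n l3) (by rw [h, map_one])
    exact P_ne hn (m := 8) (l := l3) (l' := []) (by decide) rfl (by decide) (by rw [h4, P_nil])
  have h4 := three h3 (x := ψ (P n l3)) (by rw [← map_pow, P_pow_one hn (m := 8) (by decide) (by decide), map_one]) hne
  show ev (ρ (P n l3)) 1 = 20 ∨ ev (ρ (P n l3)) 1 = 32
  have h5 : ∀ d : ℕ, d = ev (V F (ψ (P n l3))) 1 → d = 2 ∨ d = 14 ∨ d = 20 ∨ d = 32 := by
    intro d hd
    rcases h4 with ⟨h, -⟩ | ⟨h, -⟩ | ⟨h, -⟩ | ⟨h, -⟩ | ⟨h, -⟩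
    · exact Or.inl (hd.trans h)
    · exact Or.inr (Or.inr (Or.inr (hd.trans h)))
    · exact Or.inr (Or.inr (Or.inl (hd.trans h)))
    · exact Or.inr (Or.inl (hd.trans h))
    · exact Or.inr (Or.inr (Or.inl (hd.trans h)))
  have h5 := h5 (ev (ρ (P n l3)) 1) rfl
  generalize ev (ρ (P n l3)) 1 = d at *
  generalize finrank F ↥(inv ρ (Tg n gA4)) = a at *
  generalize finrank F ↥(inv ρ (Tg n gS4)) = b at *
  have dA' : (a : ℤ) = d - 12 := by
    have : (a : ℚ) = d - 12 := by linarith only [dA]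
    exact_mod_cast this
  have dS' : 2 * (b : ℤ) = d - 8 := by
    have : 2 * (b : ℚ) = d - 8 := by linarith only [dS]
    exact_mod_cast this
  (clear * - h5 hle dA' dS'; omega)

/-- **`n ≥ 11`, `p ≠ 2, 3`** -/
theorem no_eleven (hn : 11 ≤ n) : False := by
  have hn8 : 8 ≤ n := by omega
  set ρ : Representation F ↥(alternatingGroup (Fin n)) (D1 → F) := MonoidHom.comp (V F) ψ with hρ
  obtain ⟨-, ts, -⟩ := types hn8 h2 hψ
  have ts' : ev (ρ (P n ls)) 1 = 24 := ts
  have hd3 : ev (ρ (P n l3)) 1 = 20 ∨ ev (ρ (P n l3)) 1 = 32 := d3_cases h2 h3 hψ hn8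
  have o0 : om ρ 1 = 56 := by rw [om_one, finrank_V]; norm_num
  have os : om ρ (P n ls) = -8 := by
    rw [om_prime ρ Nat.prime_two (orderOf_P hn8 (by decide +kernel)), finrank_V, ts']
    norm_num
  have o3 : om ρ (P n l3) = (3 * (ev (ρ (P n l3)) 1 : ℚ) - 56) / 2 := by
    rw [om_prime ρ Nat.prime_three (orderOf_P hn8 (by decide +kernel)), finrank_V]
    norm_num only []
  have o6 : om ρ (P n l6) = (6 * (ev (ρ (P n l6)) 1 : ℚ) - 3 * (ev (ρ (P n l3)) 1 : ℚ) + 8) / 2 := by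
    rw [om_six ρ (orderOf_P hn (by decide +kernel)), ← P_pwl hn (m := 11) (by decide +kernel),
      ← P_pwl hn (m := 11) (by decide +kernel), finrank_V,
      ev_conj' hn ρ (x := pwl l6 2) (c := [(0, 8), (1, 10), (2, 9), (3, 4)]) (r := l3) (by decide +kernel)
        (by decide +kernel) (by decide +kernel) (by decide +kernel),
      ev_conj' hn ρ (x := pwl l6 3) (c := []) (r := ls) (by decide +kernel)
        (by decide +kernel) (by decide +kernel) (by decide +kernel), ts']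
    push_cast
    ring
  have h8 : ((8 : ℕ) : F) ≠ 0 := by simpa only [_root_.Nat.cast_ofNat, _root_.ne_eq, _root_.Nat.reducePow] using two_pow_ne h2 3
  have h24 : ((24 : ℕ) : F) ≠ 0 := by simpa using three_pow_ne h2 h3 3 1
  have dR := dimC hn chkG_R chkC_R len_R (K := 4) rfl h8 cnt_R ρ
  have dZ := dimC hn chkG_Z chkC_Z len_Z (K := 4) rfl h24 cnt_Z ρ
  simp only [r11_eq, Finset.sum_range_succ, Finset.sum_range_zero, List.getD_cons_zero, List.getD_cons_succ, P_nil,
    o0, os, o3, o6] at dR dZ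
  have hle : finrank F ↥(inv ρ (Tg n gZ)) ≤ finrank F ↥(inv ρ (Tg n gR)) := Submodule.finrank_mono (inv_mono gR_le)
  push_cast at dR dZ
  have z1 : (finrank F ↥(inv ρ (Tg n gR)) : ℚ) = 0 := by linarith only [dR]
  have z2 : finrank F ↥(inv ρ (Tg n gR)) = 0 := by exact_mod_cast z1
  have z3 : finrank F ↥(inv ρ (Tg n gZ)) = 0 := by omega
  rw [z3] at dZ
  generalize ev (ρ (P n l3)) 1 = d at *
  generalize ev (ρ (P n l6)) 1 = e at *
  have z4 : 7 * (e : ℤ) = 3 * d := by
    have : 7 * (e : ℚ) = 3 * d := by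
      push_cast at dZ
      linarith only [dZ]
    exact_mod_cast this
  omega

omit h3 in
/-- **`n ≥ 11`, `p` odd** -/
theorem no_odd (hn : 11 ≤ n) : False := by
  by_cases h3 : (3 : F) = 0
  · refine no_ten (n := n) (by omega) h2 (fun h5 => ?_) hψ
    exact h2 (by linear_combination h5 - h3)
  · exact no_eleven h2 h3 hψ hn

end

end Cfsg.Agent.R2.T1.Nodd
end
end

-- part: R2/T1/Odd/Out9
section
prune_inst 0x4f4607d446562000000000596030000602800000200488c004cc008040949e4420002a8403330111210228c004009006811000030426000000e00040000010100108112063140a100600096000000000000000000000000000000000000010000000000000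
set_option linter.all false
open scoped Cfsg.Agent.FastGrp

-- part: R2/T1/Odd/Out8
section
/-!
# S5771, ODD5: the output for `n = 8`, `p ≠ 2, 5` (helper11)

* `fix_pt'` : fixed points of the stabilizer of a point `j` are the `v_j(u)`;
* `exists_sev` : the vectors `a_i = v_i(x)`, `b_i = v_i(y)`.
-/

set_option autoImplicit false
set_option maxRecDepth 100000

namespace Cfsg.Agent.R2.T1.Odd

open Cfsg Cfsg.Lie Module Equiv Equiv.Perm
open Cfsg.Agent.H943.E7V.Block (D1 rho)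
open Cfsg.Agent.H952.F4 (ev es MaxAlt)

universe u v

section
variable {F : Type u} [Field F] {W : Type v} [AddCommGroup W] [Module F W]
  {ρ : Representation F A8 W} {B : W →ₗ[F] W →ₗ[F] F}

theorem trans1 (i j : Fin 8) : ∃ g : A8, (g : Perm (Fin 8)) i = j := by
  have h : ∀ i : Fin 8, ∃ g : A8, (g : Perm (Fin 8)) 0 = i := by
    intro i
    obtain ⟨a, ha⟩ : ∃ a : Fin 8, a ≠ i := by
      by_cases h : i = 0
      · exact ⟨1, by rw [h]; decide⟩
      · exact ⟨0, fun h' => h h'.symm⟩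
    obtain ⟨g, hg, -⟩ := two_trans (i := i) (j := a) ha.symm
    exact ⟨g, hg⟩
  obtain ⟨g, hg⟩ := h i
  obtain ⟨k, hk⟩ := h j
  refine ⟨k * g⁻¹, ?_⟩
  have h1 : ((g⁻¹ : A8) : Perm (Fin 8)) i = 0 := by rw [Subgroup.coe_inv, Perm.inv_eq_iff_eq, hg]
  rw [Subgroup.coe_mul, Perm.mul_apply, h1, hk]

theorem fix_pt' (hC : CfgT ρ B) {j : Fin 8} {w : W} (hw : ∀ g : A8, (g : Perm (Fin 8)) j = j → ρ g w = w) :
    ∃ u ∈ inv ρ (Tg 8 gQ), w = vi ρ j u := by
  obtain ⟨k, hk⟩ := trans1 j 7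
  have hk' : ((k⁻¹ : A8) : Perm (Fin 8)) 7 = j := by rw [Subgroup.coe_inv, Perm.inv_eq_iff_eq, hk]
  obtain ⟨u, hu, h1⟩ := fix_pt hC (w := ρ k w) (by
    intro g hg
    have h2 : ρ (k⁻¹ * (g * k)) w = w := by
      apply hw
      rw [Subgroup.coe_mul, Subgroup.coe_mul, Perm.mul_apply, Perm.mul_apply, hk, hg, hk']
    conv_rhs => rw [← h2]
    rw [← ρ_mul, ← ρ_mul, mul_inv_cancel_left])
  refine ⟨u, hu, ?_⟩
  rw [← ρ_inv (ρ := ρ) k w, h1, vi_equi hC.toCfgU _ _ hu, hk']

/-- `v_j` is injective on `U` -/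
theorem vi_inj (hC : CfgT ρ B) {j : Fin 8} {u : W} (hu : u ∈ inv ρ (Tg 8 gQ)) (h : vi ρ j u = 0) : u = 0 := by
  have h1 : ∀ i, vi ρ i u = 0 := by
    intro i
    obtain ⟨k, hk⟩ := trans1 j i
    rw [← hk, ← vi_equi hC.toCfgU k j hu, h, map_zero]
  rw [← vi_four hC hu]
  exact Finset.sum_eq_zero fun i _ => h1 i

/-- a basis of `U` -/
theorem exists_basis (hC : CfgT ρ B) : ∃ x y : W, x ∈ inv ρ (Tg 8 gQ) ∧ y ∈ inv ρ (Tg 8 gQ) ∧ B x y ≠ 0 ∧
    ∀ u ∈ inv ρ (Tg 8 gQ), ∃ s t : F, u = s • x + t • y := by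
  have hfd : FiniteDimensional F ↥(inv ρ (Tg 8 gQ)) := Module.finite_of_finrank_pos (by rw [hC.dim]; norm_num)
  let b := Module.finBasisOfFinrankEq F ↥(inv ρ (Tg 8 gQ)) hC.dim
  have hspan : ∀ u ∈ inv ρ (Tg 8 gQ), ∃ x y : F, u = x • (b 0 : W) + y • (b 1 : W) := by
    intro u hu
    refine ⟨b.repr ⟨u, hu⟩ 0, b.repr ⟨u, hu⟩ 1, ?_⟩
    have h1 := congrArg (Subtype.val) (b.sum_repr ⟨u, hu⟩)
    rw [Fin.sum_univ_two] at h1
    exact h1.symm
  refine ⟨b 0, b 1, (b 0).2, (b 1).2, ?_, hspan⟩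
  intro h
  have hb0 : (b 0 : W) ≠ 0 := fun h => b.ne_zero 0 (Subtype.ext h)
  apply hb0
  apply nd_U le_rfl hC.toCfgU _ (b 0).2
  intro v hv
  obtain ⟨x, y, rfl⟩ := hspan v hv
  have hBB : B (b 0) (b 0) = 0 := by
    have h1 := hC.skew (b 0) (b 0)
    have h3 : (2 : F) * B (b 0) (b 0) = 0 := by linear_combination h1
    exact (mul_eq_zero.1 h3).resolve_left hC.two
  rw [map_add, map_smul, map_smul, hBB, h, smul_zero, smul_zero, add_zero]

end

section out
variable {F : Type u} [Field F] [Finite F] {H : Subgroup ↥(chevE7.group F)} {φ : A8 →* ↥(chevE7.group F)}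
  {ψ : A8 →* Gh F}

theorem lift_inj {n : ℕ} {φ : ↥(alternatingGroup (Fin n)) →* ↥(chevE7.group F)} {ψ : ↥(alternatingGroup (Fin n)) →* Gh F}
    (hM : MaxAlt H n φ) (hψ : Lift φ ψ) : ∀ a, ad F (ψ a) = 1 → a = 1 := by
  intro a ha
  rw [hψ] at ha
  exact hM.inj (by rw [ha, map_one])

/-- **the output for P3** -/
theorem exists_sev (h2 : (2 : F) ≠ 0) (h5 : (5 : F) ≠ 0) (hM : MaxAlt H 8 φ) (hψ : Lift φ ψ) :
    ∃ (a b : Fin 8 → D1 → F) (c : F), P3.Sev ψ a b c ∧ 
      Stab (V F) H (Submodule.span F (Set.range a ∪ Set.range b)) ∧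
      ∀ w, w ∈ inv (MonoidHom.comp (V F) ψ : Representation F A8 (D1 → F)) (Tg 8 gQ) ↔
        ∃ s t : F, w = s • (a 0 + a 1 + a 2 + a 3) + t • (b 0 + b 1 + b 2 + b 3) := by
  have hC := cfgT h2 le_rfl (lift_inj hM hψ) h5
  set ρ : Representation F A8 (D1 → F) := MonoidHom.comp (V F) ψ with hρ
  obtain ⟨x, y, hx, hy, hxy, hspan⟩ := exists_basis hC
  have hfour : ∀ u ∈ inv ρ (Tg 8 gQ), vi ρ 0 u + vi ρ 1 u + vi ρ 2 u + vi ρ 3 u = u := by
    intro u hu
    have h1 := vi_four hC hu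
    unfold A0 at h1
    rw [Finset.sum_insert (by decide), Finset.sum_insert (by decide), Finset.sum_insert (by decide),
      Finset.sum_singleton] at h1
    rw [← add_assoc, ← add_assoc] at h1
    exact h1
  have h16 : (16 : F) ≠ 0 := sixteen_ne h2
  have hgr : ∀ i j, sf F (vi ρ i x) (vi ρ j y) = if i = j then 7 * (sf F x y / 16) else -(sf F x y / 16) := by
    intro i j
    have h1 := gram hC hx hy i j
    split_ifs at h1 ⊢ with h
    · field_simp
      linear_combination h1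
    · field_simp
      linear_combination h1
  have hmem : ∀ u ∈ inv ρ (Tg 8 gQ), ∀ i, vi ρ i u ∈ Submodule.span F (Set.range (fun i => vi ρ i x) ∪ Set.range fun i => vi ρ i y) := by
    intro u hu i
    obtain ⟨s, t, rfl⟩ := hspan u hu
    rw [map_add, map_smul, map_smul]
    exact add_mem (Submodule.smul_mem _ _ (Submodule.subset_span (Or.inl ⟨i, rfl⟩)))
      (Submodule.smul_mem _ _ (Submodule.subset_span (Or.inr ⟨i, rfl⟩)))
  have hself : ∀ {u : D1 → F}, u ∈ inv ρ (Tg 8 gQ) → ∀ i j, sf F (vi ρ i u) (vi ρ j u) = 0 := by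
    intro u hu i j
    have h1 := gram hC hu hu i j
    rw [sf_self, mul_zero] at h1
    exact (mul_eq_zero.1 h1).resolve_left h16
  refine ⟨fun i => vi ρ i x, fun i => vi ρ i y, sf F x y / 16, ?_, ?_, ?_⟩
  · exact { actA := fun g i => vi_equi hC.toCfgU g i hx
            actB := fun g i => vi_equi hC.toCfgU g i hy
            sumA := vi_sum hC hx
            sumB := vi_sum hC hy
            isoA := hself hx
            isoB := hself hy
            ab := hgr
            ne := div_ne_zero hxy h16 }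
  · intro g hg
    obtain ⟨σ, hσ⟩ := norm_lift (by norm_num) hM hψ hg
    have key : ∀ u ∈ inv ρ (Tg 8 gQ), ∀ i, V F g (vi ρ i u) ∈
        Submodule.span F (Set.range (fun i => vi ρ i x) ∪ Set.range fun i => vi ρ i y) := by
      intro u hu i
      obtain ⟨u', hu', h1⟩ := fix_pt' hC (j := σ i) (w := V F g (vi ρ i u)) (by
        intro b hb
        have hmem : σ⁻¹ * (b : Perm (Fin 8)) * σ ∈ alternatingGroup (Fin 8) := by
          rw [mem_alternatingGroup, Perm.sign_mul, Perm.sign_mul, Perm.sign_inv, mem_alternatingGroup.1 b.2, mul_one]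
          exact Int.units_mul_self _
        have h1 := hσ ⟨_, hmem⟩ b (by
          show (b : Perm (Fin 8)) = σ * (σ⁻¹ * (b : Perm (Fin 8)) * σ) * σ⁻¹
          group)
        have h2 : ρ ⟨_, hmem⟩ (vi ρ i u) = vi ρ i u := by
          have h3 : (σ⁻¹ * (b : Perm (Fin 8)) * σ) i = i := by
            rw [Perm.mul_apply, Perm.mul_apply, hb, Perm.inv_eq_iff_eq]
          have h4 := vi_equi hC.toCfgU (⟨_, hmem⟩ : A8) i hu
          rw [h4]
          show vi ρ ((σ⁻¹ * (b : Perm (Fin 8)) * σ) i) u = _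
          rw [h3]
        show V F (ψ b) (V F g (vi ρ i u)) = _
        rw [← h1]
        show V F (g * ψ ⟨_, hmem⟩ * g⁻¹) (V F g (vi ρ i u)) = _
        rw [map_mul, map_mul, Module.End.mul_apply, Module.End.mul_apply, Cfsg.Agent.R2.T1.ρ_inv (V F)]
        congr 1)
      rw [h1]
      exact hmem u' hu' _
    intro w hw
    refine Submodule.span_induction ?_ ?_ ?_ ?_ hw
    · rintro w (⟨i, rfl⟩ | ⟨i, rfl⟩)
      · exact key x hx i
      · exact key y hy i
    · rw [map_zero]; exact zero_mem _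
    · intro a b _ _ ha hb; rw [map_add]; exact add_mem ha hb
    · intro c a _ ha; rw [map_smul]; exact Submodule.smul_mem _ _ ha
  · intro w
    rw [hfour x hx, hfour y hy]
    constructor
    · exact hspan w
    · rintro ⟨s, t, rfl⟩
      exact add_mem (Submodule.smul_mem _ _ hx) (Submodule.smul_mem _ _ hy)

end out

end Cfsg.Agent.R2.T1.Odd
end

-- part: R2/T1/Odd/Out9
section
/-!
# S5771, ODD5: the output for `n = 9`, `p ≠ 2, 5` (helper11)

`ρ` a representation of `A_9`, `CfgT (ρ ∘ emb8) B`: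
* `fx7 ρ` : the fixed points of the stabilizer of the points 7, 8; `fx7_finrank`, `fx7_nd`;
* `fx8_zero` : no fixed points of the stabilizer of the point 8;
* `cfgT9` : the configuration for `(V F) ∘ ψ`.
-/

set_option autoImplicit false
set_option maxRecDepth 100000

namespace Cfsg.Agent.R2.T1.Odd

open Cfsg Cfsg.Lie Module Equiv Equiv.Perm
open Cfsg.Agent.H943.E7V.Block (D1 rho)
open Cfsg.Agent.H952.F4 (ev es MaxAlt)

universe u v

abbrev A9 := ↥(alternatingGroup (Fin 9))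

/-- `A_8` in `A_9` -/
noncomputable abbrev emb89 : A8 →* A9 := emb8 (n := 9) (by norm_num)

section
variable {F : Type u} [Field F] {W : Type v} [AddCommGroup W] [Module F W]
  (ρ : Representation F A9 W) {B : W →ₗ[F] W →ₗ[F] F}

/-- fixed points of the stabilizer of 7 and 8 -/
def fx7 : Submodule F W where
  carrier := {w | ∀ g : A9, (g : Perm (Fin 9)) 7 = 7 → (g : Perm (Fin 9)) 8 = 8 → ρ g w = w}
  add_mem' := fun ha hb g h7 h8 => by rw [map_add, ha g h7 h8, hb g h7 h8]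
  zero_mem' := fun _ _ _ => map_zero _
  smul_mem' := fun c w hw g h7 h8 => by rw [map_smul, hw g h7 h8]

variable {ρ}

theorem mem_fx7 {w : W} : w ∈ fx7 ρ ↔ ∀ g : A9, (g : Perm (Fin 9)) 7 = 7 → (g : Perm (Fin 9)) 8 = 8 → ρ g w = w := Iff.rfl

theorem fix8_iff {g : A9} : (g : Perm (Fin 9)) 8 = 8 ↔ ∃ g' : A8, emb89 g' = g := by
  constructor
  · intro h
    apply exists_emb8
    intro i hi
    have h1 : i = 8 := Fin.ext (by have := i.2; show i.val = 8; omega)
    rw [h1, h]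
  · rintro ⟨g', rfl⟩
    exact emb8_ge (n := 9) (by norm_num) g' 8 le_rfl

theorem fix7_iff {g' : A8} : ((emb89 g' : A9) : Perm (Fin 9)) 7 = 7 ↔ (g' : Perm (Fin 8)) 7 = 7 := by
  have h1 := emb8_lt (n := 9) (by norm_num) g' 7
  have h2 : (⟨(7 : Fin 8).val, (7 : Fin 8).2.trans_le (by norm_num)⟩ : Fin 9) = 7 := rfl
  rw [h2] at h1
  constructor
  · intro h
    rw [h] at h1
    exact Fin.ext (congrArg Fin.val h1).symm
  · intro h
    rw [h1, h]
    rfl

theorem mem_fx7' {w : W} : w ∈ fx7 ρ ↔ ∀ g : A8, (g : Perm (Fin 8)) 7 = 7 → (MonoidHom.comp ρ emb89 : Representation F A8 W) g w = w := by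
  rw [mem_fx7]
  constructor
  · intro h g hg
    exact h (emb89 g) (fix7_iff.2 hg) (fix8_iff.2 ⟨g, rfl⟩)
  · intro h g h7 h8
    obtain ⟨g', rfl⟩ := fix8_iff.1 h8
    exact h g' (fix7_iff.1 h7)

variable (hC : CfgT (MonoidHom.comp ρ emb89 : Representation F A8 W) B)
include hC

theorem fx7_eq : fx7 ρ = (inv (MonoidHom.comp ρ emb89 : Representation F A8 W) (Tg 8 gQ)).map
    (vi (MonoidHom.comp ρ emb89 : Representation F A8 W) 7) := by
  apply le_antisymm
  · intro w hw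
    obtain ⟨u, hu, rfl⟩ := fix_pt hC (mem_fx7'.1 hw)
    exact ⟨u, hu, rfl⟩
  · rintro _ ⟨u, hu, rfl⟩
    rw [mem_fx7']
    intro g hg
    rw [vi_equi hC.toCfgU g 7 hu, hg]

theorem fx7_finrank : finrank F ↥(fx7 ρ) = 2 := by
  rw [fx7_eq hC, ← hC.dim]
  refine (LinearEquiv.finrank_eq (LinearEquiv.ofBijective
    ((vi (MonoidHom.comp ρ emb89 : Representation F A8 W) 7).restrict
      (p := inv (MonoidHom.comp ρ emb89 : Representation F A8 W) (Tg 8 gQ))
      (q := (inv (MonoidHom.comp ρ emb89 : Representation F A8 W) (Tg 8 gQ)).map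
        (vi (MonoidHom.comp ρ emb89 : Representation F A8 W) 7))
      (fun u hu => Submodule.mem_map_of_mem hu)) ⟨?_, ?_⟩)).symm
  · rw [← LinearMap.ker_eq_bot, LinearMap.ker_eq_bot']
    intro u hu
    exact Subtype.ext (vi_inj hC u.2 (congrArg Subtype.val hu))
  · rintro ⟨_, u, hu, rfl⟩
    exact ⟨⟨u, hu⟩, rfl⟩

theorem fx7_nd (h7 : (7 : F) ≠ 0) {y : W} (hy : y ∈ fx7 ρ) (h : ∀ z ∈ fx7 ρ, B y z = 0) : y = 0 := by
  rw [fx7_eq hC] at hy h
  obtain ⟨u, hu, rfl⟩ := hy
  have h1 : u = 0 := by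
    apply nd_U le_rfl hC.toCfgU u hu
    intro v hv
    have h2 := gram hC hu hv 7 7
    rw [h _ ⟨v, hv, rfl⟩, mul_zero, if_pos rfl] at h2
    exact (mul_eq_zero.1 h2.symm).resolve_left h7
  rw [h1, map_zero]

end

/-- the configuration for `n = 9` -/
theorem cfgT9 {F : Type u} [Field F] [Finite F] (h2 : (2 : F) ≠ 0) (h5 : (5 : F) ≠ 0) {ψ : A9 →* Gh F}
    (hψ : ∀ a, ad F (ψ a) = 1 → a = 1) :
    CfgT (MonoidHom.comp (MonoidHom.comp (V F) ψ : Representation F A9 (D1 → F)) emb89 :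
      Representation F A8 (D1 → F)) (sf F) := by
  have h := cfgT h2 (n := 8) le_rfl (ψ := ψ.comp emb89) (by
    intro a ha
    exact emb8_inj (n := 9) (by norm_num) (by rw [hψ _ ha, map_one])) h5
  exact h

end Cfsg.Agent.R2.T1.Odd
end
end

-- part: R2/PX/C/Std
section
prune_inst 0x4f56079447562020000180596130000602000000200488c0064c005060949e442a043a8413b30151210febcd07808002811000060026000000400340000030120908042063340a10466009f808080000000000000000000000000000000000004000000000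
set_option linter.all false
open scoped Cfsg.Agent.FastGrp

-- part: R2/PX/C/StdC0
section
/-!
# Pattern X, Part C: the standard configuration, the span of the triple products (helper3)
-/

set_option autoImplicit false
set_option maxRecDepth 100000

namespace Cfsg.Agent.R2.PX.C

open Cfsg Cfsg.Lie Matrix
open Cfsg.Agent.R2.T1 Cfsg.Agent.R2.PX
open Cfsg.Agent.H943.E7V.Block (D1 rho)

universe u
variable {F : Type u} [Field F]

theorem C012 : chkL [1, 0, 2, 4, 0, 4, 0, 3, 2, 0, 4, 1, 1, 1, 0, 4, 0, 0, 0, 0, 4, 1, 1, 0, 4, 0, 0, 0]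
    (PL ++ T7) t012 = true := by decide +kernel

theorem C014 : chkL [3, 1, 2, 2, 4, 3, 1, 4, 2, 2, 2, 4, 0, 0, 1, 0, 2, 2, 4, 2, 2, 1, 0, 0, 0, 0, 1, 4]
    (PL ++ T7) t014 = true := by decide +kernel

theorem C016 : chkL [0, 0, 0, 0, 0, 0, 0, 0, 0, 0, 0, 0, 0, 0, 0, 0, 0, 0, 0, 0, 0, 1, 0, 0, 0, 0, 0, 0]
    (PL ++ T7) t016 = true := by decide +kernel

theorem C023 : chkL [1, 3, 0, 4, 0, 1, 1, 3, 1, 4, 1, 3, 1, 1, 0, 1, 0, 0, 2, 4, 1, 4, 0, 4, 2, 1, 1, 3]
    (PL ++ T7) t023 = true := by decide +kernel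

theorem C025 : chkL [0, 0, 0, 0, 0, 0, 0, 0, 0, 0, 0, 0, 0, 0, 0, 0, 0, 0, 0, 0, 0, 0, 0, 1, 0, 0, 0, 0]
    (PL ++ T7) t025 = true := by decide +kernel

theorem C027 : chkL [3, 3, 1, 1, 0, 0, 0, 4, 2, 3, 1, 3, 2, 1, 1, 4, 2, 2, 2, 3, 2, 0, 2, 0, 4, 4, 0, 1]
    (PL ++ T7) t027 = true := by decide +kernel

theorem C035 : chkL [1, 3, 4, 3, 0, 1, 2, 4, 2, 2, 0, 1, 4, 4, 2, 3, 1, 2, 1, 0, 3, 4, 3, 0, 3, 1, 2, 2]
    (PL ++ T7) t035 = true := by decide +kernel

theorem C037 : chkL [3, 0, 1, 4, 0, 1, 2, 3, 4, 0, 1, 2, 0, 0, 1, 1, 0, 0, 3, 0, 1, 4, 0, 4, 2, 0, 2, 3]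
    (PL ++ T7) t037 = true := by decide +kernel

theorem C046 : chkL [0, 0, 0, 0, 0, 0, 0, 0, 0, 0, 0, 0, 0, 0, 0, 0, 0, 0, 0, 0, 0, 0, 0, 0, 1, 0, 0, 0]
    (PL ++ T7) t046 = true := by decide +kernel

theorem C056 : chkL [2, 0, 0, 0, 0, 4, 0, 1, 1, 0, 0, 0, 4, 3, 1, 2, 0, 0, 4, 0, 1, 0, 4, 1, 1, 0, 0, 0]
    (PL ++ T7) t056 = true := by decide +kernel

theorem C067 : chkL [3, 3, 3, 0, 0, 0, 0, 0, 2, 2, 2, 0, 0, 0, 0, 0, 1, 2, 2, 3, 3, 0, 1, 0, 0, 4, 0, 1]
    (PL ++ T7) t067 = true := by decide +kernel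

theorem C124 : chkL [1, 3, 3, 4, 4, 2, 4, 0, 1, 1, 3, 3, 0, 0, 0, 3, 1, 1, 4, 1, 3, 2, 1, 1, 2, 0, 4, 2]
    (PL ++ T7) t124 = true := by decide +kernel

theorem C126 : chkL [3, 2, 1, 2, 0, 4, 3, 1, 1, 4, 2, 1, 1, 2, 4, 4, 4, 4, 0, 4, 1, 2, 1, 1, 2, 0, 3, 3]
    (PL ++ T7) t126 = true := by decide +kernel

theorem C134 : chkL [2, 0, 1, 2, 4, 3, 1, 4, 3, 3, 3, 4, 0, 0, 1, 0, 2, 2, 4, 2, 2, 1, 4, 0, 0, 1, 1, 4]
    (PL ++ T7) t134 = true := by decide +kernel

theorem C136 : chkL [2, 4, 3, 0, 0, 0, 0, 0, 3, 1, 2, 0, 0, 0, 0, 0, 2, 1, 2, 0, 1, 1, 4, 0, 0, 1, 0, 0]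
    (PL ++ T7) t136 = true := by decide +kernel

theorem C145 : chkL [0, 2, 1, 2, 0, 3, 0, 1, 0, 4, 2, 3, 0, 0, 3, 1, 4, 4, 4, 4, 2, 2, 4, 2, 3, 0, 0, 1]
    (PL ++ T7) t145 = true := by decide +kernel

theorem C147 : chkL [1, 1, 4, 0, 0, 1, 0, 0, 3, 4, 2, 3, 0, 0, 0, 3, 0, 0, 0, 0, 3, 2, 1, 1, 2, 4, 0, 2]
    (PL ++ T7) t147 = true := by decide +kernel

theorem C157 : chkL [4, 1, 4, 0, 0, 3, 0, 3, 4, 4, 2, 3, 3, 4, 2, 4, 0, 4, 0, 1, 3, 2, 0, 2, 2, 4, 0, 2]
    (PL ++ T7) t157 = true := by decide +kernel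

theorem C234 : chkL [0, 0, 0, 0, 0, 0, 0, 0, 0, 0, 0, 0, 0, 0, 0, 0, 0, 0, 0, 0, 0, 0, 0, 0, 0, 1, 0, 0]
    (PL ++ T7) t234 = true := by decide +kernel

theorem C236 : chkL [3, 0, 1, 1, 0, 0, 4, 0, 2, 2, 0, 3, 1, 2, 4, 1, 0, 4, 3, 3, 4, 0, 0, 0, 0, 1, 4, 1]
    (PL ++ T7) t236 = true := by decide +kernel

theorem C245 : chkL [0, 1, 4, 2, 1, 0, 0, 3, 0, 2, 0, 2, 0, 0, 1, 0, 2, 2, 0, 2, 0, 1, 0, 2, 3, 0, 4, 2]
    (PL ++ T7) t245 = true := by decide +kernel

theorem C247 : chkL [1, 4, 2, 2, 0, 4, 3, 1, 3, 3, 0, 0, 1, 4, 0, 3, 3, 3, 1, 3, 1, 1, 2, 1, 2, 4, 4, 3]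
    (PL ++ T7) t247 = true := by decide +kernel

theorem C257 : chkL [3, 4, 2, 2, 4, 4, 4, 1, 0, 3, 0, 0, 0, 0, 1, 2, 3, 2, 1, 4, 1, 1, 1, 2, 2, 4, 4, 3]
    (PL ++ T7) t257 = true := by decide +kernel

theorem C345 : chkL [4, 3, 2, 0, 1, 1, 2, 2, 2, 4, 0, 0, 0, 0, 3, 3, 1, 3, 0, 2, 3, 0, 3, 1, 1, 1, 1, 4]
    (PL ++ T7) t345 = true := by decide +kernel

theorem C347 : chkL [0, 0, 0, 0, 0, 0, 0, 0, 0, 0, 0, 0, 0, 0, 0, 0, 0, 0, 0, 0, 0, 0, 0, 0, 0, 0, 1, 0]
    (PL ++ T7) t347 = true := by decide +kernel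

theorem C357 : chkL [1, 0, 0, 0, 4, 0, 1, 0, 2, 0, 0, 0, 3, 4, 2, 1, 0, 0, 2, 0, 3, 0, 4, 1, 0, 0, 1, 0]
    (PL ++ T7) t357 = true := by decide +kernel

theorem C456 : chkL [3, 4, 2, 3, 2, 4, 1, 3, 1, 3, 4, 0, 1, 4, 3, 1, 3, 3, 4, 3, 0, 1, 4, 2, 4, 0, 4, 2]
    (PL ++ T7) t456 = true := by decide +kernel

theorem C467 : chkL [4, 2, 0, 0, 0, 4, 2, 0, 4, 1, 4, 2, 0, 0, 3, 2, 1, 3, 1, 2, 0, 1, 1, 1, 3, 4, 4, 3]
    (PL ++ T7) t467 = true := by decide +kernel


end Cfsg.Agent.R2.PX.C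
end

-- part: R2/PX/C/StdC1
section
/-!
# Pattern X, Part C: the standard configuration, the span of the triple products (helper3)
-/

set_option autoImplicit false
set_option maxRecDepth 100000

namespace Cfsg.Agent.R2.PX.C

open Cfsg Cfsg.Lie Matrix
open Cfsg.Agent.R2.T1 Cfsg.Agent.R2.PX
open Cfsg.Agent.H943.E7V.Block (D1 rho)

universe u
variable {F : Type u} [Field F]

theorem C013 : chkL [3, 3, 1, 2, 0, 0, 2, 2, 4, 2, 4, 1, 0, 0, 1, 1, 2, 2, 1, 1, 3, 0, 4, 4, 2, 1, 2, 2]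
    (PL ++ T7) t013 = true := by decide +kernel

theorem C015 : chkL [0, 1, 2, 2, 0, 4, 0, 3, 0, 2, 2, 4, 4, 4, 2, 1, 2, 2, 4, 2, 2, 1, 4, 1, 0, 0, 1, 4]
    (PL ++ T7) t015 = true := by decide +kernel

theorem C017 : chkL [3, 0, 3, 0, 1, 4, 2, 3, 2, 4, 3, 0, 0, 0, 1, 4, 4, 4, 1, 0, 4, 1, 1, 0, 4, 4, 1, 0]
    (PL ++ T7) t017 = true := by decide +kernel

theorem C024 : chkL [0, 0, 0, 0, 0, 0, 0, 0, 0, 0, 0, 0, 0, 0, 0, 0, 0, 0, 0, 0, 0, 0, 1, 0, 0, 0, 0, 0]
    (PL ++ T7) t024 = true := by decide +kernel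

theorem C026 : chkL [0, 4, 2, 1, 0, 0, 4, 0, 0, 3, 4, 3, 1, 2, 4, 1, 3, 3, 1, 3, 3, 0, 1, 0, 0, 0, 4, 1]
    (PL ++ T7) t026 = true := by decide +kernel

theorem C034 : chkL [2, 3, 4, 3, 0, 1, 2, 4, 2, 2, 0, 1, 0, 0, 1, 2, 1, 1, 0, 1, 4, 4, 4, 4, 3, 1, 2, 2]
    (PL ++ T7) t034 = true := by decide +kernel

theorem C036 : chkL [0, 3, 0, 4, 0, 1, 1, 4, 2, 0, 4, 2, 0, 0, 0, 2, 1, 0, 3, 4, 3, 4, 4, 4, 3, 1, 1, 3]
    (PL ++ T7) t036 = true := by decide +kernel

theorem C045 : chkL [2, 4, 3, 0, 1, 1, 2, 2, 4, 3, 4, 0, 0, 0, 3, 3, 3, 3, 0, 3, 4, 0, 4, 1, 1, 0, 1, 4]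
    (PL ++ T7) t045 = true := by decide +kernel

theorem C047 : chkL [3, 2, 1, 0, 0, 0, 0, 0, 2, 3, 4, 0, 0, 0, 0, 0, 4, 4, 1, 4, 0, 0, 1, 0, 0, 4, 1, 0]
    (PL ++ T7) t047 = true := by decide +kernel

theorem C057 : chkL [0, 2, 1, 0, 4, 0, 1, 0, 3, 3, 4, 0, 3, 4, 2, 1, 4, 3, 1, 0, 0, 0, 0, 1, 0, 4, 1, 0]
    (PL ++ T7) t057 = true := by decide +kernel

theorem C123 : chkL [1, 0, 2, 4, 0, 4, 0, 3, 2, 0, 4, 1, 1, 1, 0, 4, 1, 1, 1, 0, 4, 1, 0, 0, 4, 1, 0, 0]
    (PL ++ T7) t123 = true := by decide +kernel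

theorem C125 : chkL [3, 3, 3, 4, 0, 3, 3, 4, 1, 1, 3, 3, 0, 0, 0, 3, 1, 1, 4, 1, 3, 2, 0, 2, 2, 0, 4, 2]
    (PL ++ T7) t125 = true := by decide +kernel

theorem C127 : chkL [1, 2, 4, 2, 1, 3, 0, 4, 3, 4, 4, 1, 2, 1, 1, 2, 3, 3, 1, 4, 0, 2, 2, 1, 1, 4, 4, 3]
    (PL ++ T7) t127 = true := by decide +kernel

theorem C135 : chkL [2, 0, 1, 2, 0, 4, 0, 3, 3, 3, 3, 4, 4, 4, 2, 1, 2, 3, 0, 1, 1, 1, 3, 1, 0, 1, 1, 4]
    (PL ++ T7) t135 = true := by decide +kernel

theorem C137 : chkL [0, 3, 2, 0, 1, 4, 2, 3, 0, 1, 4, 0, 0, 0, 1, 4, 1, 1, 2, 1, 4, 1, 0, 0, 4, 0, 1, 0]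
    (PL ++ T7) t137 = true := by decide +kernel

theorem C146 : chkL [3, 3, 4, 0, 3, 3, 4, 1, 1, 1, 3, 3, 0, 0, 0, 3, 1, 1, 4, 1, 3, 2, 0, 1, 3, 0, 4, 2]
    (PL ++ T7) t146 = true := by decide +kernel

theorem C156 : chkL [1, 3, 4, 0, 0, 3, 2, 1, 2, 1, 3, 3, 4, 3, 1, 0, 1, 1, 3, 1, 4, 2, 4, 2, 3, 0, 4, 2]
    (PL ++ T7) t156 = true := by decide +kernel

theorem C167 : chkL [1, 3, 3, 3, 2, 0, 1, 2, 3, 3, 0, 3, 0, 0, 0, 3, 2, 3, 1, 4, 1, 2, 1, 1, 2, 4, 4, 3]
    (PL ++ T7) t167 = true := by decide +kernel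

theorem C235 : chkL [4, 0, 0, 0, 0, 0, 0, 0, 1, 0, 0, 0, 0, 0, 0, 0, 0, 1, 1, 4, 4, 0, 4, 1, 0, 1, 0, 0]
    (PL ++ T7) t235 = true := by decide +kernel

theorem C237 : chkL [1, 2, 2, 1, 0, 0, 0, 4, 4, 4, 0, 3, 2, 1, 1, 4, 4, 4, 3, 4, 2, 0, 1, 0, 4, 0, 0, 1]
    (PL ++ T7) t237 = true := by decide +kernel

theorem C246 : chkL [3, 2, 1, 2, 0, 4, 3, 1, 1, 4, 2, 0, 4, 1, 4, 4, 4, 4, 0, 4, 1, 1, 1, 1, 3, 0, 3, 3]
    (PL ++ T7) t246 = true := by decide +kernel

theorem C256 : chkL [0, 2, 1, 2, 0, 3, 3, 2, 3, 4, 2, 0, 0, 0, 3, 0, 4, 4, 4, 4, 2, 1, 0, 2, 3, 0, 3, 3]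
    (PL ++ T7) t256 = true := by decide +kernel

theorem C267 : chkL [1, 0, 4, 2, 0, 4, 3, 1, 3, 3, 0, 3, 3, 3, 1, 0, 0, 1, 2, 2, 4, 1, 2, 1, 2, 4, 3, 4]
    (PL ++ T7) t267 = true := by decide +kernel

theorem C346 : chkL [2, 4, 3, 0, 0, 0, 0, 0, 3, 1, 2, 0, 0, 0, 0, 0, 1, 4, 1, 0, 1, 0, 4, 0, 1, 1, 0, 0]
    (PL ++ T7) t346 = true := by decide +kernel

theorem C356 : chkL [3, 4, 3, 0, 0, 4, 0, 1, 0, 1, 2, 0, 4, 3, 1, 2, 1, 1, 1, 3, 1, 0, 3, 1, 1, 1, 0, 0]
    (PL ++ T7) t356 = true := by decide +kernel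

theorem C367 : chkL [0, 0, 0, 0, 0, 0, 0, 0, 0, 0, 0, 0, 0, 0, 0, 0, 0, 0, 0, 0, 0, 0, 0, 0, 0, 0, 0, 1]
    (PL ++ T7) t367 = true := by decide +kernel

theorem C457 : chkL [1, 1, 3, 3, 0, 1, 0, 4, 3, 4, 0, 0, 4, 1, 2, 2, 2, 0, 2, 1, 1, 1, 0, 2, 3, 4, 0, 2]
    (PL ++ T7) t457 = true := by decide +kernel

theorem C567 : chkL [1, 2, 0, 0, 3, 2, 4, 2, 3, 1, 4, 2, 2, 2, 1, 0, 1, 1, 4, 4, 2, 1, 0, 2, 3, 4, 4, 3]
    (PL ++ T7) t567 = true := by decide +kernel


end Cfsg.Agent.R2.PX.C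
end

-- part: R2/PX/C/Std
section
/-!
# Pattern X, Part C: the standard configuration, the canonical subspace (helper3)
-/

set_option autoImplicit false
set_option maxRecDepth 100000

namespace Cfsg.Agent.R2.PX.C

open Cfsg Cfsg.Lie Matrix
open Cfsg.Agent.R2.T1 Cfsg.Agent.R2.PX
open Cfsg.Agent.H943.E7V.Block (D1 rho)

universe u
variable {F : Type u} [Field F]

section
variable [CharP F 5]

variable (F)

/-- the seven-dimensional subspace -/
def W7 : Submodule F (D1 → F) := Submodule.span F (Set.range (uv F))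

variable {F}

/-- the triple products of the standard configuration are symmetric -/
theorem T_swap (i j k : Fin 8) : DD F (uv F i) (uv F j) *ᵥ uv F k = DD F (uv F i) (uv F k) *ᵥ uv F j := by
  have h := ident (F := F) (uv F i) (uv F j) (uv F k)
  rw [uv_iso, uv_iso, uv_iso, mul_zero, zero_smul, zero_smul, zero_smul, add_zero, sub_zero] at h
  exact sub_eq_zero.1 h

theorem T_self (i k : Fin 8) : DD F (uv F i) (uv F i) *ᵥ uv F k = 0 := by
  have h : DD F (uv F i) (uv F i) = 0 := uv_pure i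
  rw [h, Matrix.zero_mulVec]

/-- reduction to the sorted triples -/
theorem T_cases (X : Submodule F (D1 → F))
    (h : ∀ i j k : Fin 8, i < j → j < k → DD F (uv F i) (uv F j) *ᵥ uv F k ∈ X) (i j k : Fin 8) :
    DD F (uv F i) (uv F j) *ᵥ uv F k ∈ X := by
  have hij : ∀ i j k : Fin 8, i < j → DD F (uv F i) (uv F j) *ᵥ uv F k ∈ X := by
    intro i j k hij
    rcases lt_trichotomy j k with h1 | h1 | h1
    · exact h i j k hij h1
    · subst h1
      rw [DD_comm, T_swap, T_self]; exact Submodule.zero_mem _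
    · rcases lt_trichotomy i k with h2 | h2 | h2
      · rw [T_swap]; exact h i k j h2 h1
      · subst h2
        rw [T_swap, T_self]; exact Submodule.zero_mem _
      · rw [T_swap, DD_comm]; exact h k i j h2 hij
  rcases lt_trichotomy i j with h1 | h1 | h1
  · exact hij i j k h1
  · subst h1; rw [T_self]; exact Submodule.zero_mem _
  · rw [DD_comm]; exact hij j i k h1

/-- the sorted triples -/
def TL : List (Fin 8 × Fin 8 × Fin 8) := [(0, 1, 2), (0, 1, 3), (0, 1, 4), (0, 1, 5), (0, 1, 6), (0, 1, 7), (0, 2, 3), (0, 2, 4), (0, 2, 5), (0, 2, 6),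
  (0, 2, 7), (0, 3, 4), (0, 3, 5), (0, 3, 6), (0, 3, 7), (0, 4, 5), (0, 4, 6), (0, 4, 7), (0, 5, 6), (0, 5, 7),
  (0, 6, 7), (1, 2, 3), (1, 2, 4), (1, 2, 5), (1, 2, 6), (1, 2, 7), (1, 3, 4), (1, 3, 5), (1, 3, 6), (1, 3, 7),
  (1, 4, 5), (1, 4, 6), (1, 4, 7), (1, 5, 6), (1, 5, 7), (1, 6, 7), (2, 3, 4), (2, 3, 5), (2, 3, 6), (2, 3, 7),
  (2, 4, 5), (2, 4, 6), (2, 4, 7), (2, 5, 6), (2, 5, 7), (2, 6, 7), (3, 4, 5), (3, 4, 6), (3, 4, 7), (3, 5, 6),
  (3, 5, 7), (3, 6, 7), (4, 5, 6), (4, 5, 7), (4, 6, 7), (5, 6, 7)]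

theorem mem_TL : ∀ i j k : Fin 8, i < j → j < k → (i, j, k) ∈ TL := by decide +kernel

theorem memT {A B C q t : ℕ} (h1 : chkQ A B q = true) (h2 : chkD q C t = true) {cs L : List ℕ} (h3 : chkL cs L t = true) :
    DD F (lv F (pl A)) (lv F (pl B)) *ᵥ lv F (pl C) ∈ SP F L := by
  rw [DD_eval h1 h2]; exact mem_SP h3

/-- the triple products are in the span of `PL ++ T7` -/
theorem TL_mem : ∀ x ∈ TL, DD F (uv F x.1) (uv F x.2.1) *ᵥ uv F x.2.2 ∈ SP F (PL ++ T7) :=
  List.forall_mem_cons.2 ⟨memT Q01 T012 C012, 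
  List.forall_mem_cons.2 ⟨memT Q01 T013 C013, 
  List.forall_mem_cons.2 ⟨memT Q01 T014 C014, 
  List.forall_mem_cons.2 ⟨memT Q01 T015 C015, 
  List.forall_mem_cons.2 ⟨memT Q01 T016 C016, 
  List.forall_mem_cons.2 ⟨memT Q01 T017 C017, 
  List.forall_mem_cons.2 ⟨memT Q02 T023 C023, 
  List.forall_mem_cons.2 ⟨memT Q02 T024 C024, 
  List.forall_mem_cons.2 ⟨memT Q02 T025 C025, 
  List.forall_mem_cons.2 ⟨memT Q02 T026 C026, 
  List.forall_mem_cons.2 ⟨memT Q02 T027 C027, 
  List.forall_mem_cons.2 ⟨memT Q03 T034 C034, 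
  List.forall_mem_cons.2 ⟨memT Q03 T035 C035, 
  List.forall_mem_cons.2 ⟨memT Q03 T036 C036, 
  List.forall_mem_cons.2 ⟨memT Q03 T037 C037, 
  List.forall_mem_cons.2 ⟨memT Q04 T045 C045, 
  List.forall_mem_cons.2 ⟨memT Q04 T046 C046, 
  List.forall_mem_cons.2 ⟨memT Q04 T047 C047, 
  List.forall_mem_cons.2 ⟨memT Q05 T056 C056, 
  List.forall_mem_cons.2 ⟨memT Q05 T057 C057, 
  List.forall_mem_cons.2 ⟨memT Q06 T067 C067, 
  List.forall_mem_cons.2 ⟨memT Q12 T123 C123, 
  List.forall_mem_cons.2 ⟨memT Q12 T124 C124, 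
  List.forall_mem_cons.2 ⟨memT Q12 T125 C125, 
  List.forall_mem_cons.2 ⟨memT Q12 T126 C126, 
  List.forall_mem_cons.2 ⟨memT Q12 T127 C127, 
  List.forall_mem_cons.2 ⟨memT Q13 T134 C134, 
  List.forall_mem_cons.2 ⟨memT Q13 T135 C135, 
  List.forall_mem_cons.2 ⟨memT Q13 T136 C136, 
  List.forall_mem_cons.2 ⟨memT Q13 T137 C137, 
  List.forall_mem_cons.2 ⟨memT Q14 T145 C145, 
  List.forall_mem_cons.2 ⟨memT Q14 T146 C146, 
  List.forall_mem_cons.2 ⟨memT Q14 T147 C147, 
  List.forall_mem_cons.2 ⟨memT Q15 T156 C156, 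
  List.forall_mem_cons.2 ⟨memT Q15 T157 C157, 
  List.forall_mem_cons.2 ⟨memT Q16 T167 C167, 
  List.forall_mem_cons.2 ⟨memT Q23 T234 C234, 
  List.forall_mem_cons.2 ⟨memT Q23 T235 C235, 
  List.forall_mem_cons.2 ⟨memT Q23 T236 C236, 
  List.forall_mem_cons.2 ⟨memT Q23 T237 C237, 
  List.forall_mem_cons.2 ⟨memT Q24 T245 C245, 
  List.forall_mem_cons.2 ⟨memT Q24 T246 C246, 
  List.forall_mem_cons.2 ⟨memT Q24 T247 C247, 
  List.forall_mem_cons.2 ⟨memT Q25 T256 C256, 
  List.forall_mem_cons.2 ⟨memT Q25 T257 C257, 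
  List.forall_mem_cons.2 ⟨memT Q26 T267 C267, 
  List.forall_mem_cons.2 ⟨memT Q34 T345 C345, 
  List.forall_mem_cons.2 ⟨memT Q34 T346 C346, 
  List.forall_mem_cons.2 ⟨memT Q34 T347 C347, 
  List.forall_mem_cons.2 ⟨memT Q35 T356 C356, 
  List.forall_mem_cons.2 ⟨memT Q35 T357 C357, 
  List.forall_mem_cons.2 ⟨memT Q36 T367 C367, 
  List.forall_mem_cons.2 ⟨memT Q45 T456 C456, 
  List.forall_mem_cons.2 ⟨memT Q45 T457 C457, 
  List.forall_mem_cons.2 ⟨memT Q46 T467 C467, 
  List.forall_mem_cons.2 ⟨memT Q56 T567 C567, 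
  List.forall_mem_nil _⟩⟩⟩⟩⟩⟩⟩⟩⟩⟩⟩⟩⟩⟩⟩⟩⟩⟩⟩⟩⟩⟩⟩⟩⟩⟩⟩⟩⟩⟩⟩⟩⟩⟩⟩⟩⟩⟩⟩⟩⟩⟩⟩⟩⟩⟩⟩⟩⟩⟩⟩⟩⟩⟩⟩⟩

theorem T_mem (i j k : Fin 8) : DD F (uv F i) (uv F j) *ᵥ uv F k ∈ SP F (PL ++ T7) :=
  T_cases _ (fun i j k h1 h2 => TL_mem (i, j, k) (mem_TL i j k h1 h2)) i j k

theorem uv_mem (i : Fin 8) : uv F i ∈ W7 F := Submodule.subset_span ⟨i, rfl⟩

/-- trilinearity -/
theorem TT_le (X : Submodule F (D1 → F)) (h : ∀ i j k : Fin 8, DD F (uv F i) (uv F j) *ᵥ uv F k ∈ X) :
    TT F (W7 F) ≤ X := by
  refine Submodule.span_le.2 ?_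
  rintro _ ⟨x, hx, y, hy, z, hz, rfl⟩
  show DD F x y *ᵥ z ∈ X
  induction hx using Submodule.span_induction with
  | zero => rw [DD_zero_left, Matrix.zero_mulVec]; exact Submodule.zero_mem _
  | add a b _ _ ha hb => rw [DD_add_left, Matrix.add_mulVec]; exact Submodule.add_mem _ ha hb
  | smul c a _ ha => rw [DD_smul_left, Matrix.smul_mulVec]; exact Submodule.smul_mem _ _ ha
  | mem a ha =>
    obtain ⟨i, rfl⟩ := ha
    induction hy using Submodule.span_induction with
    | zero => rw [DD_zero_right, Matrix.zero_mulVec]; exact Submodule.zero_mem _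
    | add a b _ _ ha hb => rw [DD_add_right, Matrix.add_mulVec]; exact Submodule.add_mem _ ha hb
    | smul c a _ ha => rw [DD_smul_right, Matrix.smul_mulVec]; exact Submodule.smul_mem _ _ ha
    | mem b hb =>
      obtain ⟨j, rfl⟩ := hb
      induction hz using Submodule.span_induction with
      | zero => rw [Matrix.mulVec_zero]; exact Submodule.zero_mem _
      | add a b _ _ ha hb => rw [Matrix.mulVec_add]; exact Submodule.add_mem _ ha hb
      | smul c a _ ha => rw [Matrix.mulVec_smul]; exact Submodule.smul_mem _ _ ha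
      | mem c hc =>
        obtain ⟨k, rfl⟩ := hc
        exact h i j k

theorem T_TT (i j k : Fin 8) : DD F (uv F i) (uv F j) *ᵥ uv F k ∈ TT F (W7 F) :=
  Submodule.subset_span ⟨_, uv_mem i, _, uv_mem j, _, uv_mem k, rfl⟩

theorem memTT {A B C q t : ℕ} (h1 : chkQ A B q = true) (h2 : chkD q C t = true) (i j k : Fin 8)
    (hA : UL.getD i 0 = A) (hB : UL.getD j 0 = B) (hC : UL.getD k 0 = C) : lv F (pl t) ∈ TT F (W7 F) := by
  have := T_TT (F := F) i j k
  rw [uv, uv, uv, hA, hB, hC, DD_eval h1 h2] at this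
  exact this

theorem TA_mem : ∀ n ∈ TA, lv F (pl n) ∈ TT F (W7 F) :=
  List.forall_mem_cons.2 ⟨memTT Q01 T012 0 1 2 rfl rfl rfl, 
  List.forall_mem_cons.2 ⟨memTT Q01 T013 0 1 3 rfl rfl rfl, 
  List.forall_mem_cons.2 ⟨memTT Q01 T014 0 1 4 rfl rfl rfl, 
  List.forall_mem_cons.2 ⟨memTT Q01 T015 0 1 5 rfl rfl rfl, 
  List.forall_mem_cons.2 ⟨memTT Q01 T016 0 1 6 rfl rfl rfl, 
  List.forall_mem_cons.2 ⟨memTT Q01 T017 0 1 7 rfl rfl rfl, 
  List.forall_mem_cons.2 ⟨memTT Q02 T023 0 2 3 rfl rfl rfl, 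
  List.forall_mem_cons.2 ⟨memTT Q02 T024 0 2 4 rfl rfl rfl, 
  List.forall_mem_cons.2 ⟨memTT Q02 T025 0 2 5 rfl rfl rfl, 
  List.forall_mem_cons.2 ⟨memTT Q02 T026 0 2 6 rfl rfl rfl, 
  List.forall_mem_cons.2 ⟨memTT Q02 T027 0 2 7 rfl rfl rfl, 
  List.forall_mem_cons.2 ⟨memTT Q03 T034 0 3 4 rfl rfl rfl, 
  List.forall_mem_cons.2 ⟨memTT Q03 T035 0 3 5 rfl rfl rfl, 
  List.forall_mem_cons.2 ⟨memTT Q03 T036 0 3 6 rfl rfl rfl, 
  List.forall_mem_cons.2 ⟨memTT Q03 T037 0 3 7 rfl rfl rfl, 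
  List.forall_mem_cons.2 ⟨memTT Q04 T045 0 4 5 rfl rfl rfl, 
  List.forall_mem_cons.2 ⟨memTT Q04 T046 0 4 6 rfl rfl rfl, 
  List.forall_mem_cons.2 ⟨memTT Q04 T047 0 4 7 rfl rfl rfl, 
  List.forall_mem_cons.2 ⟨memTT Q05 T056 0 5 6 rfl rfl rfl, 
  List.forall_mem_cons.2 ⟨memTT Q05 T057 0 5 7 rfl rfl rfl, 
  List.forall_mem_cons.2 ⟨memTT Q06 T067 0 6 7 rfl rfl rfl, 
  List.forall_mem_cons.2 ⟨memTT Q12 T123 1 2 3 rfl rfl rfl, 
  List.forall_mem_cons.2 ⟨memTT Q12 T124 1 2 4 rfl rfl rfl, 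
  List.forall_mem_cons.2 ⟨memTT Q12 T125 1 2 5 rfl rfl rfl, 
  List.forall_mem_cons.2 ⟨memTT Q12 T126 1 2 6 rfl rfl rfl, 
  List.forall_mem_cons.2 ⟨memTT Q12 T127 1 2 7 rfl rfl rfl, 
  List.forall_mem_cons.2 ⟨memTT Q13 T134 1 3 4 rfl rfl rfl, 
  List.forall_mem_cons.2 ⟨memTT Q13 T135 1 3 5 rfl rfl rfl, 
  List.forall_mem_cons.2 ⟨memTT Q13 T136 1 3 6 rfl rfl rfl, 
  List.forall_mem_cons.2 ⟨memTT Q13 T137 1 3 7 rfl rfl rfl, 
  List.forall_mem_cons.2 ⟨memTT Q14 T145 1 4 5 rfl rfl rfl, 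
  List.forall_mem_cons.2 ⟨memTT Q14 T146 1 4 6 rfl rfl rfl, 
  List.forall_mem_cons.2 ⟨memTT Q14 T147 1 4 7 rfl rfl rfl, 
  List.forall_mem_cons.2 ⟨memTT Q15 T156 1 5 6 rfl rfl rfl, 
  List.forall_mem_cons.2 ⟨memTT Q15 T157 1 5 7 rfl rfl rfl, 
  List.forall_mem_cons.2 ⟨memTT Q16 T167 1 6 7 rfl rfl rfl, 
  List.forall_mem_cons.2 ⟨memTT Q23 T234 2 3 4 rfl rfl rfl, 
  List.forall_mem_cons.2 ⟨memTT Q23 T235 2 3 5 rfl rfl rfl, 
  List.forall_mem_cons.2 ⟨memTT Q23 T236 2 3 6 rfl rfl rfl, 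
  List.forall_mem_cons.2 ⟨memTT Q23 T237 2 3 7 rfl rfl rfl, 
  List.forall_mem_cons.2 ⟨memTT Q24 T245 2 4 5 rfl rfl rfl, 
  List.forall_mem_cons.2 ⟨memTT Q24 T246 2 4 6 rfl rfl rfl, 
  List.forall_mem_cons.2 ⟨memTT Q24 T247 2 4 7 rfl rfl rfl, 
  List.forall_mem_cons.2 ⟨memTT Q25 T256 2 5 6 rfl rfl rfl, 
  List.forall_mem_cons.2 ⟨memTT Q25 T257 2 5 7 rfl rfl rfl, 
  List.forall_mem_cons.2 ⟨memTT Q26 T267 2 6 7 rfl rfl rfl, 
  List.forall_mem_cons.2 ⟨memTT Q34 T345 3 4 5 rfl rfl rfl, 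
  List.forall_mem_cons.2 ⟨memTT Q34 T346 3 4 6 rfl rfl rfl, 
  List.forall_mem_cons.2 ⟨memTT Q34 T347 3 4 7 rfl rfl rfl, 
  List.forall_mem_cons.2 ⟨memTT Q35 T356 3 5 6 rfl rfl rfl, 
  List.forall_mem_cons.2 ⟨memTT Q35 T357 3 5 7 rfl rfl rfl, 
  List.forall_mem_cons.2 ⟨memTT Q36 T367 3 6 7 rfl rfl rfl, 
  List.forall_mem_cons.2 ⟨memTT Q45 T456 4 5 6 rfl rfl rfl, 
  List.forall_mem_cons.2 ⟨memTT Q45 T457 4 5 7 rfl rfl rfl, 
  List.forall_mem_cons.2 ⟨memTT Q46 T467 4 6 7 rfl rfl rfl, 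
  List.forall_mem_cons.2 ⟨memTT Q56 T567 5 6 7 rfl rfl rfl, 
  List.forall_mem_nil _⟩⟩⟩⟩⟩⟩⟩⟩⟩⟩⟩⟩⟩⟩⟩⟩⟩⟩⟩⟩⟩⟩⟩⟩⟩⟩⟩⟩⟩⟩⟩⟩⟩⟩⟩⟩⟩⟩⟩⟩⟩⟩⟩⟩⟩⟩⟩⟩⟩⟩⟩⟩⟩⟩⟩⟩

theorem mem_TT_of {cs L : List ℕ} {E : ℕ} (h : chkL cs L E = true) (hL : (L.all fun n => TA.contains n) = true) :
    lv F (pl E) ∈ TT F (W7 F) := by
  refine SP_le (fun n hn => TA_mem n ?_) (mem_SP h)
  have := List.all_eq_true.1 hL n hn
  exact List.contains_iff_mem.1 this

theorem PL_TT : ∀ n ∈ PL, lv F (pl n) ∈ TT F (W7 F) :=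
  List.forall_mem_cons.2 ⟨mem_TT_of P0 (by decide +kernel), 
  List.forall_mem_cons.2 ⟨mem_TT_of P1 (by decide +kernel), 
  List.forall_mem_cons.2 ⟨mem_TT_of P2 (by decide +kernel), 
  List.forall_mem_cons.2 ⟨mem_TT_of P3 (by decide +kernel), 
  List.forall_mem_cons.2 ⟨mem_TT_of P4 (by decide +kernel), 
  List.forall_mem_cons.2 ⟨mem_TT_of P5 (by decide +kernel), 
  List.forall_mem_cons.2 ⟨mem_TT_of P6 (by decide +kernel), 
  List.forall_mem_cons.2 ⟨mem_TT_of P7 (by decide +kernel), 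
  List.forall_mem_cons.2 ⟨mem_TT_of P8 (by decide +kernel), 
  List.forall_mem_cons.2 ⟨mem_TT_of P9 (by decide +kernel), 
  List.forall_mem_cons.2 ⟨mem_TT_of P10 (by decide +kernel), 
  List.forall_mem_cons.2 ⟨mem_TT_of P11 (by decide +kernel), 
  List.forall_mem_cons.2 ⟨mem_TT_of P12 (by decide +kernel), 
  List.forall_mem_cons.2 ⟨mem_TT_of P13 (by decide +kernel), 
  List.forall_mem_cons.2 ⟨mem_TT_of P14 (by decide +kernel), 
  List.forall_mem_cons.2 ⟨mem_TT_of P15 (by decide +kernel), 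
  List.forall_mem_cons.2 ⟨mem_TT_of P16 (by decide +kernel), 
  List.forall_mem_cons.2 ⟨mem_TT_of P17 (by decide +kernel), 
  List.forall_mem_cons.2 ⟨mem_TT_of P18 (by decide +kernel), 
  List.forall_mem_cons.2 ⟨mem_TT_of P19 (by decide +kernel), 
  List.forall_mem_cons.2 ⟨mem_TT_of P20 (by decide +kernel), 
  List.forall_mem_nil _⟩⟩⟩⟩⟩⟩⟩⟩⟩⟩⟩⟩⟩⟩⟩⟩⟩⟩⟩⟩⟩

theorem mem_PP_of {x : D1 → F} (h : ∀ i, sf F (uv F i) x = 0) : x ∈ PP F (W7 F) := by
  intro y hy
  induction hy using Submodule.span_induction with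
  | zero => rw [map_zero]; rfl
  | add a b _ _ ha hb => rw [map_add, LinearMap.add_apply, ha, hb, add_zero]
  | smul c a _ ha => rw [map_smul, LinearMap.smul_apply, ha, smul_zero]
  | mem a ha =>
    obtain ⟨i, rfl⟩ := ha
    exact h i

theorem PL_orth (i : Fin 8) {n : ℕ} (hn : n ∈ PL) : sf F (uv F i) (lv F (pl n)) = 0 := by
  rw [uv, ← om_spec]
  have h := Nat.eq_of_beq_eq_true (List.all_eq_true.1 (List.all_eq_true.1 perpP _ (UL_mem i)) _ hn)
  rw [h, Nat.cast_zero]

theorem PL_PP {n : ℕ} (hn : n ∈ PL) : lv F (pl n) ∈ PP F (W7 F) := mem_PP_of fun i => PL_orth i hn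

theorem BL_eq : BL = UL.take 7 ++ PL := rfl

theorem SP_BL_le : SP F BL ≤ WW F (W7 F) := by
  refine SP_le fun n hn => ?_
  rw [BL_eq, List.mem_append] at hn
  rcases hn with hn | hn
  · have h1 : n ∈ UL := List.mem_of_mem_take hn
    obtain ⟨i, hi, h2⟩ := List.getElem_of_mem h1
    have hi8 : i < 8 := hi
    have h3 : uv F ⟨i, hi8⟩ = lv F (pl n) := by
      rw [uv]
      show lv F (pl (UL.getD i 0)) = _
      rw [List.getD_eq_getElem _ _ hi, h2]
    rw [← h3]
    exact Submodule.mem_sup_left (uv_mem _)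
  · exact Submodule.mem_sup_right ⟨PL_TT n hn, PL_PP hn⟩

theorem u7BL : chkL [4, 4, 4, 4, 4, 4, 4] BL u7 = true := by decide +kernel

theorem W7_le : W7 F ≤ SP F BL := by
  refine Submodule.span_le.2 ?_
  rintro _ ⟨i, rfl⟩
  show lv F (pl (UL.getD i 0)) ∈ SP F BL
  by_cases hi : (i : ℕ) < 7
  · refine SP_of_mem ?_
    rw [BL_eq, List.mem_append]
    left
    have h1 : (UL.take 7).getD i 0 = UL.getD i 0 := by
      rw [List.getD_eq_getElem?_getD, List.getD_eq_getElem?_getD, List.getElem?_take_of_lt hi]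
    rw [← h1, List.getD_eq_getElem _ _ (show (i : ℕ) < (UL.take 7).length from hi)]
    exact List.getElem_mem _
  · have h1 : (i : ℕ) = 7 := by omega
    rw [h1]
    exact mem_SP u7BL

theorem MM_chk : ((List.range 7).all fun m => (List.range 7).all fun j => Nat.beq (om (UL.getD m 0) (T7.getD j 0))
    ((MM.getD m []).getD j 0)) = true := by decide +kernel

theorem om_T7 {m j : ℕ} (hm : m < 7) (hj : j < 7) :
    sf F (uv F ⟨m, by omega⟩) (lv F (pl (T7.getD j 0))) = ((((MM.getD m []).getD j 0 : ℕ)) : F) := by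
  have h := Nat.eq_of_beq_eq_true (List.all_eq_true.1 (List.all_eq_true.1 MM_chk m (List.mem_range.2 hm)) j (List.mem_range.2 hj))
  rw [uv, ← om_spec, ← h]

/-- the Gram matrix is invertible -/
theorem gram {c : Fin 7 → F} (h : ∀ m : Fin 7, ∑ j : Fin 7, c j * ((((MM.getD m []).getD j 0 : ℕ)) : F) = 0) : c = 0 := by
  have h5 : (5 : F) = 0 := five_zero
  have h_0 := h 0
  rw [Fin.sum_univ_seven] at h_0
  change c 0 * ((0 : ℕ) : F) + c 1 * ((0 : ℕ) : F) + c 2 * ((0 : ℕ) : F) + c 3 * ((0 : ℕ) : F) + c 4 * ((1 : ℕ) : F) + c 5 * ((1 : ℕ) : F) + c 6 * ((1 : ℕ) : F) = 0 at h_0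
  have h_1 := h 1
  rw [Fin.sum_univ_seven] at h_1
  change c 0 * ((0 : ℕ) : F) + c 1 * ((1 : ℕ) : F) + c 2 * ((1 : ℕ) : F) + c 3 * ((1 : ℕ) : F) + c 4 * ((1 : ℕ) : F) + c 5 * ((1 : ℕ) : F) + c 6 * ((1 : ℕ) : F) = 0 at h_1
  have h_2 := h 2
  rw [Fin.sum_univ_seven] at h_2
  change c 0 * ((1 : ℕ) : F) + c 1 * ((0 : ℕ) : F) + c 2 * ((0 : ℕ) : F) + c 3 * ((1 : ℕ) : F) + c 4 * ((0 : ℕ) : F) + c 5 * ((1 : ℕ) : F) + c 6 * ((1 : ℕ) : F) = 0 at h_2
  have h_3 := h 3
  rw [Fin.sum_univ_seven] at h_3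
  change c 0 * ((1 : ℕ) : F) + c 1 * ((1 : ℕ) : F) + c 2 * ((1 : ℕ) : F) + c 3 * ((1 : ℕ) : F) + c 4 * ((0 : ℕ) : F) + c 5 * ((0 : ℕ) : F) + c 6 * ((0 : ℕ) : F) = 0 at h_3
  have h_4 := h 4
  rw [Fin.sum_univ_seven] at h_4
  change c 0 * ((1 : ℕ) : F) + c 1 * ((0 : ℕ) : F) + c 2 * ((1 : ℕ) : F) + c 3 * ((0 : ℕ) : F) + c 4 * ((0 : ℕ) : F) + c 5 * ((0 : ℕ) : F) + c 6 * ((1 : ℕ) : F) = 0 at h_4
  have h_5 := h 5
  rw [Fin.sum_univ_seven] at h_5
  change c 0 * ((1 : ℕ) : F) + c 1 * ((1 : ℕ) : F) + c 2 * ((0 : ℕ) : F) + c 3 * ((1 : ℕ) : F) + c 4 * ((1 : ℕ) : F) + c 5 * ((1 : ℕ) : F) + c 6 * ((1 : ℕ) : F) = 0 at h_5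
  have h_6 := h 6
  rw [Fin.sum_univ_seven] at h_6
  change c 0 * ((0 : ℕ) : F) + c 1 * ((1 : ℕ) : F) + c 2 * ((1 : ℕ) : F) + c 3 * ((0 : ℕ) : F) + c 4 * ((1 : ℕ) : F) + c 5 * ((1 : ℕ) : F) + c 6 * ((0 : ℕ) : F) = 0 at h_6
  simp only [Nat.cast_zero, Nat.cast_one, mul_zero, mul_one, add_zero, zero_add] at h_0 h_1 h_2 h_3 h_4 h_5 h_6
  funext j
  show c j = 0
  fin_cases j
  · show c 0 = 0
    linear_combination 1 * h_0 + 4 * h_1 + 1 * h_3 - (1 * c 1 + 1 * c 2 + 1 * c 3 + 1 * c 4 + 1 * c 5 + 1 * c 6) * h5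
  · show c 1 = 0
    linear_combination 1 * h_0 + 1 * h_1 + 2 * h_3 + 1 * h_4 + 2 * h_5 + 1 * h_6 - (1 * c 0 + 1 * c 1 + 1 * c 2 + 1 * c 3 + 1 * c 4 + 1 * c 5 + 1 * c 6) * h5
  · show c 2 = 0
    linear_combination 1 * h_0 + 1 * h_3 + 4 * h_5 - (1 * c 0 + 1 * c 1 + 1 * c 3 + 1 * c 4 + 1 * c 5 + 1 * c 6) * h5
  · show c 3 = 0
    linear_combination 2 * h_0 + 2 * h_3 + 4 * h_4 + 4 * h_5 + 4 * h_6 - (2 * c 0 + 2 * c 1 + 2 * c 2 + 1 * c 3 + 2 * c 4 + 2 * c 5 + 2 * c 6) * h5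
  · show c 4 = 0
    linear_combination 4 * h_0 + 4 * h_1 + 4 * h_2 + 3 * h_3 + 4 * h_4 + 4 * h_5 + 4 * h_6 - (3 * c 0 + 3 * c 1 + 3 * c 2 + 3 * c 3 + 3 * c 4 + 4 * c 5 + 4 * c 6) * h5
  · show c 5 = 0
    linear_combination 4 * h_0 + 1 * h_2 + 4 * h_3 + 1 * h_6 - (1 * c 0 + 1 * c 1 + 1 * c 2 + 1 * c 3 + 1 * c 4 + 1 * c 5 + 1 * c 6) * h5
  · show c 6 = 0
    linear_combination 3 * h_0 + 1 * h_1 + 3 * h_3 + 1 * h_4 + 1 * h_5 - (1 * c 0 + 1 * c 1 + 1 * c 2 + 1 * c 3 + 1 * c 4 + 1 * c 5 + 1 * c 6) * h5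

theorem WW_le : WW F (W7 F) ≤ SP F BL := by
  refine sup_le W7_le ?_
  rintro x ⟨hx, hp⟩
  have h1 := TT_le _ T_mem hx
  have h2 : SP F (PL ++ T7) ≤ SP F PL ⊔ Submodule.span F (Set.range fun j : Fin 7 => lv F (pl (T7.getD j 0))) := by
    refine SP_le fun n hn => ?_
    rw [List.mem_append] at hn
    rcases hn with hn | hn
    · exact Submodule.mem_sup_left (SP_of_mem hn)
    · obtain ⟨i, hi, h2⟩ := List.getElem_of_mem hn
      refine Submodule.mem_sup_right (Submodule.subset_span ⟨⟨i, hi⟩, ?_⟩)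
      show lv F (pl (T7.getD i 0)) = _
      rw [List.getD_eq_getElem _ _ hi, h2]
  obtain ⟨p, hpP, t, ht, rfl⟩ := Submodule.mem_sup.1 (h2 h1)
  obtain ⟨c, rfl⟩ := (Submodule.mem_span_range_iff_exists_fun F).1 ht
  have h3 : c = 0 := by
    apply gram
    intro m
    have h4 := hp _ (uv_mem (⟨m, by omega⟩ : Fin 8))
    rw [map_add, map_sum] at h4
    have h5 : sf F (uv F ⟨m, by omega⟩) p = 0 := by
      have h6 : SP F PL ≤ LinearMap.ker (sf F (uv F ⟨m, by omega⟩)) := SP_le fun n hn => PL_orth _ hn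
      exact h6 hpP
    rw [h5, zero_add] at h4
    rw [← h4]
    refine Finset.sum_congr rfl fun j _ => ?_
    rw [map_smul, smul_eq_mul, om_T7 m.2 j.2]
  rw [h3]
  simp only [Pi.zero_apply, zero_smul, Finset.sum_const_zero, add_zero]
  exact SP_mono (fun n hn => by rw [BL_eq]; exact List.mem_append_right _ hn) hpP

variable (F)

/-- the element `g_0` -/
noncomputable def g0 : Gh F := gw F wG * tor F eG

variable {F}

theorem g0_b {b i : ℕ} (h : Nat.beq (cw cG (upg ft b dG)) i = true) {cs : List ℕ} (h2 : chkL cs BL i = true) :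
    V F (g0 F) (lv F (pl b)) ∈ SP F BL := by
  rw [g0, V_wt okwG oktG h]
  exact mem_SP h2

theorem g0_BL : ∀ n ∈ BL, V F (g0 F) (lv F (pl n)) ∈ SP F BL :=
  List.forall_mem_cons.2 ⟨g0_b I0 J0, 
  List.forall_mem_cons.2 ⟨g0_b I1 J1, 
  List.forall_mem_cons.2 ⟨g0_b I2 J2, 
  List.forall_mem_cons.2 ⟨g0_b I3 J3, 
  List.forall_mem_cons.2 ⟨g0_b I4 J4, 
  List.forall_mem_cons.2 ⟨g0_b I5 J5, 
  List.forall_mem_cons.2 ⟨g0_b I6 J6, 
  List.forall_mem_cons.2 ⟨g0_b I7 J7, 
  List.forall_mem_cons.2 ⟨g0_b I8 J8, 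
  List.forall_mem_cons.2 ⟨g0_b I9 J9, 
  List.forall_mem_cons.2 ⟨g0_b I10 J10, 
  List.forall_mem_cons.2 ⟨g0_b I11 J11, 
  List.forall_mem_cons.2 ⟨g0_b I12 J12, 
  List.forall_mem_cons.2 ⟨g0_b I13 J13, 
  List.forall_mem_cons.2 ⟨g0_b I14 J14, 
  List.forall_mem_cons.2 ⟨g0_b I15 J15, 
  List.forall_mem_cons.2 ⟨g0_b I16 J16, 
  List.forall_mem_cons.2 ⟨g0_b I17 J17, 
  List.forall_mem_cons.2 ⟨g0_b I18 J18, 
  List.forall_mem_cons.2 ⟨g0_b I19 J19, 
  List.forall_mem_cons.2 ⟨g0_b I20 J20, 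
  List.forall_mem_cons.2 ⟨g0_b I21 J21, 
  List.forall_mem_cons.2 ⟨g0_b I22 J22, 
  List.forall_mem_cons.2 ⟨g0_b I23 J23, 
  List.forall_mem_cons.2 ⟨g0_b I24 J24, 
  List.forall_mem_cons.2 ⟨g0_b I25 J25, 
  List.forall_mem_cons.2 ⟨g0_b I26 J26, 
  List.forall_mem_cons.2 ⟨g0_b I27 J27, 
  List.forall_mem_nil _⟩⟩⟩⟩⟩⟩⟩⟩⟩⟩⟩⟩⟩⟩⟩⟩⟩⟩⟩⟩⟩⟩⟩⟩⟩⟩⟩⟩

/-- **`g_0` stabilises the canonical subspace** -/
theorem g0_WW : ∀ x ∈ WW F (W7 F), V F (g0 F) x ∈ WW F (W7 F) := by
  intro x hx
  have h1 : SP F BL ≤ (SP F BL).comap (V F (g0 F)) := SP_le fun n hn => g0_BL n hn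
  exact SP_BL_le (h1 (WW_le hx))

/-- **`g_0` does not stabilise `W7`** -/
theorem g0_W7 : ∃ x ∈ W7 F, V F (g0 F) x ∉ W7 F := by
  refine ⟨uv F 0, uv_mem 0, ?_⟩
  have h1 : V F (g0 F) (uv F 0) = lv F (pl i0) := V_wt okwG oktG I0
  rw [h1]
  intro h2
  have h3 : W7 F ≤ LinearMap.ker (sf F (lv F (pl xx))) := by
    refine Submodule.span_le.2 ?_
    rintro _ ⟨i, rfl⟩
    show sf F (lv F (pl xx)) (uv F i) = 0
    rw [uv, ← om_spec]
    have h := Nat.eq_of_beq_eq_true (List.all_eq_true.1 xxU _ (UL_mem i))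
    rw [h, Nat.cast_zero]
  have h4 : sf F (lv F (pl xx)) (lv F (pl i0)) = 0 := h3 h2
  rw [← om_spec, Nat.eq_of_beq_eq_true xxI, Nat.cast_one] at h4
  exact one_ne_zero h4

theorem uv_ne : sf F (uv F 0) (DD F (uv F 1) (uv F 2) *ᵥ uv F 3) ≠ 0 := by
  have h1 : DD F (uv F 1) (uv F 2) *ᵥ uv F 3 = lv F (pl t123) := DD_eval Q12 T123
  have h2 : Nat.beq (om u0 t123) 1 = true := by decide +kernel
  rw [h1]
  show sf F (lv F (pl u0)) (lv F (pl t123)) ≠ 0
  rw [← om_spec, Nat.eq_of_beq_eq_true h2, Nat.cast_one]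
  exact one_ne_zero

end

end Cfsg.Agent.R2.PX.C
end

private theorem dce_be88267ee242 : _root_.True := by
  try have : _root_.True := by simp only [_root_.Cfsg.Agent.R2.PX.C.g0.eq_1]
  exact _root_.True.intro
end

-- part: R2/T1/Pat2/Ct
section
prune_inst 0xf5602d046462020000180586130020646c00009200030c00ccc00c440149e6422000ae4137a0051210a88c002009006000000030404000000400040000000000908252063340a10466009f000084000000000000000000000000000000010004000000000
set_option linter.all false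
open scoped Cfsg.Agent.FastGrp

-- part: R2/T1/Pat2/Typ2
section
/-!
# T1, PAT2 (helper26): the types of the elements of order 3, 5, 7, 15, `p = 2`

`pat2w` : for `n ≥ 8` and injective `ψ : A_n → Gh F`.
-/

set_option autoImplicit false
set_option maxRecDepth 100000

namespace Cfsg.Agent.R2.T1.Pat2

open Cfsg Cfsg.Lie Module
open Cfsg.Agent.H943.E7V.Block (D1 rho)
open Cfsg.Agent.H952.F4 (ev es)
open Cfsg.Agent.R2.T1.Art
open Cfsg.Agent.R2.T1.Odd

universe u

/-- `(0 1 2 3 4 5 6)` -/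
def w7 : List (ℕ × ℕ) := [(0, 1), (1, 2), (2, 3), (3, 4), (4, 5), (5, 6)]
/-- its inverse -/
def w7i : List (ℕ × ℕ) := [(5, 6), (4, 5), (3, 4), (2, 3), (1, 2), (0, 1)]
/-- `(0 1 2 3 4)(5 6 7)` -/
def w53 : List (ℕ × ℕ) := [(0, 1), (1, 2), (2, 3), (3, 4), (5, 6), (6, 7)]
/-- `(3 4 5)` -/
def wb : List (ℕ × ℕ) := [(3, 4), (4, 5)]
/-- its inverse -/
def wbi : List (ℕ × ℕ) := [(4, 5), (3, 4)]

/-! ### tables: `⟨(0 1 2), (5 6 7)⟩` and `7 : 3` -/

def g9 : List (List (ℕ × ℕ)) := [l3, y3]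
def e9 : List (List ℕ) := [[], [0], [1], [0, 0], [1, 0], [1, 1], [1, 0, 0], [1, 1, 0], [1, 1, 0, 0]]
def r9 : List (List (ℕ × ℕ)) := [[], l3, l33]
def d9 : List (ℕ × List (ℕ × ℕ)) :=
  [(0, []), (1, []), (1, [(0, 5), (5, 3), (1, 6), (2, 7)]), (1, [(1, 2), (6, 7)]), (2, [(3, 4), (4, 7)]),
   (1, [(0, 5), (5, 3), (1, 7), (2, 6)]), (2, [(1, 2), (4, 7)]), (2, [(4, 5), (5, 7)]),
   (2, [(1, 2), (3, 4), (4, 5), (5, 7)])]

theorem chkG_9 : chkG 8 g9 e9 = true := by decide +kernel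
theorem chkC_9 : chkC 8 g9 e9 [] r9 d9 = true := _root_.Cfsg.Agent.R2.T1.Odd.Fq.chkC_of (by decide +kernel)
theorem cnt_9 : (List.range 3).map (fun k => (d9.map Prod.fst).count k) = [1, 4, 4] := by decide +kernel

def g21 : List (List (ℕ × ℕ)) := [w7, [(1, 2), (2, 4), (3, 6), (6, 5)]]
def e21 : List (List ℕ) :=
  [[], [0], [1], [0, 0], [1, 0], [0, 1], [1, 1], [0, 0, 0], [1, 0, 0], [0, 1, 0], [1, 1, 0], [1, 0, 1], [0, 1, 1],
   [0, 0, 0, 0], [1, 0, 0, 0], [0, 1, 0, 0], [1, 0, 1, 0], [0, 1, 1, 0], [0, 1, 0, 1], [0, 0, 0, 0, 0],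
   [1, 0, 1, 0, 1]]
def r21 : List (List (ℕ × ℕ)) := [[], w7, w7i, l33]
def d21 : List (ℕ × List (ℕ × ℕ)) :=
  [(0, []), (1, []), (3, [(0, 3), (1, 6), (6, 4), (2, 5)]), (1, [(1, 2), (2, 4), (3, 6), (6, 5)]),
   (3, [(1, 2), (2, 6), (3, 7), (7, 5)]), (3, [(2, 3), (3, 7), (7, 6), (6, 4)]), (3, [(0, 1), (1, 4), (4, 3), (3, 7)]),
   (2, [(1, 4), (4, 2), (3, 5), (5, 6)]), (3, [(0, 1), (1, 6)]), (3, [(1, 3), (3, 4)]),
   (3, [(1, 4), (4, 2), (2, 6), (6, 3)]), (3, [(1, 2), (2, 3), (3, 4), (5, 6)]), (3, [(2, 5), (5, 3)]),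
   (1, [(1, 4), (4, 2), (3, 5), (5, 6)]), (3, [(1, 6), (6, 5), (5, 3), (2, 4)]), (3, [(1, 5), (5, 4), (4, 3), (3, 2)]),
   (3, [(1, 6), (6, 4), (3, 7), (7, 5)]), (3, [(0, 6), (6, 4)]), (3, [(1, 3), (3, 7), (7, 6), (6, 2)]),
   (2, [(1, 2), (2, 4), (3, 6), (6, 5)]), (2, [])]

theorem chkG_21 : chkG 8 g21 e21 = true := by decide +kernel
theorem chkC_21 : chkC 8 g21 e21 [] r21 d21 = true := _root_.Cfsg.Agent.R2.T1.Odd.Fq.chkC_of (by decide +kernel)
theorem cnt_21 : (List.range 4).map (fun k => (d21.map Prod.fst).count k) = [1, 3, 3, 14] := by decide +kernel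

section types
variable {n : ℕ} [NeZero n] (hn : 8 ≤ n) {F : Type u} [Field F] {ψ : ↥(alternatingGroup (Fin n)) →* Gh F}

include hn in
/-- conjugate words -/
theorem ev_cj {x c r : List (ℕ × ℕ)} (hx : vl 8 x = true) (hc : vl 8 c = true) (hr : vl 8 r = true)
    (h : cd 8 (x ++ c) = cd 8 (c ++ r)) : ev (V F (ψ (P n x))) 1 = ev (V F (ψ (P n r))) 1 ∧
      ev (L F (ψ (P n x))) 1 = ev (L F (ψ (P n r))) 1 :=
  ⟨ev_P_conj hn (MonoidHom.comp (V F) ψ) hx hc hr h 1, ev_P_conj hn (MonoidHom.comp (L F) ψ) hx hc hr h 1⟩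

include hn in
/-- elements conjugate to their squares -/
theorem rat_cj {x c : List (ℕ × ℕ)} (hx : vl 8 x = true) (hc : vl 8 c = true)
    (h : cd 8 (pwl x 2 ++ c) = cd 8 (c ++ x)) : ψ (P n c) * ψ (P n x) * (ψ (P n c))⁻¹ = ψ (P n x) ^ 2 := by
  rw [← map_inv, ← map_mul, ← map_mul, ← P_conj hn (vl_pwl hx 2) hc hx h, P_pwl hn hx, map_pow]

include hn in
theorem psi_pow_one {x : List (ℕ × ℕ)} (hx : vl 8 x = true) {k : ℕ} (h : cd 8 (pwl x k) = cd 8 []) :
    ψ (P n x) ^ k = 1 := by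
  rw [← map_pow, P_pow_one hn hx h, map_one]

include hn in
theorem psi_ne_one (hψ : Function.Injective ψ) {x : List (ℕ × ℕ)} (hx : vl 8 x = true) (h : cd 8 x ≠ cd 8 []) :
    ψ (P n x) ≠ 1 := by
  intro h1
  rw [← map_one ψ] at h1
  exact P_ne hn hx rfl h (by rw [hψ h1, P_nil])

variable [Finite F] (h2 : (2 : F) = 0) (hψ : Function.Injective ψ)
include hn h2 hψ

theorem d5 : ev (V F (ψ (P n w5))) 1 = 16 ∧ ev (L F (ψ (P n w5))) 1 = 33 :=
  five_ratL (by
    have := natCast_ne_zero_of_odd (F := F) h2 (N := 5) rfl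
    exact_mod_cast this) (psi_pow_one hn (by decide) (by decide)) (psi_ne_one hn hψ (by decide) (by decide))
    (rat_cj hn (c := [(1, 2), (2, 4), (4, 3), (6, 7)]) (by decide) (by decide) (by decide))

theorem d7 : ev (V F (ψ (P n w7))) 1 = 2 ∨ ev (V F (ψ (P n w7))) 1 = 8 ∨ ev (V F (ψ (P n w7))) 1 = 20 :=
  seven_rat (by
    have := natCast_ne_zero_of_odd (F := F) h2 (N := 7) rfl
    exact_mod_cast this) (psi_pow_one hn (by decide) (by decide +kernel)) (psi_ne_one hn hψ (by decide) (by decide))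
    (rat_cj hn (c := [(1, 2), (2, 4), (3, 6), (6, 5)]) (by decide) (by decide) (by decide))

theorem d3_ge : 16 ≤ ev (V F (ψ (P n l3))) 1 := by
  have h := le_of_cert h2 (show 5 ≤ n by omega) (MonoidHom.comp (V F) ψ) cert3 ⊤ (fun _ _ => Submodule.mem_top)
  rw [inf_top_eq, inf_top_eq] at h
  rw [← (d5 hn h2 hψ).1]
  exact h

theorem d33_ge : 16 ≤ ev (V F (ψ (P n l33))) 1 := by
  have h := le_of_cert h2 (show 6 ≤ n by omega) (MonoidHom.comp (V F) ψ) cert33 ⊤ (fun _ _ => Submodule.mem_top)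
  rw [inf_top_eq, inf_top_eq] at h
  rw [← (d5 hn h2 hψ).1,
    ← (ev_cj (ψ := ψ) hn (x := w33) (c := [(3, 6), (6, 4)]) (r := l33) (by decide) (by decide) (by decide) (by decide)).1]
  exact h

theorem pat3 : (ev (V F (ψ (P n l3))) 1 = 32 ∧ ev (L F (ψ (P n l3))) 1 = 67) ∨
    (ev (V F (ψ (P n l3))) 1 = 20 ∧ ev (L F (ψ (P n l3))) 1 = 49) ∨
    (ev (V F (ψ (P n l3))) 1 = 20 ∧ ev (L F (ψ (P n l3))) 1 = 43) :=
  three_pat h2 (psi_pow_one hn (by decide) (by decide)) (psi_ne_one hn hψ (by decide) (by decide)) (d3_ge hn h2 hψ)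

theorem pat33 : (ev (V F (ψ (P n l33))) 1 = 32 ∧ ev (L F (ψ (P n l33))) 1 = 67) ∨
    (ev (V F (ψ (P n l33))) 1 = 20 ∧ ev (L F (ψ (P n l33))) 1 = 49) ∨
    (ev (V F (ψ (P n l33))) 1 = 20 ∧ ev (L F (ψ (P n l33))) 1 = 43) :=
  three_pat h2 (psi_pow_one hn (by decide) (by decide)) (psi_ne_one hn hψ (by decide) (by decide)) (d33_ge hn h2 hψ)

/-- the elements of order 3 -/
theorem typ3 :
    ((ev (V F (ψ (P n l3))) 1 = 32 ∧ ev (L F (ψ (P n l3))) 1 = 67) ∧
      (ev (V F (ψ (P n l33))) 1 = 20 ∧ ev (L F (ψ (P n l33))) 1 = 49)) ∨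
    ((ev (V F (ψ (P n l3))) 1 = 20 ∧ ev (L F (ψ (P n l3))) 1 = 49) ∧
      (ev (V F (ψ (P n l33))) 1 = 32 ∧ ev (L F (ψ (P n l33))) 1 = 67)) ∨
    ((ev (V F (ψ (P n l3))) 1 = 20 ∧ ev (L F (ψ (P n l3))) 1 = 43) ∧
      (ev (V F (ψ (P n l33))) 1 = 20 ∧ ev (L F (ψ (P n l33))) 1 = 43)) := by
  have q3 := pat3 hn h2 hψ
  have q33 := pat33 hn h2 hψ
  -- `a = (0 1 2)`, `b = (3 4 5)`
  have a3 : ψ (P n l3) ^ 3 = 1 := psi_pow_one hn (by decide) (by decide)
  have b3 : ψ (P n wb) ^ 3 = 1 := psi_pow_one hn (by decide) (by decide)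
  have cb := ev_cj (F := F) (ψ := ψ) hn (x := wb) (c := [(0, 3), (1, 4), (2, 5), (6, 7)]) (r := l3) (by decide)
    (by decide) (by decide) (by decide)
  have ab : ψ (P n l3) * ψ (P n wb) = ψ (P n (l3 ++ wb)) := by rw [← map_mul, P_append hn (by decide) (by decide)]
  have ba : ψ (P n wb) * ψ (P n l3) = ψ (P n (l3 ++ wb)) := by
    rw [← map_mul, ← P_append hn (by decide) (by decide),
      (P_eq_iff hn (show vl 8 (wb ++ l3) = true by decide) (show vl 8 (l3 ++ wb) = true by decide)).2 (by decide)]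
  have bi : (ψ (P n wb))⁻¹ = ψ (P n wbi) := by
    rw [inv_eq_iff_mul_eq_one, ← map_mul, ← P_append hn (by decide) (by decide),
      (P_eq_iff hn (show vl 8 (wb ++ wbi) = true by decide) (l' := []) rfl).2 (by decide), P_nil, map_one]
  have abi : ψ (P n l3) * (ψ (P n wb))⁻¹ = ψ (P n (l3 ++ wbi)) := by
    rw [bi, ← map_mul, P_append hn (by decide) (by decide)]
  have cab := ev_cj (F := F) (ψ := ψ) hn (x := l3 ++ wb) (c := [(3, 7), (7, 6)]) (r := l33) (by decide) (by decide)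
    (by decide) (by decide)
  have cabi := ev_cj (F := F) (ψ := ψ) hn (x := l3 ++ wbi) (c := [(3, 6), (6, 4)]) (r := l33) (by decide) (by decide)
    (by decide) (by decide)
  have hab : ψ (P n l3) * ψ (P n wb) = ψ (P n wb) * ψ (P n l3) := by rw [ab, ba]
  -- `s = (0 1 2)(3 4 5)`, `t = (0 1 2)(3 5 4)`
  have s3 : ψ (P n (l3 ++ wb)) ^ 3 = 1 := psi_pow_one hn (by decide) (by decide)
  have t3 : ψ (P n (l3 ++ wbi)) ^ 3 = 1 := psi_pow_one hn (by decide) (by decide)
  have st : ψ (P n (l3 ++ wb)) * ψ (P n (l3 ++ wbi)) = ψ (P n ((l3 ++ wb) ++ (l3 ++ wbi))) := by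
    rw [← map_mul, ← P_append hn (by decide) (by decide)]
  have ts : ψ (P n (l3 ++ wbi)) * ψ (P n (l3 ++ wb)) = ψ (P n ((l3 ++ wb) ++ (l3 ++ wbi))) := by
    rw [← map_mul, ← P_append hn (by decide) (by decide),
      (P_eq_iff hn (show vl 8 ((l3 ++ wbi) ++ (l3 ++ wb)) = true by decide)
        (show vl 8 ((l3 ++ wb) ++ (l3 ++ wbi)) = true by decide)).2 (by decide)]
  have ti : (ψ (P n (l3 ++ wbi)))⁻¹ = ψ (P n [(3, 4), (4, 5), (1, 2), (0, 1)]) := by
    rw [inv_eq_iff_mul_eq_one, ← map_mul, ← P_append hn (by decide) (by decide),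
      (P_eq_iff hn (show vl 8 ((l3 ++ wbi) ++ [(3, 4), (4, 5), (1, 2), (0, 1)]) = true by decide) (l' := []) rfl).2
        (by decide), P_nil, map_one]
  have sti : ψ (P n (l3 ++ wb)) * (ψ (P n (l3 ++ wbi)))⁻¹ = ψ (P n ((l3 ++ wb) ++ [(3, 4), (4, 5), (1, 2), (0, 1)])) := by
    rw [ti, ← map_mul, ← P_append hn (by decide) (by decide)]
  have cst := ev_cj (F := F) (ψ := ψ) hn (x := (l3 ++ wb) ++ (l3 ++ wbi)) (c := [(1, 2), (6, 7)]) (r := l3) (by decide)
    (by decide) (by decide) (by decide)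
  have csti := ev_cj (F := F) (ψ := ψ) hn (x := (l3 ++ wb) ++ [(3, 4), (4, 5), (1, 2), (0, 1)])
    (c := [(0, 3), (1, 5), (5, 2), (2, 4)]) (r := l3) (by decide) (by decide) (by decide) (by decide)
  have hst : ψ (P n (l3 ++ wb)) * ψ (P n (l3 ++ wbi)) = ψ (P n (l3 ++ wbi)) * ψ (P n (l3 ++ wb)) := by rw [st, ts]
  -- the pairs
  have p1 := fun va la => pair49 h2 a3 b3 hab va la (cb.1.trans va) (cb.2.trans la)
    (by rw [ab, abi, cab.1, cabi.1]) (by rw [ab, abi, cab.2, cabi.2])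
  have p2 := fun va la => pair67 h2 a3 b3 hab va la (cb.1.trans va) (cb.2.trans la)
    (by rw [ab, abi, cab.1, cabi.1]) (by rw [ab, abi, cab.2, cabi.2])
  have p3 := fun (va : ev (V F (ψ (P n l33))) 1 = 20) (la : ev (L F (ψ (P n l33))) 1 = 49) =>
    pair49 h2 s3 t3 hst (cab.1.trans va) (cab.2.trans la) (cabi.1.trans va) (cabi.2.trans la)
      (by rw [st, sti, cst.1, csti.1]) (by rw [st, sti, cst.2, csti.2])
  have p4 := fun (va : ev (V F (ψ (P n l33))) 1 = 32) (la : ev (L F (ψ (P n l33))) 1 = 67) =>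
    pair67 h2 s3 t3 hst (cab.1.trans va) (cab.2.trans la) (cabi.1.trans va) (cabi.2.trans la)
      (by rw [st, sti, cst.1, csti.1]) (by rw [st, sti, cst.2, csti.2])
  rw [ab, cab.1, cab.2] at p1 p2
  rw [st, cst.1, cst.2] at p3 p4
  clear cb ab ba bi abi cab cabi hab s3 t3 st ts ti sti cst csti hst a3 b3
  generalize ev (V F (ψ (P n l3))) 1 = v3 at *
  generalize ev (V F (ψ (P n l33))) 1 = v33 at *
  generalize ev (L F (ψ (P n l3))) 1 = k3 at *
  generalize ev (L F (ψ (P n l33))) 1 = k33 at *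
  rcases q3 with ⟨rfl, rfl⟩ | ⟨rfl, rfl⟩ | ⟨rfl, rfl⟩ <;> rcases q33 with ⟨rfl, rfl⟩ | ⟨rfl, rfl⟩ | ⟨rfl, rfl⟩ <;>
    simp at p1 p2 p3 p4 ⊢

omit hn hψ in
theorem dim_9 (hn : 8 ≤ n) {W : Type*} [AddCommGroup W] [Module F W] [FiniteDimensional F W]
    (ρ : Representation F ↥(alternatingGroup (Fin n)) W) :
    9 * (finrank F ↥(inv ρ (Tg n g9)) : ℚ) = om ρ 1 + 4 * om ρ (P n l3) + 4 * om ρ (P n l33) := by
  have h := dimC hn chkG_9 chkC_9 (N := 9) rfl (K := 3) rfl (natCast_ne_zero_of_odd h2 rfl) cnt_9 ρ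
  simp only [r9, Finset.sum_range_succ, Finset.sum_range_zero, List.getD_cons_zero, List.getD_cons_succ, P_nil] at h
  push_cast at h
  linear_combination h

omit hn hψ in
theorem dim_21 (hn : 8 ≤ n) {W : Type*} [AddCommGroup W] [Module F W] [FiniteDimensional F W]
    (ρ : Representation F ↥(alternatingGroup (Fin n)) W) :
    21 * (finrank F ↥(inv ρ (Tg n g21)) : ℚ) = om ρ 1 + 3 * om ρ (P n w7) + 3 * om ρ (P n w7i) +
      14 * om ρ (P n l33) := by
  have h := dimC hn chkG_21 chkC_21 (N := 21) rfl (K := 4) rfl (natCast_ne_zero_of_odd h2 rfl) cnt_21 ρ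
  simp only [r21, Finset.sum_range_succ, Finset.sum_range_zero, List.getD_cons_zero, List.getD_cons_succ, P_nil] at h
  push_cast at h
  linear_combination h

/-- the elements of order 15 -/
theorem typ15 : (ev (V F (ψ (P n l3))) 1 = 32 → ev (V F (ψ (P n w53))) 1 = 0 ∨ ev (V F (ψ (P n w53))) 1 = 8) ∧
    (ev (V F (ψ (P n l3))) 1 = 20 → ev (V F (ψ (P n w53))) 1 = 4 ∨ ev (V F (ψ (P n w53))) 1 = 12) ∧
    (ev (L F (ψ (P n l3))) 1 = 43 → ev (L F (ψ (P n w53))) 1 = 15) := by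
  have h5 := d5 hn h2 hψ
  have c3 := ev_cj (F := F) (ψ := ψ) hn (x := pwl w53 3) (c := [(1, 3), (3, 4), (4, 2), (6, 7)]) (r := w5) (by decide)
    (by decide) (by decide) (by decide +kernel)
  have c5 := ev_cj (F := F) (ψ := ψ) hn (x := pwl w53 5) (c := [(0, 5), (5, 3), (1, 7), (2, 6)]) (r := l3) (by decide)
    (by decide) (by decide) (by decide +kernel)
  rw [P_pwl hn (by decide), map_pow] at c3 c5
  have h := fifteen_rat h2 (psi_pow_one (ψ := ψ) hn (x := w53) (k := 15) (by decide) (by decide +kernel))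
    (rat_cj hn (x := w53) (c := [(1, 2), (2, 4), (4, 3), (6, 7)]) (by decide) (by decide) (by decide))
    (c3.1.trans h5.1) (c3.2.trans h5.2)
  rw [c5.1, c5.2] at h
  exact h

/-- the types `(20, 43)` do not occur -/
theorem not_43 : ¬ (ev (L F (ψ (P n l3))) 1 = 43 ∧ ev (L F (ψ (P n l33))) 1 = 43) := by
  rintro ⟨h3, h33⟩
  have h15 := (typ15 hn h2 hψ).2.2 h3
  have hd := dim_9 h2 hn (MonoidHom.comp (L F) ψ)
  have o3 : orderOf (P n l3) = 3 := orderOf_P hn (by decide +kernel)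
  have o33 : orderOf (P n l33) = 3 := orderOf_P hn (by decide +kernel)
  have f133 : finrank F (chevE7.Idx → F) = 133 := finrank_L
  rw [om_one, om_prime _ Nat.prime_three o3, om_prime _ Nat.prime_three o33, f133] at hd
  have e3 : ev ((MonoidHom.comp (L F) ψ : Representation F ↥(alternatingGroup (Fin n)) (chevE7.Idx → F)) (P n l3)) 1 = 43 :=
    h3
  have e33 : ev ((MonoidHom.comp (L F) ψ : Representation F ↥(alternatingGroup (Fin n)) (chevE7.Idx → F)) (P n l33)) 1 =
    43 := h33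
  rw [e3, e33] at hd
  have hd' : finrank F ↥(inv (MonoidHom.comp (L F) ψ) (Tg n g9)) = 13 := by
    have : (finrank F ↥(inv (MonoidHom.comp (L F) ψ) (Tg n g9)) : ℚ) = 13 := by
      push_cast at hd
      linarith only [hd]
    exact_mod_cast this
  -- the `A₅`-lemma
  set ρ : Representation F ↥(alternatingGroup (Fin n)) (chevE7.Idx → F) := MonoidHom.comp (L F) ψ with hρ
  have hcomm : P n l3 * P n y3 = P n y3 * P n l3 := by
    rw [← P_append hn (by decide) (by decide), ← P_append hn (by decide) (by decide),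
      (P_eq_iff hn (show vl 8 (l3 ++ y3) = true by decide) (show vl 8 (y3 ++ l3) = true by decide)).2 (by decide)]
  have hU : ∀ u ∈ Module.End.eigenspace (ρ (P n y3)) 1, ρ (P n w3) u ∈ Module.End.eigenspace (ρ (P n y3)) 1 := by
    intro u hu
    rw [Module.End.mem_eigenspace_iff, one_smul] at hu ⊢
    have h1 : ρ (P n y3) (ρ (P n l3) u) = ρ (P n l3) (ρ (P n y3) u) := by
      rw [← Module.End.mul_apply, ← map_mul, ← hcomm, map_mul, Module.End.mul_apply]
    rw [hu] at h1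
    exact h1
  have h := le_of_cert h2 (show 5 ≤ n by omega) ρ cert3 (Module.End.eigenspace (ρ (P n y3)) 1) hU
  have h1 : finrank F ↥(Module.End.eigenspace (ρ (P n w3)) 1 ⊓ Module.End.eigenspace (ρ (P n y3)) 1) ≤ 13 := by
    rw [← hd']
    refine Submodule.finrank_mono fun v hv => ?_
    obtain ⟨hv1, hv2⟩ := hv
    rw [SetLike.mem_coe, Module.End.mem_eigenspace_iff, one_smul] at hv1 hv2
    unfold Tg
    rw [mem_inv_closure]
    rintro x ⟨g, hg, rfl⟩
    simp only [g9, List.mem_cons, List.not_mem_nil, or_false] at hg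
    rcases hg with rfl | rfl
    · exact hv1
    · exact hv2
  have h3' : finrank F ↥(Module.End.eigenspace (ρ (P n w53)) 1) ≤
      finrank F ↥(Module.End.eigenspace (ρ (P n w5)) 1 ⊓ Module.End.eigenspace (ρ (P n y3)) 1) := by
    refine Submodule.finrank_mono fun v hv => ?_
    rw [Module.End.mem_eigenspace_iff, one_smul] at hv
    have hp : ∀ k : ℕ, ρ (P n w53 ^ k) v = v := by
      intro k
      induction k with
      | zero => rw [pow_zero, map_one]; rfl
      | succ k ih => rw [pow_succ, map_mul, Module.End.mul_apply, hv, ih]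
    refine ⟨?_, ?_⟩
    · rw [SetLike.mem_coe, Module.End.mem_eigenspace_iff, one_smul, ← P_pow_eq hn (l := w53) (k := 6) (by decide)
        (by decide) (by decide +kernel)]
      exact hp 6
    · rw [SetLike.mem_coe, Module.End.mem_eigenspace_iff, one_smul, ← P_pow_eq hn (l := w53) (k := 10) (by decide)
        (by decide) (by decide +kernel)]
      exact hp 10
  have h4 : ev (ρ (P n w53)) 1 = 15 := h15
  unfold ev at h4
  omega

omit h2 hψ [Finite F] in
theorem ev_w7i : ev (V F (ψ (P n w7i))) 1 = ev (V F (ψ (P n w7))) 1 := by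
  have h1 : P n w7i = (P n w7)⁻¹ := by
    rw [eq_comm, inv_eq_iff_mul_eq_one, ← P_append hn (by decide) (by decide),
      (P_eq_iff hn (show vl 8 (w7 ++ w7i) = true by decide) (l' := []) rfl).2 (by decide), P_nil]
  rw [h1, map_inv]
  unfold ev
  have h3 : ∀ (y : Gh F) (v : D1 → F), V F y v = v → V F y⁻¹ v = v := by
    intro y v h
    nth_rewrite 1 [← h]
    rw [← Module.End.mul_apply, ← map_mul, inv_mul_cancel, map_one, Module.End.one_apply]
  have h2 : Module.End.eigenspace (V F (ψ (P n w7))⁻¹) 1 = Module.End.eigenspace (V F (ψ (P n w7))) 1 := by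
    ext v
    rw [Module.End.mem_eigenspace_iff, Module.End.mem_eigenspace_iff, one_smul]
    constructor
    · intro h
      have h4 := h3 _ v h
      rwa [inv_inv] at h4
    · exact h3 _ v
  rw [h2]

/-- type `33` of dimension 32 -/
theorem d7_20 (h33 : ev (V F (ψ (P n l33))) 1 = 32) : ev (V F (ψ (P n w7))) 1 = 20 := by
  have h7 := d7 hn h2 hψ
  have hd := dim_21 h2 hn (MonoidHom.comp (V F) ψ)
  have o7 : orderOf (P n w7) = 7 := orderOf_P hn (by decide +kernel)
  have o7i : orderOf (P n w7i) = 7 := orderOf_P hn (by decide +kernel)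
  have o33 : orderOf (P n l33) = 3 := orderOf_P hn (by decide +kernel)
  have f56 : finrank F (D1 → F) = 56 := finrank_V
  have hi := ev_w7i (F := F) (ψ := ψ) hn
  rw [om_one, om_prime _ (by norm_num : Nat.Prime 7) o7, om_prime _ (by norm_num : Nat.Prime 7) o7i,
    om_prime _ Nat.prime_three o33, f56] at hd
  set ρ : Representation F ↥(alternatingGroup (Fin n)) (D1 → F) := MonoidHom.comp (V F) ψ with hρ
  have e33 : ev (ρ (P n l33)) 1 = 32 := h33
  have ei : ev (ρ (P n w7i)) 1 = ev (ρ (P n w7)) 1 := hi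
  have h1 : finrank F ↥(inv ρ (Tg n g21)) ≤ ev (ρ (P n w7)) 1 := by
    refine Submodule.finrank_mono fun v hv => ?_
    rw [Module.End.mem_eigenspace_iff, one_smul]
    exact hv _ (Subgroup.subset_closure ⟨w7, List.mem_cons_self, rfl⟩)
  have h7' : ev (ρ (P n w7)) 1 = 2 ∨ ev (ρ (P n w7)) 1 = 8 ∨ ev (ρ (P n w7)) 1 = 20 := h7
  show ev (ρ (P n w7)) 1 = 20
  rw [e33, ei] at hd
  generalize ev (ρ (P n w7)) 1 = a at *
  generalize finrank F ↥(inv ρ (Tg n g21)) = b at *
  have hd' : 21 * (b : ℚ) = 7 * a + 280 := by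
    rw [hd]; push_cast; ring
  have hd'' : 21 * b = 7 * a + 280 := by exact_mod_cast hd'
  (clear * - h7' h1 hd''; omega)

/-- **the patterns for `p = 2`, `n ≥ 8`** -/
theorem pat2w : (ev (V F (ψ (P n w5))) 1 = 16 ∧ ev (L F (ψ (P n w5))) 1 = 33) ∧
    (((ev (V F (ψ (P n l3))) 1 = 32 ∧ ev (L F (ψ (P n l3))) 1 = 67) ∧
      (ev (V F (ψ (P n l33))) 1 = 20 ∧ ev (L F (ψ (P n l33))) 1 = 49) ∧
      (ev (V F (ψ (P n w7))) 1 = 2 ∨ ev (V F (ψ (P n w7))) 1 = 8 ∨ ev (V F (ψ (P n w7))) 1 = 20) ∧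
      (ev (V F (ψ (P n w53))) 1 = 0 ∨ ev (V F (ψ (P n w53))) 1 = 8)) ∨
    ((ev (V F (ψ (P n l3))) 1 = 20 ∧ ev (L F (ψ (P n l3))) 1 = 49) ∧
      (ev (V F (ψ (P n l33))) 1 = 32 ∧ ev (L F (ψ (P n l33))) 1 = 67) ∧ ev (V F (ψ (P n w7))) 1 = 20 ∧
      (ev (V F (ψ (P n w53))) 1 = 4 ∨ ev (V F (ψ (P n w53))) 1 = 12))) := by
  refine ⟨d5 hn h2 hψ, ?_⟩
  have h15 := typ15 hn h2 hψ
  rcases typ3 hn h2 hψ with ⟨h3, h33⟩ | ⟨h3, h33⟩ | ⟨h3, h33⟩
  · exact Or.inl ⟨h3, h33, d7 hn h2 hψ, h15.1 h3.1⟩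
  · exact Or.inr ⟨h3, h33, d7_20 hn h2 hψ h33.1, h15.2.1 h3.1⟩
  · exact absurd ⟨h3.2, h33.2⟩ (not_43 hn h2 hψ)

end types

end Cfsg.Agent.R2.T1.Pat2
end

-- part: R2/T1/Pat2/Ct
section
/-!
# T1, PAT2 (helper26): cycle types

* `ct_P` : the cycle type of `P n l`;
* `ev_ct` : the multiplicities of the elements with a given cycle type;
* `pat2` : the patterns for `p = 2`, `n ≥ 8`.
-/

set_option autoImplicit false
set_option maxRecDepth 100000

namespace Cfsg.Agent.R2.T1.Pat2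

open Equiv Equiv.Perm
open Cfsg Cfsg.Lie Module
open Cfsg.Agent.H943.E7V.Block (D1 rho)
open Cfsg.Agent.H952.F4 (ev es)
open Cfsg.Agent.R2.T1.Art
open Cfsg.Agent.R2.T1.Odd

universe u

section ct
variable {n : ℕ} [NeZero n]

theorem pm_extend {m : ℕ} [NeZero m] (hm : m ≤ n) {l : List (ℕ × ℕ)} (h : En m l) :
    pm n l = (pm m l).extendDomain (Fin.castLEOrderIso hm).toEquiv := by
  refine Perm.ext fun i => Fin.ext ?_
  rw [pm_apply (h.mono hm)]
  by_cases hi : (i : ℕ) < m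
  · rw [Perm.extendDomain_apply_subtype _ _ (b := i) hi]
    show _ = ((pm m l ⟨i, hi⟩ : Fin m) : ℕ)
    rw [pm_apply h]
  · rw [Perm.extendDomain_apply_not_subtype _ _ (b := i) hi, ap_ge h (by omega)]

theorem ct_pm {m : ℕ} [NeZero m] (hm : m ≤ n) {l : List (ℕ × ℕ)} (h : En m l) :
    (pm n l).cycleType = (pm m l).cycleType := by
  rw [pm_extend hm h, Perm.cycleType_extendDomain]

theorem ct_P (hn : 8 ≤ n) {l : List (ℕ × ℕ)} (h : vl 8 l = true) :
    ((P n l : ↥(alternatingGroup (Fin n))) : Perm (Fin n)).cycleType = (pm 8 l).cycleType := by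
  rw [coe_P hn h, ct_pm hn (vl_iff.1 h).2]

/-- elements with the same cycle type -/
theorem conj_ct (hn : 8 ≤ n) {w w' t : List (ℕ × ℕ)} (hw : vl 8 w = true) (hw' : vl 8 w' = true) (ht : En 8 t)
    (ho : t.length % 2 = 1) (hc : cd 8 (t ++ w) = cd 8 (w' ++ t)) {a : ↥(alternatingGroup (Fin n))}
    (ha : (a : Perm (Fin n)).cycleType = (pm 8 w).cycleType) :
    ∃ g : ↥(alternatingGroup (Fin n)), a = g * P n w * g⁻¹ ∨ a = g * P n w' * g⁻¹ := by
  rw [← ct_P hn hw, ← isConj_iff_cycleType_eq, isConj_comm, isConj_iff] at ha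
  obtain ⟨σ, hσ⟩ := ha
  rcases Int.units_eq_one_or (sign σ) with hs | hs
  · exact ⟨⟨σ, mem_alternatingGroup.2 hs⟩, Or.inl (Subtype.ext hσ.symm)⟩
  · have hst : sign (pm n t) = -1 := by
      rw [sign_pm (ht.mono hn), Odd.neg_one_pow (Nat.odd_iff.2 ho)]
    have h1 : pm n t * pm n w = pm n w' * pm n t := by
      rw [← pm_append, ← pm_append]
      exact pm_eq hn (ht.append (vl_iff.1 hw).2) ((vl_iff.1 hw').2.append ht) hc
    have hs' : sign (σ * (pm n t)⁻¹) = 1 := by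
      rw [map_mul, map_inv, hs, hst]
      rfl
    refine ⟨⟨σ * (pm n t)⁻¹, mem_alternatingGroup.2 hs'⟩, Or.inr (Subtype.ext ?_)⟩
    show (a : Perm (Fin n)) = σ * (pm n t)⁻¹ * (P n w' : Perm (Fin n)) * (σ * (pm n t)⁻¹)⁻¹
    rw [← hσ, coe_P hn hw, coe_P hn hw']
    have h2 : (pm n t)⁻¹ * pm n w' * pm n t = pm n w := by
      rw [mul_assoc, ← h1, inv_mul_cancel_left]
    calc σ * pm n w * σ⁻¹ = σ * ((pm n t)⁻¹ * pm n w' * pm n t) * σ⁻¹ := by rw [h2]
      _ = σ * (pm n t)⁻¹ * pm n w' * (σ * (pm n t)⁻¹)⁻¹ := by group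

end ct

section
variable {n : ℕ} [NeZero n] (hn : 8 ≤ n) {F : Type u} [Field F] {ψ : ↥(alternatingGroup (Fin n)) →* Gh F}

theorem ev_inv_one {M : Type*} [AddCommGroup M] [Module F M] (ρ : Representation F (Gh F) M) (y : Gh F) :
    ev (ρ y⁻¹) 1 = ev (ρ y) 1 := by
  unfold ev
  have h3 : ∀ (y : Gh F) (v : M), ρ y v = v → ρ y⁻¹ v = v := by
    intro y v h
    nth_rewrite 1 [← h]
    rw [← Module.End.mul_apply, ← map_mul, inv_mul_cancel, map_one, Module.End.one_apply]
  have h2 : Module.End.eigenspace (ρ y⁻¹) 1 = Module.End.eigenspace (ρ y) 1 := by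
    ext v
    rw [Module.End.mem_eigenspace_iff, Module.End.mem_eigenspace_iff, one_smul]
    constructor
    · intro h
      have h4 := h3 _ v h
      rwa [inv_inv] at h4
    · exact h3 _ v
  rw [h2]

include hn

/-- the multiplicity of `1` only depends on the cycle type: `w' = w` or `w' = w⁻¹` -/
theorem ev_ct {w w' t : List (ℕ × ℕ)} (hw : vl 8 w = true) (hw' : vl 8 w' = true) (ht : En 8 t)
    (ho : t.length % 2 = 1) (hc : cd 8 (t ++ w) = cd 8 (w' ++ t)) (hi : cd 8 w = cd 8 w' ∨ cd 8 (w ++ w') = cd 8 [])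
    {a : ↥(alternatingGroup (Fin n))} (ha : (a : Perm (Fin n)).cycleType = (pm 8 w).cycleType) {M : Type*}
    [AddCommGroup M] [Module F M] (ρ : Representation F (Gh F) M) : ev (ρ (ψ a)) 1 = ev (ρ (ψ (P n w))) 1 := by
  have h1 : ev (ρ (ψ (P n w'))) 1 = ev (ρ (ψ (P n w))) 1 := by
    rcases hi with hi | hi
    · rw [(P_eq_iff hn hw hw').2 hi]
    · have h2 : P n w' = (P n w)⁻¹ := by
        rw [eq_comm, inv_eq_iff_mul_eq_one, ← P_append hn hw hw',
          (P_eq_iff hn (vl_append hw hw') (l' := []) rfl).2 hi, P_nil]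
      rw [h2, map_inv, ev_inv_one]
  obtain ⟨g, hg | hg⟩ := conj_ct hn hw hw' ht ho hc ha
  · rw [hg, map_mul ψ, map_mul ψ, map_inv ψ, Cfsg.Agent.H944.E6T.ev_conj]
  · rw [hg, map_mul ψ, map_mul ψ, map_inv ψ, Cfsg.Agent.H944.E6T.ev_conj, h1]

theorem ct3 {a : ↥(alternatingGroup (Fin n))} (ha : (a : Perm (Fin n)).cycleType = {3}) {M : Type*}
    [AddCommGroup M] [Module F M] (ρ : Representation F (Gh F) M) : ev (ρ (ψ a)) 1 = ev (ρ (ψ (P n l3))) 1 :=
  ev_ct hn (w := l3) (w' := l3) (t := [(6, 7)]) (by decide) (by decide) (by unfold En; decide) (by decide) (by decide)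
    (Or.inl rfl) (ha.trans (by decide +kernel)) ρ

theorem ct33 {a : ↥(alternatingGroup (Fin n))} (ha : (a : Perm (Fin n)).cycleType = {3, 3}) {M : Type*}
    [AddCommGroup M] [Module F M] (ρ : Representation F (Gh F) M) : ev (ρ (ψ a)) 1 = ev (ρ (ψ (P n l33))) 1 :=
  ev_ct hn (w := l33) (w' := l33) (t := [(3, 7)]) (by decide) (by decide) (by unfold En; decide) (by decide) (by decide)
    (Or.inl rfl) (ha.trans (by decide +kernel)) ρ

theorem ct5 {a : ↥(alternatingGroup (Fin n))} (ha : (a : Perm (Fin n)).cycleType = {5}) {M : Type*}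
    [AddCommGroup M] [Module F M] (ρ : Representation F (Gh F) M) : ev (ρ (ψ a)) 1 = ev (ρ (ψ (P n w5))) 1 :=
  ev_ct hn (w := w5) (w' := w5) (t := [(6, 7)]) (by decide) (by decide) (by unfold En; decide) (by decide) (by decide)
    (Or.inl rfl) (ha.trans (by decide +kernel)) ρ

theorem ct7 {a : ↥(alternatingGroup (Fin n))} (ha : (a : Perm (Fin n)).cycleType = {7}) {M : Type*}
    [AddCommGroup M] [Module F M] (ρ : Representation F (Gh F) M) : ev (ρ (ψ a)) 1 = ev (ρ (ψ (P n w7))) 1 :=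
  ev_ct hn (w := w7) (w' := w7i) (t := [(1, 6), (2, 5), (3, 4)]) (by decide) (by decide) (by unfold En; decide) (by decide)
    (by decide) (Or.inr (by decide)) (ha.trans (by decide +kernel)) ρ

theorem ct53 {a : ↥(alternatingGroup (Fin n))} (ha : (a : Perm (Fin n)).cycleType = {5, 3}) {M : Type*}
    [AddCommGroup M] [Module F M] (ρ : Representation F (Gh F) M) : ev (ρ (ψ a)) 1 = ev (ρ (ψ (P n w53))) 1 :=
  ev_ct hn (w := w53) (w' := [(6, 7), (5, 6), (3, 4), (2, 3), (1, 2), (0, 1)]) (t := [(1, 4), (2, 3), (6, 7)])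
    (by decide) (by decide) (by unfold En; decide) (by decide) (by decide) (Or.inr (by decide))
    (ha.trans (by decide +kernel)) ρ

end

section
variable {n : ℕ} {F : Type u} [Field F]

/-- all the elements of cycle type `T` have a `d`-dimensional space of fixed points on the 56-dimensional module -/
def DV (ψ : ↥(alternatingGroup (Fin n)) →* Gh F) (T : Multiset ℕ) (d : ℕ) : Prop :=
  ∀ a : ↥(alternatingGroup (Fin n)), (a : Perm (Fin n)).cycleType = T → ev (V F (ψ a)) 1 = d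

/-- the same on the adjoint module -/
def DL (ψ : ↥(alternatingGroup (Fin n)) →* Gh F) (T : Multiset ℕ) (d : ℕ) : Prop :=
  ∀ a : ↥(alternatingGroup (Fin n)), (a : Perm (Fin n)).cycleType = T → ev (L F (ψ a)) 1 = d

/-- **PAT2**: the patterns for `p = 2`, `n ≥ 8` -/
theorem pat2 [Finite F] (hn : 8 ≤ n) (h2 : (2 : F) = 0) {ψ : ↥(alternatingGroup (Fin n)) →* Gh F}
    (hψ : Function.Injective ψ) : (DV ψ {5} 16 ∧ DL ψ {5} 33) ∧
    (((DV ψ {3} 32 ∧ DL ψ {3} 67) ∧ (DV ψ {3, 3} 20 ∧ DL ψ {3, 3} 49) ∧ (DV ψ {7} 2 ∨ DV ψ {7} 8 ∨ DV ψ {7} 20) ∧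
      (DV ψ {5, 3} 0 ∨ DV ψ {5, 3} 8)) ∨
    ((DV ψ {3} 20 ∧ DL ψ {3} 49) ∧ (DV ψ {3, 3} 32 ∧ DL ψ {3, 3} 67) ∧ DV ψ {7} 20 ∧
      (DV ψ {5, 3} 4 ∨ DV ψ {5, 3} 12))) := by
  have : NeZero n := ⟨by omega⟩
  have h := pat2w hn h2 hψ
  have v3 : ∀ d, ev (V F (ψ (P n l3))) 1 = d → DV ψ {3} d := fun d hd a ha => (ct3 hn ha (V F)).trans hd
  have k3 : ∀ d, ev (L F (ψ (P n l3))) 1 = d → DL ψ {3} d := fun d hd a ha => (ct3 hn ha (L F)).trans hd
  have v33 : ∀ d, ev (V F (ψ (P n l33))) 1 = d → DV ψ {3, 3} d := fun d hd a ha => (ct33 hn ha (V F)).trans hd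
  have k33 : ∀ d, ev (L F (ψ (P n l33))) 1 = d → DL ψ {3, 3} d := fun d hd a ha => (ct33 hn ha (L F)).trans hd
  have v5 : ∀ d, ev (V F (ψ (P n w5))) 1 = d → DV ψ {5} d := fun d hd a ha => (ct5 hn ha (V F)).trans hd
  have k5 : ∀ d, ev (L F (ψ (P n w5))) 1 = d → DL ψ {5} d := fun d hd a ha => (ct5 hn ha (L F)).trans hd
  have v7 : ∀ d, ev (V F (ψ (P n w7))) 1 = d → DV ψ {7} d := fun d hd a ha => (ct7 hn ha (V F)).trans hd
  have v53 : ∀ d, ev (V F (ψ (P n w53))) 1 = d → DV ψ {5, 3} d := fun d hd a ha => (ct53 hn ha (V F)).trans hd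
  refine ⟨⟨v5 _ h.1.1, k5 _ h.1.2⟩, ?_⟩
  rcases h.2 with ⟨a, b, c, d⟩ | ⟨a, b, c, d⟩
  · exact Or.inl ⟨⟨v3 _ a.1, k3 _ a.2⟩, ⟨v33 _ b.1, k33 _ b.2⟩, c.imp (v7 _) (Or.imp (v7 _) (v7 _)),
      d.imp (v53 _) (v53 _)⟩
  · exact Or.inr ⟨⟨v3 _ a.1, k3 _ a.2⟩, ⟨v33 _ b.1, k33 _ b.2⟩, v7 _ c, d.imp (v53 _) (v53 _)⟩

end

end Cfsg.Agent.R2.T1.Pat2
end

private theorem dce_f0bd87beb9bc : _root_.True := by
  try have : _root_.True := by simp only [_root_.Cfsg.Agent.R2.T1.Odd.pm.congr_simp]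
  try have : _root_.True := by simp only [_root_.Cfsg.Agent.R2.T1.Pat2.g9.eq_1]
  try have : _root_.True := by simp only [_root_.Cfsg.Agent.R2.T1.Pat2.r9.eq_1]
  try have : _root_.True := by simp only [_root_.Cfsg.Agent.R2.T1.Pat2.r21.eq_1]
  exact _root_.True.intro
end

-- part: R2/T1/B2/Emb_mg
section
prune_inst 0x10000000000000
set_option linter.all false
open scoped Cfsg.Agent.FastGrp

-- part: R2/T1/B2/Emb
section
/-!
# T1 (S5771, p = 2, n ≥ 9): embeddings of alternating groups (helper24)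

* `jf f` : the homomorphism of alternating groups given by an injection `f : Fin m ↪ Fin n`;
* `noT1` : the pattern `(32, 20, 16, *, 0)` is impossible for `n ≥ 9`, `p = 2`;
* `noT1x` : the pattern `(32, 20, 16, 2, 8)` is impossible for `n ≥ 8`, `p = 2`.
-/

set_option autoImplicit false
set_option maxRecDepth 100000

namespace Cfsg.Agent.R2.T1.B2

open Cfsg Cfsg.Lie Module Equiv Equiv.Perm
open Cfsg.Agent.H943.E7V.Block (D1 rho)
open Cfsg.Agent.H952.F4 (ev es MaxAlt)
open Cfsg.Agent.R2.T1 Cfsg.Agent.R2.T1.Pat2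
open Cfsg.Agent.R2.T1.T1p (A8 US W W_eq W_symm W_self fixed_of_ev_zero)

universe u

section emb
variable {m n : ℕ}

theorem ct_via (f : Fin m ↪ Fin n) (a : Perm (Fin m)) : (a.viaEmbedding f).cycleType = a.cycleType := by
  classical
  unfold Equiv.Perm.viaEmbedding
  convert cycleType_extendDomain (Equiv.ofInjective f.1 f.2) (g := a)

theorem sign_via (f : Fin m ↪ Fin n) (a : Perm (Fin m)) : sign (a.viaEmbedding f) = sign a := by
  classical
  unfold Equiv.Perm.viaEmbedding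
  convert sign_extendDomain a (Equiv.ofInjective f.1 f.2)

/-- the homomorphism of alternating groups given by an injection -/
noncomputable def jf (f : Fin m ↪ Fin n) : ↥(alternatingGroup (Fin m)) →* ↥(alternatingGroup (Fin n)) where
  toFun a := ⟨(a : Perm (Fin m)).viaEmbedding f, by rw [mem_alternatingGroup, sign_via]; exact mem_alternatingGroup.1 a.2⟩
  map_one' := Subtype.ext (map_one (viaEmbeddingHom f))
  map_mul' a b := Subtype.ext (map_mul (viaEmbeddingHom f) (a : Perm (Fin m)) b)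

variable (f : Fin m ↪ Fin n)

theorem ct_jf (a : ↥(alternatingGroup (Fin m))) : ((jf f a : ↥(alternatingGroup (Fin n))) : Perm (Fin n)).cycleType =
    (a : Perm (Fin m)).cycleType := ct_via f _

theorem jf_apply (a : ↥(alternatingGroup (Fin m))) (i : Fin m) : (jf f a : Perm (Fin n)) (f i) = f ((a : Perm (Fin m)) i) :=
  viaEmbedding_apply _ f i

theorem jf_out (a : ↥(alternatingGroup (Fin m))) {j : Fin n} (h : ∀ i, f i ≠ j) : (jf f a : Perm (Fin n)) j = j :=
  viaEmbedding_apply_of_notMem _ f j (by rintro ⟨i, hi⟩; exact h i hi)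

theorem jf_eq (a : ↥(alternatingGroup (Fin m))) {σ : Perm (Fin n)} (h1 : ∀ i, σ (f i) = f ((a : Perm (Fin m)) i))
    (h2 : ∀ j, (∀ i, f i ≠ j) → σ j = j) : (jf f a : Perm (Fin n)) = σ := by
  refine Perm.ext fun j => ?_
  by_cases h : ∃ i, f i = j
  · obtain ⟨i, rfl⟩ := h
    rw [jf_apply, h1]
  · push Not at h
    rw [jf_out f a h, h2 j h]

theorem jf_trans {k : ℕ} (g : Fin n ↪ Fin k) (a : ↥(alternatingGroup (Fin m))) : jf (f.trans g) a = jf g (jf f a) := by
  apply Subtype.ext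
  apply jf_eq
  · intro i
    show (jf g (jf f a) : Perm (Fin k)) (g (f i)) = g (f _)
    rw [jf_apply, jf_apply]
  · intro j hj
    by_cases h : ∃ i, g i = j
    · obtain ⟨i, rfl⟩ := h
      rw [jf_apply, jf_out]
      intro i' h'
      exact hj i' (congrArg g h')
    · push Not at h
      rw [jf_out _ _ h]

variable {F : Type u} [Field F] {ψ : ↥(alternatingGroup (Fin n)) →* Gh F}

theorem dv_jf {T : Multiset ℕ} {d : ℕ} (h : DV ψ T d) : DV (ψ.comp (jf f)) T d := fun a ha => h (jf f a) (by rw [ct_jf, ha])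

end emb

section pat
variable {n : ℕ} {F : Type u} [Field F] {ψ : ↥(alternatingGroup (Fin n)) →* Gh F}

/-- **the pattern `(32, 20, 16, 2, 8)`, `n ≥ 8`** -/
theorem noT1x [Finite F] (hn : 8 ≤ n) (h2 : (2 : F) = 0) (h3 : DV ψ {3} 32) (h33 : DV ψ {3, 3} 20)
    (h7 : DV ψ {7} 2) (h53 : DV ψ {5, 3} 8) : False :=
  T1x.false_of h2 (ψ.comp (jf (Fin.castLEEmb hn))) (dv_jf _ h3) (dv_jf _ h33) (dv_jf _ h7) (dv_jf _ h53)

/-- the transposition product -/
def g8 : A8 := ⟨swap 6 7 * swap 0 1, by rw [mem_alternatingGroup]; decide +kernel⟩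

/-- the second embedding of `Fin 8` -/
def f2 (hn : 9 ≤ n) : Fin 8 ↪ Fin n where
  toFun i := if i = 7 then ⟨8, by omega⟩ else ⟨i, by omega⟩
  inj' := by
    intro i j h
    simp only at h
    split_ifs at h with h1 h3 h3
    · rw [h1, h3]
    · exact absurd (Fin.mk.inj_iff.1 h) (by have := j.2; omega)
    · exact absurd (Fin.mk.inj_iff.1 h) (by have := i.2; omega)
    · exact Fin.ext (Fin.mk.inj_iff.1 h)

/-- the first embedding -/
def f1 (hn : 9 ≤ n) : Fin 8 ↪ Fin n where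
  toFun i := ⟨i, by omega⟩
  inj' := by
    intro i j h
    exact Fin.ext (Fin.mk.inj_iff.1 h)

/-- the 5-cycle -/
def c5 : A8 := ⟨c[0, 1, 2, 3, 4], by rw [mem_alternatingGroup]; decide +kernel⟩

theorem jf_agree (hn : 9 ≤ n) {a : A8} (h6 : (a : Perm (Fin 8)) 6 = 6) (h7 : (a : Perm (Fin 8)) 7 = 7) :
    jf (f2 hn) a = jf (f1 hn) a := by
  apply Subtype.ext
  refine Perm.ext fun j => ?_
  by_cases h : (j : ℕ) < 7
  · have e1 : j = f1 hn ⟨j, by omega⟩ := rfl
    have e2 : j = f2 hn ⟨j, by omega⟩ := by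
      show j = if _ then _ else _
      rw [if_neg (by intro h'; have h9 := congrArg Fin.val h'; simp at h9; omega)]
    have h8 : (a : Perm (Fin 8)) ⟨j, by omega⟩ ≠ 7 := by
      intro h'
      have h9 := congrArg Fin.val ((a : Perm (Fin 8)).injective (h'.trans h7.symm))
      simp at h9
      omega
    have k1 : (jf (f1 hn) a : Perm (Fin n)) j = f1 hn ((a : Perm (Fin 8)) ⟨j, by omega⟩) := by
      conv_lhs => rw [e1]
      exact jf_apply _ _ _
    have k2 : (jf (f2 hn) a : Perm (Fin n)) j = f2 hn ((a : Perm (Fin 8)) ⟨j, by omega⟩) := by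
      conv_lhs => rw [e2]
      exact jf_apply _ _ _
    rw [k1, k2]
    show (if _ then _ else _) = _
    rw [if_neg h8]
    rfl
  · by_cases h7' : (j : ℕ) = 7
    · have e1 : j = f1 hn 7 := Fin.ext h7'
      have k1 : (jf (f1 hn) a : Perm (Fin n)) j = j := by
        conv_lhs => rw [e1]
        rw [jf_apply, h7, ← e1]
      rw [k1]
      refine jf_out _ _ fun i => ?_
      show (if _ then _ else _) ≠ j
      split_ifs with h9
      · intro h'; rw [← h'] at h7'; exact absurd h7' (by norm_num)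
      · intro h'
        rw [← h'] at h7'
        exact h9 (Fin.ext h7')
    · have k1 : (jf (f1 hn) a : Perm (Fin n)) j = j := by
        refine jf_out _ _ fun i => ?_
        intro h'
        have : ((f1 hn i : Fin n) : ℕ) = i := rfl
        rw [h'] at this
        have := i.2
        omega
      rw [k1]
      by_cases h8 : (j : ℕ) = 8
      · have e2 : j = f2 hn 7 := Fin.ext h8
        conv_lhs => rw [e2]
        rw [jf_apply, h7, ← e2]
      · refine jf_out _ _ fun i => ?_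
        show (if _ then _ else _) ≠ j
        split_ifs with h9
        · intro h'; rw [← h'] at h8; exact h8 rfl
        · intro h'
          have : ((⟨i, by omega⟩ : Fin n) : ℕ) = i := rfl
          rw [h'] at this
          have := i.2
          omega

/-- **the pattern `(32, 20, 16, *, 0)`, `n ≥ 9`** -/
theorem noT1 [Finite F] (hn : 9 ≤ n) (h2 : (2 : F) = 0) (h3 : DV ψ {3} 32) (h33 : DV ψ {3, 3} 20)
    (h5 : DV ψ {5} 16) (h53 : DV ψ {5, 3} 0) : False := by
  have hdim := T1p.dim_US (ψ := ψ.comp (jf (f1 hn))) (dv_jf _ h3) (dv_jf _ h33) (dv_jf _ h5)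
  obtain ⟨u, hu, hu0⟩ : ∃ u ∈ US (ψ.comp (jf (f1 hn))), u ≠ 0 := by
    by_contra hcon
    push Not at hcon
    have : US (ψ.comp (jf (f1 hn))) = ⊥ := by
      rw [eq_bot_iff]
      intro v hv
      rw [hcon v hv]
      exact zero_mem _
    rw [this, finrank_bot] at hdim
    omega
  have hu' : u ∈ US (ψ.comp (jf (f2 hn))) := by
    intro a h6 h7
    show V F (ψ (jf (f2 hn) a)) u = u
    rw [jf_agree hn h6 h7]
    exact hu a h6 h7
  have key : ∀ f : Fin 8 ↪ Fin n, u ∈ US (ψ.comp (jf f)) → V F (ψ (jf f g8)) u = u := by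
    intro f hf
    have e1 : V F ((ψ.comp (jf f)) g8) u = W (ψ.comp (jf f)) u 7 6 :=
      W_eq hf (by decide +kernel) (by decide +kernel)
    rw [W_symm h2 (dv_jf f h53) hf (by decide), W_self hf] at e1
    exact e1
  have k1 := key _ hu
  have k2 := key _ hu'
  have k3 : V F (ψ (jf (f1 hn) c5)) u = u := hu c5 (by decide +kernel) (by decide +kernel)
  -- the product
  set x : ↥(alternatingGroup (Fin n)) := jf (f1 hn) c5 * (jf (f1 hn) g8 * jf (f2 hn) g8) with hx
  have hxu : V F (ψ x) u = u := by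
    rw [hx, map_mul, V_mul, map_mul, V_mul, k2, k1, k3]
  have hct : (x : Perm (Fin n)).cycleType = {5, 3} := by
    have t1 : f1 hn = (f1 le_rfl).trans (Fin.castLEEmb hn) := rfl
    have t2 : f2 hn = (f2 le_rfl).trans (Fin.castLEEmb hn) := by
      ext i
      show ((if i = 7 then (⟨8, by omega⟩ : Fin n) else ⟨i, by omega⟩ : Fin n) : ℕ) =
        ((if i = 7 then (⟨8, by omega⟩ : Fin 9) else ⟨i, by omega⟩ : Fin 9) : ℕ)
      split_ifs <;> rfl
    have e : x = jf (Fin.castLEEmb hn) (jf (f1 le_rfl) c5 * (jf (f1 le_rfl) g8 * jf (f2 le_rfl) g8)) := by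
      rw [hx, t1, t2, jf_trans, jf_trans, jf_trans, map_mul, map_mul]
    rw [e, ct_jf]
    show ((jf (f1 le_rfl) c5 : Perm (Fin 9)) * ((jf (f1 le_rfl) g8 : Perm (Fin 9)) * (jf (f2 le_rfl) g8 : Perm (Fin 9)))).cycleType = _
    rw [jf_eq (f1 le_rfl) c5 (σ := c[0, 1, 2, 3, 4]) (by decide +kernel) (by decide +kernel),
      jf_eq (f1 le_rfl) g8 (σ := swap 6 7 * swap 0 1) (by decide +kernel) (by decide +kernel),
      jf_eq (f2 le_rfl) g8 (σ := swap 6 8 * swap 0 1) (by decide +kernel) (by decide +kernel)]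
    decide +kernel
  exact hu0 (fixed_of_ev_zero (h53 x hct) hxu)

end pat

end Cfsg.Agent.R2.T1.B2
end

-- part: R2/T1/B2/Le14
section
/-!
# T1 (S5771): `n ≤ 14` if `p ≠ 5` (helper24)

All elements of order 5 of `A_n`, `n ≥ 7`, are conjugate to their squares, so they have 16 eigenvalues 1 on `V F`;
an elementary abelian group of order 125 would have a fixed space of dimension `800 / 125`.
-/

set_option autoImplicit false

namespace Cfsg.Agent.R2.T1.B2

open Cfsg Cfsg.Lie Module Equiv Equiv.Perm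
open Cfsg.Agent.H943.E7V.Block (D1 rho)
open Cfsg.Agent.H952.F4 (ev es)
open Cfsg.Agent.R2.T1 Cfsg.Agent.R2.T1.Pat2 Cfsg.Agent.R2.T1.Art

universe u

section perm
variable {α : Type*} [Fintype α] [DecidableEq α]

theorem conj_alt {g g' : ↥(alternatingGroup α)} (hct : (g : Perm α).cycleType = (g' : Perm α).cycleType)
    {τ : Perm α} (h1 : sign τ = -1) (h2 : τ * g * τ⁻¹ = g) : ∃ c : ↥(alternatingGroup α), c * g * c⁻¹ = g' := by
  obtain ⟨σ, hσ⟩ := isConj_iff.1 (isConj_iff_cycleType_eq.2 hct)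
  rcases Int.units_eq_one_or (sign σ) with hs | hs
  · exact ⟨⟨σ, mem_alternatingGroup.2 hs⟩, Subtype.ext hσ⟩
  · refine ⟨⟨σ * τ, mem_alternatingGroup.2 (by rw [Perm.sign_mul, hs, h1]; decide)⟩, Subtype.ext ?_⟩
    show σ * τ * (g : Perm α) * (σ * τ)⁻¹ = g'
    rw [mul_inv_rev, ← hσ]
    conv_rhs => rw [← h2]
    group

theorem rat5 (h7 : 7 ≤ Fintype.card α) {g : ↥(alternatingGroup α)} (hg : orderOf (g : Perm α) = 5) :
    ∃ c : ↥(alternatingGroup α), c * g * c⁻¹ = g ^ 2 := by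
  obtain ⟨m, hm⟩ := cycleType_prime_order (σ := (g : Perm α)) (by rw [hg]; norm_num)
  have hg2 : orderOf ((g : Perm α) ^ 2) = 5 := by
    rw [orderOf_pow, hg]; rfl
  obtain ⟨m', hm'⟩ := cycleType_prime_order (σ := (g : Perm α) ^ 2) (by rw [hg2]; norm_num)
  have hs : ((g : Perm α) ^ 2).support = (g : Perm α).support := support_pow_coprime (by rw [hg]; decide)
  have hmm : m' = m := by
    have e1 := sum_cycleType ((g : Perm α) ^ 2)
    rw [hs, ← sum_cycleType (g : Perm α), hm, hm', Multiset.sum_replicate, Multiset.sum_replicate, hg, hg2, smul_eq_mul,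
      smul_eq_mul] at e1
    omega
  have hct : (g : Perm α).cycleType = ((g ^ 2 : ↥(alternatingGroup α)) : Perm α).cycleType := by
    show _ = ((g : Perm α) ^ 2).cycleType
    rw [hm, hm', hmm, hg, hg2]
  have hc : ¬ Subgroup.centralizer {(g : Perm α)} ≤ alternatingGroup α := by
    rw [centralizer_le_alternating_iff]
    rintro ⟨-, h1, h3⟩
    have h4 := h3 5
    rw [hm, hg, Multiset.count_replicate_self] at h4
    rw [hm, hg, Multiset.sum_replicate, smul_eq_mul] at h1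
    omega
  obtain ⟨τ, hτ, hτ'⟩ := SetLike.not_le_iff_exists.1 hc
  rw [Subgroup.mem_centralizer_singleton_iff] at hτ
  refine conj_alt hct (τ := τ) ?_ ?_
  · rcases Int.units_eq_one_or (sign τ) with hs | hs
    · exact absurd (mem_alternatingGroup.2 hs) hτ'
    · exact hs
  · rw [mul_inv_eq_iff_eq_mul]
    exact hτ

end perm

/-- the elementary abelian group of order 125 -/
abbrev T5 : Type := Fin 3 → Multiplicative (ZMod 5)

/-- its action on 15 points -/
def act5 : T5 →* Perm (Fin 3 × ZMod 5) where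
  toFun x :=
    { toFun := fun p => (p.1, (x p.1).toAdd + p.2)
      invFun := fun p => (p.1, -(x p.1).toAdd + p.2)
      left_inv := fun p => by simp
      right_inv := fun p => by simp }
  map_one' := by
    ext p
    · rfl
    · simp
  map_mul' x y := by
    ext p
    · rfl
    · simp [add_assoc]

theorem act5_inj : Function.Injective act5 := by
  intro x y h
  funext i
  have h1 := congrArg (fun σ : Perm (Fin 3 × ZMod 5) => (σ (i, 0)).2) h
  simpa [act5] using h1

theorem T5_pow (x : T5) : x ^ 5 = 1 := by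
  funext i
  show (x i) ^ 5 = 1
  have : ∀ a : Multiplicative (ZMod 5), a ^ 5 = 1 := by decide
  exact this _

variable {n : ℕ} {F : Type u} [Field F] {ψ : ↥(alternatingGroup (Fin n)) →* Gh F}

/-- **`n ≤ 14`** -/
theorem le14 [Finite F] (h5 : (5 : F) ≠ 0) (hinj : Function.Injective ψ) : n ≤ 14 := by
  by_contra hn
  push Not at hn
  have hcard : Fintype.card (Fin 3 × ZMod 5) ≤ Fintype.card (Fin n) := by
    rw [Fintype.card_prod, Fintype.card_fin, ZMod.card, Fintype.card_fin]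
    omega
  obtain ⟨ι⟩ := Function.Embedding.nonempty_of_card_le hcard
  let Θ : T5 →* Perm (Fin n) := (viaEmbeddingHom ι).comp act5
  have hΘ : Function.Injective Θ := (viaEmbeddingHom_injective ι).comp act5_inj
  have hsgn : ∀ x, Θ x ∈ alternatingGroup (Fin n) := by
    intro x
    rw [mem_alternatingGroup]
    have h1 : sign (Θ x) ^ 5 = 1 := by rw [← map_pow, ← map_pow, T5_pow, map_one, map_one]
    rcases Int.units_eq_one_or (sign (Θ x)) with hs | hs
    · exact hs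
    · rw [hs] at h1
      exact absurd h1 (by decide)
  let Θ' : T5 →* ↥(alternatingGroup (Fin n)) := Θ.codRestrict _ hsgn
  let σ : Representation F T5 (D1 → F) := (V F).comp (ψ.comp Θ')
  have hc125 : Fintype.card T5 = 125 := by
    rw [Fintype.card_pi_const, Fintype.card_multiplicative, ZMod.card]
    norm_num
  have h125 : ((Fintype.card T5 : ℕ) : F) ≠ 0 := by
    rw [hc125, show (125 : ℕ) = 5 ^ 3 by norm_num, Nat.cast_pow]
    exact pow_ne_zero 3 (by exact_mod_cast h5)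
  have key := artin h125 σ
  have hom : ∀ x : T5, om σ x = 6 + if x = 1 then 50 else 0 := by
    intro x
    split_ifs with hx
    · rw [hx, om_one, finrank_V]
      norm_num
    · have ho : orderOf x = 5 := orderOf_eq_prime (T5_pow x) hx
      rw [om_prime σ (by norm_num) ho]
      have hgo : orderOf ((Θ' x : ↥(alternatingGroup (Fin n))) : Perm (Fin n)) = 5 := by
        show orderOf (Θ x) = 5
        rw [orderOf_injective Θ hΘ, ho]
      obtain ⟨c, hc⟩ := rat5 (by rw [Fintype.card_fin]; omega) hgo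
      have hx1 : ψ (Θ' x) ≠ 1 := by
        intro h
        rw [← map_one ψ] at h
        have h' := hinj h
        rw [h'] at hgo
        simp at hgo
      have hx5 : ψ (Θ' x) ^ 5 = 1 := by rw [← map_pow, ← map_pow, T5_pow, map_one, map_one]
      have hev : ev (V F (ψ (Θ' x))) 1 = 16 := (five_ratL h5 (g := ψ c) hx5 hx1 (by
        rw [← map_inv, ← map_mul, ← map_mul, hc, map_pow])).1
      have hev' : ev (σ x) 1 = 16 := hev
      rw [hev', finrank_V]
      norm_num
  rw [Finset.sum_congr rfl fun x _ => hom x, Finset.sum_add_distrib, Finset.sum_ite_eq' Finset.univ (1 : T5)] at key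
  rw [if_pos (Finset.mem_univ _), Finset.sum_const, Finset.card_univ, hc125, nsmul_eq_mul] at key
  have key' : 125 * finrank F ↥σ.invariants = 800 := by
    have : ((125 * finrank F ↥σ.invariants : ℕ) : ℚ) = ((800 : ℕ) : ℚ) := by
      push_cast at key ⊢
      rw [key]
      norm_num
    exact_mod_cast this
  omega

end Cfsg.Agent.R2.T1.B2
end

private theorem dce_8b157d16faba : _root_.True := by
  try have : _root_.True := by simp only [_root_.Cfsg.Agent.R2.T1.B2.f1.congr_simp]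
  try have : _root_.True := by simp only [_root_.Cfsg.Agent.R2.T1.B2.act5.eq_1]
  exact _root_.True.intro
end

-- part: R2/T1/Five/CoverFive
section
prune_inst 0x4f5603d044562020000000580130000402800000200088c000c0001040908c4420002a8410920011290280c800001006811000130420000000a000000000101209003500623400104660099800000000000000000000000000000000000010004000000000
set_option linter.all false
open scoped Cfsg.Agent.FastGrp

/-!
# `n = 5`, characteristic 5, the double cover (helper25)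

* `exists_mv` : a vector spanning with its image under `y` a subspace of dimension 2 stable under `x`, `y`;
* `cover_five` : no maximal `A₅`, `S₅` whose preimage is a double cover, in characteristic 5.
-/

set_option autoImplicit false
set_option linter.unusedSectionVars false
set_option linter.unusedTactic false
set_option linter.unreachableTactic false
set_option maxRecDepth 100000

namespace Cfsg.Agent.R2.T1.Five

open Cfsg Cfsg.Lie Module Equiv Equiv.Perm
open Cfsg.Agent.H943.E7V.Block (D1 rho)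
open Cfsg.Agent.H952.F4 (ev es MaxAlt)
open Cfsg.Agent.R2.T1

universe u

section

variable {F : Type u} [Field F]

/-- the vector `v` spans with `y v` a natural module of `SL₂(5)` -/
structure MV (x y : Gh F) (v : D1 → F) : Prop where
  a : V F x v = (2 : F) • v
  b : V F x (V F y v) = (3 : F) • V F y v
  c : V F y (V F y v) = -V F y v - v

theorem MV.add {x y : Gh F} {v w : D1 → F} (hv : MV x y v) (hw : MV x y w) : MV x y (v + w) := by
  refine ⟨?_, ?_, ?_⟩
  · rw [map_add, hv.a, hw.a, smul_add]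
  · rw [map_add, map_add, hv.b, hw.b, smul_add]
  · rw [map_add, map_add, hv.c, hw.c]; abel

theorem MV.smul {x y : Gh F} {v : D1 → F} (hv : MV x y v) (a : F) : MV x y (a • v) := by
  refine ⟨?_, ?_, ?_⟩
  · rw [map_smul, hv.a, smul_comm]
  · rw [map_smul, map_smul, hv.b, smul_comm]
  · rw [map_smul, map_smul, hv.c, smul_sub, smul_neg]

theorem exists_mv (h5 : (5 : F) = 0) {x y : Gh F} (hx2 : V F (x * x) = -1)
    (h : 56 < finrank F ↥(LinearMap.ker (qd (-1) (V F y))) + finrank F ↥(LinearMap.ker (qd 2 (V F (x * y))))) :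
    ∃ v, v ≠ 0 ∧ MV x y v := by
  let A : Matrix (Fin 2) (Fin 2) F := !![2, 1; 0, 3]
  let C : Matrix (Fin 2) (Fin 2) F := !![1, 2; 1, 3]
  have dA : A.det = 1 := by
    rw [Matrix.det_fin_two_of]; linear_combination h5
  have dC : C.det = 1 := by
    rw [Matrix.det_fin_two_of]; ring
  have tA : A.trace = 0 := by
    rw [Matrix.trace_fin_two_of]; linear_combination h5
  have tC : C.trace = -1 := by
    rw [Matrix.trace_fin_two_of]; linear_combination h5
  have hAC : A * C = !![3, 7; 3, 9] := by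
    ext i j
    fin_cases i <;> fin_cases j <;> simp [A, C, Matrix.mul_apply] <;> norm_num
  have tAC : (A * C).trace = 2 := by
    rw [hAC, Matrix.trace_fin_two_of]; linear_combination 2 * h5
  have h3 : (3 : F) ≠ 0 := by
    intro h3
    apply one_ne_zero (α := F)
    linear_combination 2 * h3 - h5
  have h1 := scott_tw (V F) (sf F) (fun v hv => sf_nondeg' hv) (fun g v w => sf_V g v w) (x := x) (y := y) dA dC
    (Or.inr (show (1 : F) ≠ 0 from one_ne_zero)) (Or.inl (show (1 : F) ≠ 0 from one_ne_zero))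
    (Or.inl (by rw [hAC]; exact h3))
  rw [tA, tC, tAC, ker_qd_sq (T := V F x) (by rw [← map_mul, hx2]), finrank_V] at h1
  have h2 : 0 < finrank F ↥(twI A C (V F x) (V F y)) := by omega
  obtain ⟨⟨v, hv⟩, hv0⟩ := (Module.finrank_pos_iff_exists_ne_zero (R := F)).1 h2
  have hv0' : v ≠ 0 := fun h => hv0 (Subtype.ext h)
  obtain ⟨f1, f2⟩ := mem_twI.1 hv
  have a1 : (2 : F) • V F x v.1 + (1 : F) • V F x v.2 = v.1 := congrArg Prod.fst f1
  have a2 : (0 : F) • V F x v.1 + (3 : F) • V F x v.2 = v.2 := congrArg Prod.snd f1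
  have c1 : (1 : F) • V F y v.1 + (2 : F) • V F y v.2 = v.1 := congrArg Prod.fst f2
  have c2 : (1 : F) • V F y v.1 + (3 : F) • V F y v.2 = v.2 := congrArg Prod.snd f2
  have e1 : V F y v.2 = v.2 - v.1 := by linear_combination (norm := module) c2 - c1
  have e2 : v.1 = v.2 - V F y v.2 := by rw [e1]; abel
  have e3 : V F x v.2 = (2 : F) • v.2 := by
    linear_combination (norm := module) (2 : F) • a2 - h5 • V F x v.2
  refine ⟨v.2, ?_, e3, ?_, ?_⟩
  · intro h0
    apply hv0'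
    refine Prod.ext ?_ h0
    rw [e2, h0, map_zero, sub_zero]; rfl
  · have a1' := a1
    rw [e2, map_sub, e3] at a1'
    linear_combination (norm := module) (-3 : F) • a1' - h5 • (V F x (V F y v.2)) +
      ((3 : F) * h5) • v.2
  · have c2' := c2
    rw [e2, map_sub] at c2'
    linear_combination (norm := module) (-1 : F) • c2' + h5 • V F y v.2

/-- the plane -/
theorem MV.plane {x y : Gh F} {v : D1 → F} (hv : MV x y v) (h0 : v ≠ 0) :
    Submodule.span F {v, V F y v} ≠ ⊥ ∧ finrank F ↥(Submodule.span F {v, V F y v}) ≤ 2 ∧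
      (∀ u ∈ Submodule.span F {v, V F y v}, V F x u ∈ Submodule.span F {v, V F y v}) ∧
      (∀ u ∈ Submodule.span F {v, V F y v}, V F y u ∈ Submodule.span F {v, V F y v}) := by
  have m1 : v ∈ Submodule.span F {v, V F y v} := Submodule.subset_span (by simp)
  have m2 : V F y v ∈ Submodule.span F {v, V F y v} := Submodule.subset_span (by simp)
  refine ⟨?_, ?_, ?_, ?_⟩
  · intro h
    rw [h, Submodule.mem_bot] at m1
    exact h0 m1
  · classical
    have h3 := finrank_span_finset_le_card (R := F) ({v, V F y v} : Finset (D1 → F))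
    have h4 : ({v, V F y v} : Finset (D1 → F)).card ≤ 2 := Finset.card_le_two
    rw [Finset.coe_pair] at h3
    exact h3.trans h4
  · intro u hu
    obtain ⟨a, b, rfl⟩ := Submodule.mem_span_pair.1 hu
    rw [map_add, map_smul, map_smul, hv.a, hv.b]
    exact add_mem (Submodule.smul_mem _ _ (Submodule.smul_mem _ _ m1)) (Submodule.smul_mem _ _ (Submodule.smul_mem _ _ m2))
  · intro u hu
    obtain ⟨a, b, rfl⟩ := Submodule.mem_span_pair.1 hu
    rw [map_add, map_smul, map_smul, hv.c]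
    exact add_mem (Submodule.smul_mem _ _ m2) (Submodule.smul_mem _ _ (sub_mem (neg_mem m2) m1))

/-- the outer element has an eigenvector -/
theorem mu_core {x y k : Gh F} (hk : k * k = x) {r r' : F} (hr : r * r' = 1) {y1 : Gh F}
    (hrel : y * k = k * y1)
    (h1 : ∀ v, MV x y v → V F y1 v = r • V F y v ∧ V F y1 (V F y v) = -V F y v - r' • v)
    {e : F} (he : e * e = 2) {v : D1 → F} (hv0 : v ≠ 0) (hv : MV x y v) :
    ∃ v', v' ≠ 0 ∧ MV x y v' ∧ ∀ u ∈ Submodule.span F {v', V F y v'}, V F k u ∈ Submodule.span F {v', V F y v'} := by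
  have hkk : ∀ v, V F k (V F k v) = V F x v := fun v => by rw [← V_mul, hk]
  have hyk : ∀ v, V F y (V F k v) = V F k (V F y1 v) := fun v => by rw [← V_mul, hrel, V_mul]
  have hxk : ∀ v, V F x (V F k v) = V F k (V F x v) := fun v => by rw [← hkk, ← hkk]
  have hMk : ∀ v, MV x y v → MV x y (V F k v) := by
    intro v hv
    obtain ⟨g1, g2⟩ := h1 v hv
    refine ⟨?_, ?_, ?_⟩
    · rw [hxk, hv.a, map_smul]
    · rw [hyk, g1, map_smul, map_smul, hxk, hv.b, map_smul, smul_comm]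
    · rw [hyk, g1, map_smul, map_smul, hyk, g2, map_sub, map_neg, map_smul, smul_sub, smul_smul, hr, one_smul, smul_neg]
  obtain ⟨v', ε, hv0', hv', hε⟩ : ∃ (v' : D1 → F) (ε : F), v' ≠ 0 ∧ MV x y v' ∧ V F k v' = ε • v' := by
    by_cases hz : V F k v + e • v = 0
    · exact ⟨v, -e, hv0, hv, by rw [neg_smul]; exact eq_neg_of_add_eq_zero_left hz⟩
    · refine ⟨V F k v + e • v, e, hz, (hMk v hv).add (hv.smul e), ?_⟩
      rw [map_add, map_smul, hkk, hv.a, ← he]
      module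
  refine ⟨v', hv0', hv', ?_⟩
  have m1 : v' ∈ Submodule.span F {v', V F y v'} := Submodule.subset_span (by simp)
  have m2 : V F y v' ∈ Submodule.span F {v', V F y v'} := Submodule.subset_span (by simp)
  have h7 : V F k (V F y v') = (r' * ε) • V F y v' := by
    have h8 := hyk v'
    rw [(h1 v' hv').1, map_smul, hε, map_smul] at h8
    rw [mul_smul, h8, smul_smul, mul_comm r' r, hr, one_smul]
  intro u hu
  obtain ⟨a, b, rfl⟩ := Submodule.mem_span_pair.1 hu
  rw [map_add, map_smul, map_smul, hε, h7]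
  exact add_mem (Submodule.smul_mem _ _ (Submodule.smul_mem _ _ m1)) (Submodule.smul_mem _ _ (Submodule.smul_mem _ _ m2))

theorem MV.inv_v {x y : Gh F} {v : D1 → F} (hv : MV x y v) (hy3 : y ^ 3 = 1) : V F y⁻¹ v = -V F y v - v := by
  have h : y⁻¹ = y * y := by
    rw [inv_eq_iff_mul_eq_one, ← hy3, pow_succ, pow_two, mul_assoc]
  rw [h, V_mul, hv.c]

theorem MV.xx {x y : Gh F} {v : D1 → F} (hv : MV x y v) (a b : F) :
    V F x (a • V F y v + b • v) = (3 * a) • V F y v + (2 * b) • v := by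
  rw [map_add, map_smul, map_smul, hv.b, hv.a, smul_smul, smul_smul, mul_comm a, mul_comm b]

theorem MV.yy {x y : Gh F} {v : D1 → F} (hv : MV x y v) (a b : F) :
    V F y (a • V F y v + b • v) = (b - a) • V F y v + (-a) • v := by
  rw [map_add, map_smul, map_smul, hv.c]
  module

theorem MV.yi {x y : Gh F} {v : D1 → F} (hv : MV x y v) (hy3 : y ^ 3 = 1) (a b : F) :
    V F y⁻¹ (a • V F y v + b • v) = (-b) • V F y v + (a - b) • v := by
  rw [map_add, map_smul, map_smul, V_inv, hv.inv_v hy3]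
  module

theorem MV.w1 (h5 : (5 : F) = 0) {x y : Gh F} {v : D1 → F} (hv : MV x y v) (hy3 : y ^ 3 = 1) :
    V F (x * y * x * y⁻¹ * x * y) v = (3 : F) • V F y v ∧
      V F (x * y * x * y⁻¹ * x * y) (V F y v) = V F y v + (3 : F) • v := by
  have e1 : v = (0 : F) • V F y v + (1 : F) • v := by module
  have e2 : V F y v = (1 : F) • V F y v + (0 : F) • v := by module
  constructor
  · nth_rewrite 1 [e1]
    simp only [V_mul, hv.xx, hv.yy, hv.yi hy3]
    match_scalars <;> first | linear_combination (0 : F) * h5 | fail                            | fail                             | fail                            | fail                             | linear_combination (3 : F) * h5 | linear_combination (-3 : F) * h5 | linear_combination (4 : F) * h5 | linear_combination (-4 : F) * h5 | linear_combination (5 : F) * h5 | linear_combination (-5 : F) * h5 | linear_combination (6 : F) * h5 | linear_combination (-6 : F) * h5 | linear_combination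 (7 : F) * h5 | linear_combination (-7 : F) * h5 | linear_combination (8 : F) * h5 | linear_combination (-8 : F) * h5 | linear_combination (9 : F) * h5 | linear_combination (-9 : F) * h5 | linear_combination (10 : F) * h5 | linear_combination (-10 : F) * h5
  · nth_rewrite 1 [e2]
    simp only [V_mul, hv.xx, hv.yy, hv.yi hy3]
    match_scalars <;> first | fail                            | fail                            | fail                             | fail                            | fail                             | fail                            | linear_combination (-3 : F) * h5 | fail                            | fail                             | fail                            | linear_combination (-5 : F) * h5 | linear_combination (6 : F) * h5 | linear_combination (-6 : F) * h5 | linear_combination (7 : F) * h5 | linear_combination (-7 : F) * h5 | linear_combination (8 : F) * h5 | linear_combination (-8 : F) * h5 | linear_combination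 (9 : F) * h5 | linear_combination (-9 : F) * h5 | linear_combination (10 : F) * h5 | linear_combination (-10 : F) * h5

theorem MV.w2 (h5 : (5 : F) = 0) {x y : Gh F} {v : D1 → F} (hv : MV x y v) (hy3 : y ^ 3 = 1) :
    V F (y * x * y⁻¹ * x * y * x) v = (2 : F) • V F y v ∧
      V F (y * x * y⁻¹ * x * y * x) (V F y v) = V F y v + (2 : F) • v := by
  have e1 : v = (0 : F) • V F y v + (1 : F) • v := by module
  have e2 : V F y v = (1 : F) • V F y v + (0 : F) • v := by module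
  constructor
  · nth_rewrite 1 [e1]
    simp only [V_mul, hv.xx, hv.yy, hv.yi hy3]
    match_scalars <;> first | linear_combination (0 : F) * h5 | fail                            | fail                             | linear_combination (2 : F) * h5 | linear_combination (-2 : F) * h5 | linear_combination (3 : F) * h5 | linear_combination (-3 : F) * h5 | linear_combination (4 : F) * h5 | linear_combination (-4 : F) * h5 | linear_combination (5 : F) * h5 | linear_combination (-5 : F) * h5 | linear_combination (6 : F) * h5 | linear_combination (-6 : F) * h5 | linear_combination (7 : F) * h5 | linear_combination (-7 : F) * h5 | linear_combination (8 : F) * h5 | linear_combination (-8 : F) * h5 | linear_combination (9 : F) * h5 | linear_combination (-9 : F) * h5 | linear_combination (10 : F) * h5 | linear_combination (-10 : F) * h5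
  · nth_rewrite 1 [e2]
    simp only [V_mul, hv.xx, hv.yy, hv.yi hy3]
    match_scalars <;> first | fail                            | fail                            | fail                             | fail                            | fail                             | fail                            | fail                             | fail                            | linear_combination (-4 : F) * h5 | fail                            | linear_combination (-5 : F) * h5 | linear_combination (6 : F) * h5 | linear_combination (-6 : F) * h5 | linear_combination (7 : F) * h5 | linear_combination (-7 : F) * h5 | linear_combination (8 : F) * h5 | linear_combination (-8 : F) * h5 | linear_combination (9 : F) * h5 | linear_combination (-9 : F) * h5 | linear_combination (10 : F) * h5 | linear_combination (-10 : F) * h5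

end

section

variable {F : Type u} [Field F] [Finite F] {H : Subgroup ↥(chevE7.group F)} {φ : A5 →* ↥(chevE7.group F)}

/-- the lift of an element of order 3 conjugating as the outer element -/
theorem mu_final (h2 : (2 : F) ≠ 0) (hM : MaxAlt H 5 φ) {x y k z : Gh F} (hx : ad F x = φ a0)
    (hy : ad F y = φ b0) (hy3 : y ^ 3 = 1) (hz : V F z = -1) (hz1 : ad F z = 1) (hk : k * k = x) (hkH : ad F k ∈ H)
    (hkr : ad F k ∉ φ.range)
    {W : Gh F} {b : A5} (hW : ad F W = φ b) (hb : b ^ 3 = 1) (hrel : ad F (k⁻¹ * y * k) = φ b)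
    {r r' : F} (hr : r * r' = 1)
    (h1 : ∀ v, MV x y v → V F W v = (-r) • V F y v ∧ V F W (V F y v) = V F y v + r' • v)
    {e : F} (he : e * e = 2) {v : D1 → F} (hv0 : v ≠ 0) (hv : MV x y v) : False := by
  have h1' : ∀ v, MV x y v → V F (z * W) v = r • V F y v ∧ V F (z * W) (V F y v) = -V F y v - r' • v := by
    intro v hv
    obtain ⟨g1, g2⟩ := h1 v hv
    rw [V_mul, V_mul, neg_apply hz, neg_apply hz, g1, g2]
    constructor <;> module
  have hW3 : (z * W) ^ 3 = 1 := by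
    have h3 : ad F ((z * W) ^ 3) = 1 := by
      rw [map_pow, map_mul, hz1, one_mul, hW, ← map_pow, hb, map_one]
    rcases ker_cases hz h3 with h4 | h4
    · exact h4
    · exfalso
      obtain ⟨g1, g2⟩ := h1' v hv
      have h6 : V F ((z * W) ^ 3) v = v := by
        rw [pow_succ, pow_two, V_mul, V_mul, g1, map_smul, g2, smul_sub, smul_neg, smul_smul, hr, one_smul, map_sub, map_neg,
          map_smul, g2, g1]
        linear_combination (norm := module) hr • v
      rw [h4, neg_apply hz] at h6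
      apply hv0
      have h7 : (2 : F) • v = 0 := by
        rw [two_smul]
        nth_rewrite 1 [← h6]
        exact neg_add_cancel v
      exact (smul_eq_zero.1 h7).resolve_left h2
  have hrel' : y * k = k * (z * W) := by
    have h3 : k⁻¹ * y * k = z * W := by
      apply odd_unique (k := 3) (by decide)
      · rw [hrel, map_mul, hz1, one_mul, hW]
      · have : k⁻¹ * y * k = k⁻¹ * y * k⁻¹⁻¹ := by rw [inv_inv]
        rw [this, conj_pow, hy3, mul_one, mul_inv_cancel]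
      · exact hW3
    rw [← h3]; group
  obtain ⟨v', hv0', hv', hst⟩ := mu_core hk hr hrel' h1' he hv0 hv
  obtain ⟨p1, p2, p3, p4⟩ := hv'.plane hv0'
  have hstab : Stab (V F) H (Submodule.span F {v', V F y v'}) := by
    intro g hg
    rcases mem_or hM hkH hkr hg with h | h
    · exact stab_of hx hy p3 p4 g h
    · have h6 : g = (g * k) * k⁻¹ := by group
      have h7 : g * k ∈ St (V F) (Submodule.span F {v', V F y v'}) :=
        mem_St_of (stab_of hx hy p3 p4 (g * k) (by rw [map_mul]; exact h))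
      have h8 : k ∈ St (V F) (Submodule.span F {v', V F y v'}) := mem_St_of hst
      have h9 : g ∈ St (V F) (Submodule.span F {v', V F y v'}) := by
        rw [h6]; exact mul_mem h7 (inv_mem h8)
      exact fun w hw => (h9 w).2 hw
  have h4 := three_le hM (by norm_num) (Or.inr (by norm_num)) hstab p1
  omega

/-- **the double cover in characteristic 5** -/
theorem cover_five (hM : MaxAlt H 5 φ) (h5 : (5 : F) = 0) {x y : Gh F} (hx : ad F x = φ a0)
    (hy : ad F y = φ b0) (hy3 : y ^ 3 = 1) (hw5 : (x * y) ^ 5 = 1) (hc : Cover φ) (hx2 : V F (x * x) = -1) : False := by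
  have h2 : (2 : F) ≠ 0 := by
    intro h2
    apply one_ne_zero (α := F)
    linear_combination h5 - 2 * h2
  have h3 : (3 : F) ≠ 0 := by
    intro h3
    apply one_ne_zero (α := F)
    linear_combination 2 * h3 - h5
  have hch : CharP F 5 := by
    obtain ⟨p, hp⟩ := CharP.exists F
    have hpp : p.Prime := CharP.char_is_prime F p
    have h8 : p ∣ 5 := (CharP.cast_eq_zero_iff F p 5).1 (by exact_mod_cast h5)
    rwa [(Nat.prime_dvd_prime_iff_eq hpp Nat.prime_five).1 h8] at hp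
  have : Fact (Nat.Prime 5) := ⟨Nat.prime_five⟩
  obtain ⟨z, -, hzV, hz1, -⟩ := id hc
  have hz : V F z = -1 := neg_of hzV
  have hw : 23 ≤ finrank F ↥(LinearMap.ker (qd 2 (V F (x * y)))) := by
    have h := qd2_ge (p := 5) (T := V F (x * y)) (by rw [← map_pow, hw5, map_one])
    rw [finrank_V] at h
    omega
  have hs : finrank F ↥(LinearMap.ker (qd (-1) (V F y))) + ev (V F y) 1 = 56 := by
    rw [← finrank_V (F := F)]
    exact ker_qd_cube h3 (by rw [← map_pow, hy3, map_one])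
  have hy1 := y_ne hM hy
  have h33 : 34 ≤ finrank F ↥(LinearMap.ker (qd (-1) (V F y))) := by
    by_contra hlt
    have scott := scottL h2 hx hy
    have h8 := four h2 hx2
    have h9 := ev_ge (p := 5) (T := L F (x * y)) (by rw [← map_pow, hw5, map_one])
    rw [finrank_L] at h9
    rcases three h3 hy3 hy1 with h | h | h | h | h
    · omega
    · exact few_twelve h2 hM (by omega)
    · omega
    · omega
    · omega
  by_cases hH : H = φ.range
  · obtain ⟨v, hv0, hv⟩ := exists_mv h5 hx2 (y := y) (by omega)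
    obtain ⟨p1, p2, p3, p4⟩ := hv.plane hv0
    exact small_false hM hH hx hy p1 p2 p3 p4
  · obtain ⟨h, hh, hh2, hhb, hhr⟩ := outer hM hH
    obtain ⟨k, hk⟩ := ad_surjective h
    have hkk : ad F (x⁻¹ * (k * k)) = 1 := by rw [map_mul, map_inv, map_mul, hk, hh2, hx, inv_mul_cancel]
    have hxx : x * x = z := V_injective (hx2.trans hz.symm)
    have hzz : z * z = 1 := ker_sq hz1
    have hkx : k * k = x ∨ k * k = x * z := by
      rcases ker_cases hz hkk with h6 | h6
      · left; rw [inv_mul_eq_one] at h6; exact h6.symm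
      · right; rw [← h6, mul_inv_cancel_left]
    have hzx : x * z = z * x := ker_comm hz1 x
    -- 2 is a square
    have hsq : ∃ e : F, e * e = 2 := by
      have := Fintype.ofFinite F
      by_contra hne
      have h6 : ¬ IsSquare (2 : F) := fun ⟨e, he⟩ => hne ⟨e, he.symm⟩
      rw [FiniteField.isSquare_two_iff] at h6
      have h7 : Nat.card F % 8 = 3 ∨ Nat.card F % 8 = 5 := by
        rw [Nat.card_eq_fintype_card]
        by_contra hcon
        push Not at hcon
        exact h6 ⟨hcon.1, hcon.2⟩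
      refine no_eight h2 (k := k) ?_ h7
      have h8 : k ^ 4 = (k * k) * (k * k) := by rw [← pow_two k, ← pow_add]
      have h9 : k ^ 4 = x * x := by
        rw [h8]
        rcases hkx with h | h
        · rw [h]
        · rw [h]
          calc x * z * (x * z) = x * (z * x) * z := by group
            _ = x * (x * z) * z := by rw [hzx]
            _ = x * x * (z * z) := by group
            _ = x * x := by rw [hzz, mul_one]
      rw [h9, hx2]
    obtain ⟨e, he⟩ := hsq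
    obtain ⟨v, hv0, hv⟩ := exists_mv h5 hx2 (y := y) (by omega)
    rcases hkx with hkx | hkx
    · -- `k² = x`
      refine mu_final h2 hM hx hy hy3 hz hz1 hkx (by rw [hk]; exact hh) (by rw [hk]; exact hhr)
        (W := x * y * x * y⁻¹ * x * y) (b := a0 * b0 * a0 * b0⁻¹ * a0 * b0) ?_ (by decide +kernel) ?_
        (r := 2) (r' := 3) (by linear_combination h5) (fun v hv => ?_) he hv0 hv
      · simp only [map_mul, map_inv, hx, hy]
      · have h6 : a0 * b0 * a0 * b0⁻¹ * a0 * b0 = a0⁻¹ * b1 * a0 := by decide +kernel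
        rw [h6, map_mul, map_mul, map_mul, map_mul, map_inv, map_inv, hk, hy, ← hhb, ← hh2]
        group
      · obtain ⟨g1, g2⟩ := hv.w1 h5 hy3
        refine ⟨?_, g2⟩
        rw [g1]
        linear_combination (norm := module) h5 • V F y v
    · -- `k² = x z = x⁻¹`
      have hk' : k⁻¹ * k⁻¹ = x := by
        rw [← mul_inv_rev, hkx, inv_eq_iff_mul_eq_one, mul_assoc, ← hzx, ← mul_assoc, hxx, hzz]
      refine mu_final h2 hM hx hy hy3 hz hz1 hk' (by rw [map_inv, hk]; exact inv_mem hh)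
        (by rw [map_inv, hk, inv_mem_iff]; exact hhr)
        (W := y * x * y⁻¹ * x * y * x) (b := b1) ?_ (by decide +kernel) ?_
        (r := 3) (r' := 2) (by linear_combination h5) (fun v hv => ?_) he hv0 hv
      · rw [b1]
        simp only [map_mul, map_inv, hx, hy]
      · rw [map_mul, map_mul, inv_inv, map_inv, hk, hy, hhb]
      · obtain ⟨g1, g2⟩ := hv.w2 h5 hy3
        refine ⟨?_, g2⟩
        rw [g1]
        linear_combination (norm := module) h5 • V F y v

end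

end Cfsg.Agent.R2.T1.Five
end

-- part: R2/T1/Five/Main
section
prune_inst 0x10000000000000
set_option linter.all false
open scoped Cfsg.Agent.FastGrp

/-!
# No maximal subgroup with generalized Fitting subgroup `A₅` (helper25)

* `no_five` : **there is no maximal subgroup with generalized Fitting subgroup `A₅` in the groups of type `E₇`**.
-/

set_option autoImplicit false
set_option linter.unusedSectionVars false
set_option maxRecDepth 100000

namespace Cfsg.Agent.R2.T1.Five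

open Cfsg Cfsg.Lie Module Equiv Equiv.Perm
open Cfsg.Agent.H943.E7V.Block (D1 rho)
open Cfsg.Agent.H952.F4 (ev es MaxAlt)
open Cfsg.Agent.R2.T1

universe u

section
variable {F : Type u} [Field F]

theorem pick {M : Type*} [AddCommGroup M] [Module F M] [FiniteDimensional F M] {P : Submodule F M}
    (h : 2 ≤ finrank F ↥P) : ∃ v1 ∈ P, ∃ v2 ∈ P, ∀ x y : F, x • v1 + y • v2 = 0 → x = 0 ∧ y = 0 := by
  have h1 : 1 < finrank F ↥P := by omega
  obtain ⟨v1, hv1⟩ : ∃ v : ↥P, v ≠ 0 := by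
    have : Nontrivial ↥P := Module.nontrivial_of_finrank_pos (R := F) (by omega)
    exact exists_ne 0
  obtain ⟨v2, hv2⟩ := exists_linearIndependent_pair_of_one_lt_finrank h1 hv1
  rw [LinearIndependent.pair_iff] at hv2
  refine ⟨v1, v1.2, v2, v2.2, fun x y hxy => hv2 x y (Subtype.ext hxy)⟩

theorem sum_two (h2 : (2 : F) ≠ 0) {M : Type*} [AddCommGroup M] [Module F M] [FiniteDimensional F M]
    {W P Q : Submodule F M} (T : M →ₗ[F] M) (h1 : ∀ w ∈ W, w + T w ∈ P) (h3 : ∀ w ∈ W, w - T w ∈ Q) :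
    finrank F ↥W ≤ finrank F ↥P + finrank F ↥Q := by
  have h : W ≤ P ⊔ Q := by
    intro w hw
    have e : w = (2 : F)⁻¹ • ((w + T w) + (w - T w)) := by
      have : (w + T w) + (w - T w) = (2 : F) • w := by rw [two_smul]; abel
      rw [this, smul_smul, inv_mul_cancel₀ h2, one_smul]
    rw [e]
    exact Submodule.smul_mem _ _ (Submodule.add_mem_sup (h1 w hw) (h3 w hw))
  exact (Submodule.finrank_mono h).trans (Submodule.finrank_add_le_finrank_add_finrank P Q)

theorem a0_comm_pow : ∀ c : A5, c * a0 = a0 * c → c ^ 15 = 1 → c = 1 := by (set_option synthInstance.maxSize 9000 in open scoped Cfsg.Agent.Lib.FastPerm in decide +kernel)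

end

section
variable {F : Type u} [Field F] [Finite F] {H : Subgroup ↥(chevE7.group F)} {φ : A5 →* ↥(chevE7.group F)}

/-- a two-dimensional space of fixed vectors on which `H` acts by signs -/
theorem exists_plane (h2 : (2 : F) ≠ 0) (hM : MaxAlt H 5 φ)
    (hd : 3 ≤ finrank F ↥(Representation.invariants (MonoidHom.comp (LK F) φ))) :
    ∃ P : Submodule F (chevE7.Idx → F), 2 ≤ finrank F ↥P ∧ (∀ v ∈ P, ∀ a, LK F (φ a) v = v) ∧
      ∀ v ∈ P, ∀ h ∈ H, LK F h v = v ∨ LK F h v = -v := by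
  set W := Representation.invariants (MonoidHom.comp (LK F) φ) with hW
  have hWm : ∀ {v}, v ∈ W ↔ ∀ a, LK F (φ a) v = v := fun {v} => Representation.mem_invariants _ v
  by_cases hH : H = φ.range
  · refine ⟨W, by omega, fun v hv => hWm.1 hv, fun v hv h hh => ?_⟩
    rw [hH] at hh
    obtain ⟨a, rfl⟩ := hh
    exact Or.inl (hWm.1 hv a)
  obtain ⟨h, hh, hsq, -, hr⟩ := outer hM hH
  let P : Submodule F (chevE7.Idx → F) := W ⊓ LinearMap.ker (LK F h - 1)
  let Q : Submodule F (chevE7.Idx → F) := W ⊓ LinearMap.ker (LK F h + 1)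
  have hP : ∀ {v}, v ∈ P ↔ v ∈ W ∧ LK F h v = v := by
    intro v
    rw [Submodule.mem_inf, LinearMap.mem_ker, LinearMap.sub_apply, Module.End.one_apply, sub_eq_zero]
  have hQ : ∀ {v}, v ∈ Q ↔ v ∈ W ∧ LK F h v = -v := by
    intro v
    rw [Submodule.mem_inf, LinearMap.mem_ker, LinearMap.add_apply, Module.End.one_apply, add_eq_zero_iff_eq_neg]
  have hWh : ∀ v ∈ W, LK F h v ∈ W := by
    intro v hv
    rw [hWm] at hv ⊢
    intro a
    obtain ⟨b, hb⟩ := hM.norm h⁻¹ (inv_mem hh) _ ⟨a, rfl⟩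
    rw [inv_inv] at hb
    have e : φ a * h = h * φ b := by rw [hb]; group
    rw [← LK_mul, e, LK_mul, hv]
  have hWsq : ∀ v ∈ W, LK F h (LK F h v) = v := by
    intro v hv
    rw [← LK_mul, hsq]
    exact hWm.1 hv a0
  have hdim := sum_two h2 (W := W) (P := P) (Q := Q) (LK F h) (by
    intro w hw
    rw [hP]
    refine ⟨W.add_mem hw (hWh w hw), ?_⟩
    rw [map_add, hWsq w hw, add_comm]) (by
    intro w hw
    rw [hQ]
    refine ⟨W.sub_mem hw (hWh w hw), ?_⟩
    rw [map_sub, hWsq w hw, neg_sub])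
  have hinv : ∀ {v}, v ∈ W → ∀ {e : F}, e * e = 1 → LK F h v = e • v → ∀ g ∈ H, LK F g v = v ∨ LK F g v = e • v := by
    intro v hv e he hev g hg
    rcases mem_or hM hh hr hg with h1 | ⟨a, ha⟩
    · obtain ⟨a, rfl⟩ := h1
      exact Or.inl (hWm.1 hv a)
    · right
      have h3 : LK F h⁻¹ v = e • v := by
        have h4 : LK F h⁻¹ (LK F h v) = v := by rw [← LK_mul, inv_mul_cancel, map_one, Module.End.one_apply]
        rw [hev, map_smul] at h4
        have h5 := congrArg (fun w => e • w) h4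
        simp only [smul_smul, he, one_smul] at h5
        exact h5
      have e1 : g = φ a * h⁻¹ := by rw [ha]; group
      rw [e1, LK_mul, h3, map_smul, hWm.1 hv a]
  rcases (by omega : 2 ≤ finrank F ↥P ∨ 2 ≤ finrank F ↥Q) with h3 | h3
  · refine ⟨P, h3, fun v hv => hWm.1 (hP.1 hv).1, fun v hv g hg => ?_⟩
    obtain ⟨h4, h5⟩ := hP.1 hv
    rcases hinv h4 (e := 1) (one_mul 1) (by rw [one_smul, h5]) g hg with h6 | h6
    · exact Or.inl h6
    · rw [one_smul] at h6; exact Or.inl h6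
  · refine ⟨Q, h3, fun v hv => hWm.1 (hQ.1 hv).1, fun v hv g hg => ?_⟩
    obtain ⟨h4, h5⟩ := hQ.1 hv
    rcases hinv h4 (e := -1) (by ring) (by rw [neg_one_smul, h5]) g hg with h6 | h6
    · exact Or.inl h6
    · rw [neg_one_smul] at h6; exact Or.inr h6

/-- the involution with 32 eigenvalues 1 -/
theorem exists_z (h2 : (2 : F) ≠ 0) {x : Gh F} (hx : x * x = 1) (hx1 : ad F x ≠ 1) :
    ∃ z : Gh F, z * z = 1 ∧ ad F z = ad F x ∧ ev (V F z) 1 = 32 := by
  rcases (two h2 hx hx1).1 with h | h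
  · exact ⟨x, hx, rfl, h⟩
  obtain ⟨c, c1, c2, c3⟩ := exists_neg (K := F)
  have hc : c * x = x * c := (ker_comm c2 x).symm
  have hcx : (c * x) * (c * x) = 1 := by
    have : (c * x) * (c * x) = c * (x * c) * x := by group
    rw [this, ← hc]
    have : c * (c * x) * x = (c * c) * (x * x) := by group
    rw [this, c3, hx, mul_one]
  have had : ad F (c * x) = ad F x := by rw [map_mul, c2, one_mul]
  refine ⟨c * x, hcx, had, ?_⟩
  rcases (two h2 hcx (by rw [had]; exact hx1)).1 with h3 | h3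
  · exact h3
  exfalso
  have hdim := sum_two h2 (W := (⊤ : Submodule F (D1 → F))) (P := es (V F x) 1) (Q := es (V F (c * x)) 1) (V F x) (by
    intro w _
    show _ ∈ Module.End.eigenspace _ _
    rw [Module.End.mem_eigenspace_iff, one_smul, map_add, ← V_mul, hx, V_one, add_comm]) (by
    intro w _
    show _ ∈ Module.End.eigenspace _ _
    rw [Module.End.mem_eigenspace_iff, one_smul, V_mul, c1, map_sub, ← V_mul, hx, V_one]
    show -(V F x w - w) = _
    rw [neg_sub])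
  rw [finrank_top, finrank_V] at hdim
  have h4 : finrank F ↥(es (V F x) 1) = 24 := h
  have h5 : finrank F ↥(es (V F (c * x)) 1) = 24 := h3
  omega

/-- **the lift case in characteristic 5** -/
theorem lift_five (hM : MaxAlt H 5 φ) (h5 : (5 : F) = 0) {ψ : A5 →* Gh F} (hψ : Lift φ ψ) : False := by
  have := Fintype.ofFinite F
  have f2 : (2 : F) ≠ 0 := fun h2 => one_ne_zero (α := F) (by linear_combination 3 * h2 - h5)
  have f3 : (3 : F) ≠ 0 := fun h3 => one_ne_zero (α := F) (by linear_combination 2 * h3 - h5)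
  have hch : CharP F 5 := by
    obtain ⟨p, hp⟩ := CharP.exists F
    have hpp : p.Prime := CharP.char_is_prime F p
    have h8 : p ∣ 5 := (CharP.cast_eq_zero_iff F p 5).1 (by exact_mod_cast h5)
    rwa [(Nat.prime_dvd_prime_iff_eq hpp Nat.prime_five).1 h8] at hp
  have hp5 : Fact (Nat.Prime 5) := ⟨Nat.prime_five⟩
  have hxx : ψ a0 * ψ a0 = 1 := by rw [← map_mul, a0_sq, map_one]
  have hyy : ψ b0 ^ 3 = 1 := by rw [← map_pow, b0_cube, map_one]
  have hww : (ψ a0 * ψ b0) ^ 5 = 1 := by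
    rw [← map_mul, ← map_pow]
    show ψ (w0 ^ 5) = 1
    rw [w0_pow, map_one]
  have scott := scottL f2 (hψ a0) (hψ b0)
  have e1 := two f2 hxx (x_ne hM (hψ a0))
  have e2 : 43 ≤ ev (L F (ψ b0)) 1 := by
    rcases three f3 hyy (y_ne hM (hψ b0)) with h | h | h | h | h <;> omega
  have e3 := ev_ge (p := 5) (T := L F (ψ a0 * ψ b0)) (by rw [← map_pow, hww, map_one])
  rw [finrank_L] at e3
  have hd : 3 ≤ finrank F ↥(Representation.invariants (MonoidHom.comp (LK F) φ)) := by omega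
  obtain ⟨n, -, hn⟩ := FiniteField.card F 5
  have hn1 : 1 ≤ (n : ℕ) := n.2
  rcases Nat.eq_or_lt_of_le hn1 with hn2 | hn2
  · -- the field with 5 elements
    have hcard : Nat.card F = 5 := by rw [Nat.card_eq_fintype_card, hn, ← hn2, pow_one]
    obtain ⟨P, p1, p2, p3⟩ := exists_plane f2 hM hd
    obtain ⟨v1, hv1, v2, hv2, hind⟩ := pick p1
    obtain ⟨z, z1, z2, z3⟩ := exists_z f2 hxx (x_ne hM (hψ a0))
    rw [hψ a0] at z2
    obtain ⟨x, y, hxy, hq⟩ := quad_five hcard (Qf z v1) (8 * kf F v1 v2 - BF z v1 v2 - BF z v2 v1) (Qf z v2)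
    rw [← Qf_add] at hq
    set v := x • v1 + y • v2 with hvdef
    have hvP : v ∈ P := P.add_mem (P.smul_mem _ hv1) (P.smul_mem _ hv2)
    have hv0 : v ≠ 0 := fun h => hxy (hind x y h)
    have hzv : L F z v = v := by rw [L_eq, z2]; exact p2 v hvP a0
    obtain ⟨ρ, r1, r2, r3, r4⟩ := two_e hcard z1 z3 hzv hq
    let U : Submodule F (chevE7.Idx → F) := Submodule.span F {v}
    have hU : ∀ {g : Gh F} {c : F}, L F g v = c • v → ∀ u ∈ U, L F g u ∈ U := by
      intro g c hg u hu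
      obtain ⟨t, rfl⟩ := Submodule.mem_span_singleton.1 hu
      rw [map_smul, hg]
      exact Submodule.smul_mem _ _ (Submodule.smul_mem _ _ (Submodule.mem_span_singleton_self v))
    have hstab : Stab (L F) H U := by
      intro g hg
      rcases p3 v hvP _ hg with h | h
      · exact hU (c := 1) (by rw [L_eq, h, one_smul])
      · exact hU (c := -1) (by rw [L_eq, h, neg_one_smul])
    have hfr : finrank F ↥U = 1 := finrank_span_singleton hv0
    have hU0 : U ≠ ⊥ := by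
      intro h
      rw [h, finrank_bot] at hfr
      exact absurd hfr (by norm_num)
    have hU1 : U ≠ ⊤ := by
      intro h
      rw [h, finrank_top, finrank_L] at hfr
      exact absurd hfr (by norm_num)
    have hρH : ad F ρ ∈ H := blue_of hM.coatom (irrL f2) hstab hU0 hU1 (hU (c := 1) (by rw [r2, one_smul]))
    have hρr : ad F ρ ∈ φ.range := by
      have hs := hM.sq _ hρH
      rcases r3 with r3 | r3
      · have e : ad F ρ = (ad F ρ * ad F ρ) * (ad F ρ * ad F ρ) := by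
          have : (ad F ρ * ad F ρ) * (ad F ρ * ad F ρ) = ad F (ρ ^ 3) * ad F ρ := by
            rw [map_pow]; simp only [pow_succ, pow_zero, one_mul, mul_assoc]
          rw [this, r3, map_one, one_mul]
        rw [e]
        exact mul_mem hs hs
      · have e : ad F ρ = (ad F ρ * ad F ρ) * (ad F ρ * ad F ρ) * (ad F ρ * ad F ρ) := by
          have : (ad F ρ * ad F ρ) * (ad F ρ * ad F ρ) * (ad F ρ * ad F ρ) = ad F (ρ ^ 5) * ad F ρ := by
            rw [map_pow]; simp only [pow_succ, pow_zero, one_mul, mul_assoc]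
          rw [this, r3, map_one, one_mul]
        rw [e]
        exact mul_mem (mul_mem hs hs) hs
    obtain ⟨c, hc⟩ := hρr
    have hinj := hM.inj
    have c1 : c * a0 = a0 * c := by
      apply hinj
      rw [map_mul, map_mul, hc, ← z2, ← map_mul, ← map_mul, r1]
    have hρ15 : ρ ^ 15 = 1 := by
      rcases r3 with r3 | r3
      · rw [show 15 = 3 * 5 by norm_num, pow_mul, r3, one_pow]
      · rw [show 15 = 5 * 3 by norm_num, pow_mul, r3, one_pow]
    have c2 : c ^ 15 = 1 := by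
      apply hinj
      rw [map_pow, hc, ← map_pow, hρ15, map_one, map_one]
    have c3 := a0_comm_pow c c1 c2
    apply r4
    refine odd_unique (k := 15) (by decide) ?_ hρ15 (one_pow _)
    rw [← hc, c3, map_one, map_one]
  · refine few_false f2 hM (m := 2) ?_ fun k l h1 _ => by omega
    have h25 : 25 ≤ Nat.card F := by
      rw [Nat.card_eq_fintype_card, hn]
      calc 25 = 5 ^ 2 := by norm_num
        _ ≤ 5 ^ (n : ℕ) := Nat.pow_le_pow_right (by norm_num) hn2
    calc 274 ≤ 25 ^ 2 := by norm_num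
      _ ≤ _ := Nat.pow_le_pow_left h25 2

/-- **There is no maximal subgroup with generalized Fitting subgroup `A₅`.** -/
theorem no_five (hM : MaxAlt H 5 φ) : False := by
  by_cases h5 : (5 : F) = 0
  · obtain ⟨x, y, hx, hy, hy3, hw5, hc⟩ := setup hM
    rcases hc with ⟨ψ, hψ, -⟩ | ⟨-, hcov, hx2⟩
    · exact lift_five hM h5 hψ
    · exact cover_five hM h5 hx hy hy3 hw5 hcov hx2
  · exact not_five hM h5

end

end Cfsg.Agent.R2.T1.Five
end

-- part: R2/T1/Nodd/MuB
section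
prune_inst 0x10000000000000
set_option linter.all false
open scoped Cfsg.Agent.FastGrp

-- part: R2/T1/Nodd/MuA
section
/-!
# S5771, NODD: the `A_n`-module generated by a vector fixed by `Q` is totally isotropic, `8 ≤ n ≤ 10` (helper25)

* `col` : the coloring of the points (`0` on `{0..3}`, `1` on `{4..7}`, the other points have different colors);
* `sym` : `B u (g u) = 0` if `col (g k) = col (g⁻¹ k)` for `k ≥ 8`;
* `zero_eight`, `zero_nine`, `zero_ten` : `B u (g u) = 0` for all `g`.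
-/

set_option autoImplicit false
set_option linter.unusedSectionVars false

namespace Cfsg.Agent.R2.T1.Nodd

open Equiv Equiv.Perm Module
open Cfsg.Agent.R2.T1.T3 (A)

/-- permutations compatible with a coloring -/
theorem exists_perm_comp {α κ : Type*} [Fintype α] [DecidableEq α] [DecidableEq κ] (c : α → κ) (s : κ ≃ κ)
    (h : ∀ k, (Finset.univ.filter (fun x => c x = k)).card = (Finset.univ.filter (fun x => c x = s k)).card) :
    ∃ π : Perm α, ∀ x, c (π x) = s (c x) := by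
  have e : ∀ k, {x // c x = k} ≃ {x // c x = s k} := fun k => Fintype.equivOfCardEq (by
    rw [Fintype.card_subtype, Fintype.card_subtype, h])
  refine ⟨(Equiv.sigmaFiberEquiv c).symm.trans ((Equiv.sigmaCongr s e).trans (Equiv.sigmaFiberEquiv c)), fun x => ?_⟩
  exact (e (c x) ⟨x, rfl⟩).2

section
variable {n : ℕ}

/-- the color -/
def col (x : Fin n) : ℕ := if x.val < 4 then 0 else if x.val < 8 then 1 else x.val

theorem col_zero {x : Fin n} : col x = 0 ↔ x.val < 4 := by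
  unfold col
  by_cases h1 : x.val < 4
  · simp [h1]
  · by_cases h2 : x.val < 8
    · simp [h1, h2]
    · rw [if_neg h1, if_neg h2]; omega

theorem col_one {x : Fin n} : col x = 1 ↔ 4 ≤ x.val ∧ x.val < 8 := by
  unfold col
  by_cases h1 : x.val < 4
  · rw [if_pos h1]; omega
  · by_cases h2 : x.val < 8
    · rw [if_neg h1, if_pos h2]; omega
    · rw [if_neg h1, if_neg h2]; omega

theorem col_ge {x : Fin n} {k : ℕ} (hk : 8 ≤ k) : col x = k ↔ x.val = k := by
  unfold col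
  split_ifs <;> omega

theorem col_cases (x : Fin n) : col x = 0 ∨ col x = 1 ∨ (8 ≤ x.val ∧ col x = x.val) := by
  unfold col
  split_ifs <;> omega

theorem card_split {α : Type*} [Fintype α] (p q : α → Prop) [DecidablePred p] [DecidablePred q] :
    (Finset.univ.filter fun x => p x ∧ q x).card + (Finset.univ.filter fun x => p x ∧ ¬ q x).card =
      (Finset.univ.filter p).card := by
  rw [Finset.card_filter, Finset.card_filter, Finset.card_filter, ← Finset.sum_add_distrib]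
  refine Finset.sum_congr rfl fun x _ => ?_
  by_cases hp : p x <;> by_cases hq : q x <;> simp [hp, hq]

/-- the cells of two colorings -/
theorem card_cells (g : Perm (Fin n)) (hg : ∀ k : Fin n, 8 ≤ k.val → col (g k) = col (g⁻¹ k)) (k : ℕ × ℕ) :
    (Finset.univ.filter (fun x : Fin n => (col x, col (g⁻¹ x)) = k)).card =
      (Finset.univ.filter (fun x : Fin n => (col x, col (g⁻¹ x)) = Equiv.prodComm ℕ ℕ k)).card := by
  obtain ⟨i, j⟩ := k
  have key : ∀ i j : ℕ, 8 ≤ i → (Finset.univ.filter (fun x : Fin n => (col x, col (g⁻¹ x)) = (i, j))).card =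
      (Finset.univ.filter (fun x : Fin n => (col x, col (g⁻¹ x)) = (j, i))).card := by
    intro i j hi
    by_cases hin : i < n
    · set a : Fin n := ⟨i, hin⟩ with ha
      have e1 : (Finset.univ.filter (fun x : Fin n => (col x, col (g⁻¹ x)) = (i, j))) =
          if col (g⁻¹ a) = j then {a} else ∅ := by
        ext x
        rw [Finset.mem_filter, Prod.mk.injEq, col_ge hi]
        constructor
        · rintro ⟨-, h1, h2⟩
          have h3 : x = a := Fin.ext h1
          rw [h3] at h2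
          rw [if_pos h2, h3]
          exact Finset.mem_singleton_self _
        · intro h
          split_ifs at h with h2
          · rw [Finset.mem_singleton.1 h]
            exact ⟨Finset.mem_univ _, rfl, h2⟩
          · exact absurd h (Finset.notMem_empty _)
      have e2 : (Finset.univ.filter (fun x : Fin n => (col x, col (g⁻¹ x)) = (j, i))) =
          if col (g a) = j then {g a} else ∅ := by
        ext x
        rw [Finset.mem_filter, Prod.mk.injEq, col_ge hi]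
        constructor
        · rintro ⟨-, h1, h2⟩
          have h3 : g⁻¹ x = a := Fin.ext h2
          have h4 : x = g a := by rw [← h3]; simp
          rw [h4] at h1
          rw [if_pos h1, h4]
          exact Finset.mem_singleton_self _
        · intro h
          split_ifs at h with h2
          · rw [Finset.mem_singleton.1 h]
            refine ⟨Finset.mem_univ _, h2, ?_⟩
            have : g⁻¹ (g a) = a := by simp
            rw [this]
          · exact absurd h (Finset.notMem_empty _)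
      rw [e1, e2, hg a hi]
      split_ifs <;> simp
    · have e1 : (Finset.univ.filter (fun x : Fin n => (col x, col (g⁻¹ x)) = (i, j))) = ∅ := by
        ext x
        rw [Finset.mem_filter, Prod.mk.injEq, col_ge hi]
        constructor
        · rintro ⟨-, h1, -⟩
          exact absurd x.isLt (by omega)
        · intro h; exact absurd h (Finset.notMem_empty _)
      have e2 : (Finset.univ.filter (fun x : Fin n => (col x, col (g⁻¹ x)) = (j, i))) = ∅ := by
        ext x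
        rw [Finset.mem_filter, Prod.mk.injEq, col_ge hi]
        constructor
        · rintro ⟨-, -, h1⟩
          exact absurd (g⁻¹ x).isLt (by omega)
        · intro h; exact absurd h (Finset.notMem_empty _)
      rw [e1, e2]
  show _ = (Finset.univ.filter (fun x : Fin n => (col x, col (g⁻¹ x)) = (j, i))).card
  by_cases hi : 8 ≤ i
  · exact key i j hi
  by_cases hj : 8 ≤ j
  · exact (key j i hj).symm
  by_cases hij : i = j
  · rw [hij]
  by_cases h01 : (i = 0 ∧ j = 1) ∨ (i = 1 ∧ j = 0)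
  swap
  · -- empty cells
    have hne : ∀ a b : ℕ, a < 8 → b < 8 → ¬ (a = 0 ∨ a = 1) ∨ ¬ (b = 0 ∨ b = 1) →
        (Finset.univ.filter (fun x : Fin n => (col x, col (g⁻¹ x)) = (a, b))) = ∅ := by
      intro a b ha hb hab
      ext x
      rw [Finset.mem_filter, Prod.mk.injEq]
      constructor
      · rintro ⟨-, h1, h2⟩
        exfalso
        rcases col_cases x with h | h | h <;> rcases col_cases (g⁻¹ x) with h' | h' | h' <;> omega
      · intro h; exact absurd h (Finset.notMem_empty _)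
    rw [hne i j (by omega) (by omega) (by omega), hne j i (by omega) (by omega) (by omega)]
  -- the cells (0,1) and (1,0)
  have main : (Finset.univ.filter (fun x : Fin n => (col x, col (g⁻¹ x)) = (0, 1))).card =
      (Finset.univ.filter (fun x : Fin n => (col x, col (g⁻¹ x)) = (1, 0))).card := by
    have h1 : (Finset.univ.filter (fun x : Fin n => col x = 0)).card =
        (Finset.univ.filter (fun x : Fin n => col (g⁻¹ x) = 0)).card := by
      refine Finset.card_bij (fun x _ => g x) ?_ ?_ ?_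
      · intro x hx
        rw [Finset.mem_filter] at hx ⊢
        have : g⁻¹ (g x) = x := by simp
        rw [this]
        exact ⟨Finset.mem_univ _, hx.2⟩
      · intro x _ y _ h
        exact g.injective h
      · intro y hy
        rw [Finset.mem_filter] at hy
        exact ⟨g⁻¹ y, by rw [Finset.mem_filter]; exact ⟨Finset.mem_univ _, hy.2⟩, by simp⟩
    have h2 := card_split (fun x : Fin n => col x = 0) (fun x => col (g⁻¹ x) = 0)
    have h3 := card_split (fun x : Fin n => col (g⁻¹ x) = 0) (fun x => col x = 0)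
    have h4 := card_split (fun x : Fin n => col x = 0 ∧ ¬ col (g⁻¹ x) = 0) (fun x => col (g⁻¹ x) = 1)
    have h5 := card_split (fun x : Fin n => col (g⁻¹ x) = 0 ∧ ¬ col x = 0) (fun x => col x = 1)
    have f1 : (Finset.univ.filter fun x : Fin n => col x = 0 ∧ col (g⁻¹ x) = 0) =
        (Finset.univ.filter fun x : Fin n => col (g⁻¹ x) = 0 ∧ col x = 0) := by
      ext x; simp only [Finset.mem_filter]; tauto
    have f2 : (Finset.univ.filter fun x : Fin n => (col x = 0 ∧ ¬ col (g⁻¹ x) = 0) ∧ col (g⁻¹ x) = 1) =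
        (Finset.univ.filter fun x : Fin n => (col x, col (g⁻¹ x)) = (0, 1)) := by
      ext x; simp only [Finset.mem_filter, Prod.mk.injEq]
      constructor
      · rintro ⟨a, ⟨b, c⟩, d⟩; exact ⟨a, b, d⟩
      · rintro ⟨a, b, d⟩; exact ⟨a, ⟨b, by omega⟩, d⟩
    have f3 : (Finset.univ.filter fun x : Fin n => (col (g⁻¹ x) = 0 ∧ ¬ col x = 0) ∧ col x = 1) =
        (Finset.univ.filter fun x : Fin n => (col x, col (g⁻¹ x)) = (1, 0)) := by
      ext x; simp only [Finset.mem_filter, Prod.mk.injEq]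
      constructor
      · rintro ⟨a, ⟨b, c⟩, d⟩; exact ⟨a, d, b⟩
      · rintro ⟨a, b, d⟩; exact ⟨a, ⟨d, by omega⟩, b⟩
    have f4 : (Finset.univ.filter fun x : Fin n => (col x = 0 ∧ ¬ col (g⁻¹ x) = 0) ∧ ¬ col (g⁻¹ x) = 1).card =
        (Finset.univ.filter fun x : Fin n => (col (g⁻¹ x) = 0 ∧ ¬ col x = 0) ∧ ¬ col x = 1).card := by
      refine Finset.card_bij (fun x _ => g⁻¹ x) ?_ ?_ ?_
      · intro x hx
        rw [Finset.mem_filter] at hx ⊢
        obtain ⟨-, ⟨a, b⟩, c⟩ := hx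
        have h8 : 8 ≤ (g⁻¹ x).val := by
          rcases col_cases (g⁻¹ x) with h | h | h
          · exact absurd h b
          · exact absurd h c
          · exact h.1
        have h9 := hg (g⁻¹ x) h8
        have : g (g⁻¹ x) = x := by simp
        rw [this, a] at h9
        exact ⟨Finset.mem_univ _, ⟨h9.symm, b⟩, c⟩
      · intro x _ y _ h
        exact g⁻¹.injective h
      · intro y hy
        rw [Finset.mem_filter] at hy
        obtain ⟨-, ⟨a, b⟩, c⟩ := hy
        have h8 : 8 ≤ y.val := by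
          rcases col_cases y with h | h | h
          · exact absurd h b
          · exact absurd h c
          · exact h.1
        have h9 := hg y h8
        rw [a] at h9
        refine ⟨g y, ?_, by simp⟩
        rw [Finset.mem_filter]
        have : g⁻¹ (g y) = y := by simp
        rw [this]
        exact ⟨Finset.mem_univ _, ⟨h9, b⟩, c⟩
    rw [f1] at h2
    rw [f2] at h4
    rw [f3] at h5
    omega
  rcases h01 with ⟨rfl, rfl⟩ | ⟨rfl, rfl⟩
  · exact main
  · exact main.symm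

/-- two points of the same colors -/
theorem exists_pair (hn : 8 ≤ n) (hn' : n ≤ 11) (g : Perm (Fin n)) : ∃ k l : Fin n, k ≠ l ∧ col k = col l ∧
    col (g⁻¹ k) = col (g⁻¹ l) ∧ k.val < 8 ∧ l.val < 8 ∧ (g⁻¹ k).val < 8 ∧ (g⁻¹ l).val < 8 := by
  -- the points with small colors
  let S : Finset (Fin n) := Finset.univ.filter fun x => x.val < 8 ∧ (g⁻¹ x).val < 8
  have hS : 4 < S.card := by
    have h1 := card_split (fun x : Fin n => x.val < 8) (fun x => (g⁻¹ x).val < 8)
    have h2 : (Finset.univ.filter fun x : Fin n => x.val < 8).card = 8 := by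
      have : (Finset.univ.filter fun x : Fin n => x.val < 8) = (Finset.univ : Finset (Fin 8)).map (Fin.castLEEmb hn) := by
        ext x
        rw [Finset.mem_filter, Finset.mem_map]
        constructor
        · rintro ⟨-, h⟩
          exact ⟨⟨x.val, h⟩, Finset.mem_univ _, rfl⟩
        · rintro ⟨y, -, rfl⟩
          exact ⟨Finset.mem_univ _, y.isLt⟩
      rw [this, Finset.card_map, Finset.card_univ, Fintype.card_fin]
    have h3 : (Finset.univ.filter fun x : Fin n => x.val < 8 ∧ ¬ (g⁻¹ x).val < 8).card ≤ n - 8 := by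
      have h4 : (Finset.univ.filter fun x : Fin n => x.val < 8 ∧ ¬ (g⁻¹ x).val < 8).card ≤
          (Finset.univ.filter fun x : Fin n => ¬ x.val < 8).card := by
        refine Finset.card_le_card_of_injOn (fun x => g⁻¹ x) ?_ ?_
        · intro x hx
          rw [Finset.mem_coe, Finset.mem_filter] at hx
          rw [Finset.mem_coe, Finset.mem_filter]
          exact ⟨Finset.mem_univ _, hx.2.2⟩
        · intro x _ y _ h
          exact g⁻¹.injective h
      have h5 := card_split (fun _ : Fin n => True) (fun x => x.val < 8)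
      simp only [true_and, Finset.filter_true, Finset.card_univ, Fintype.card_fin] at h5
      omega
    show 4 < (Finset.univ.filter fun x : Fin n => x.val < 8 ∧ (g⁻¹ x).val < 8).card
    omega
  have hmap : ∀ x ∈ S, (col x, col (g⁻¹ x)) ∈ ({(0, 0), (0, 1), (1, 0), (1, 1)} : Finset (ℕ × ℕ)) := by
    intro x hx
    rw [Finset.mem_filter] at hx
    have h1 : col x = 0 ∨ col x = 1 := by
      rcases col_cases x with h | h | h
      · exact Or.inl h
      · exact Or.inr h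
      · omega
    have h2 : col (g⁻¹ x) = 0 ∨ col (g⁻¹ x) = 1 := by
      rcases col_cases (g⁻¹ x) with h | h | h
      · exact Or.inl h
      · exact Or.inr h
      · omega
    rcases h1 with h1 | h1 <;> rcases h2 with h2 | h2 <;> rw [h1, h2] <;> simp
  obtain ⟨k, hk, l, hl, hkl, h⟩ := Finset.exists_ne_map_eq_of_card_lt_of_maps_to
    (t := ({(0, 0), (0, 1), (1, 0), (1, 1)} : Finset (ℕ × ℕ))) (by simpa using hS) hmap
  rw [Finset.mem_filter] at hk hl
  rw [Prod.mk.injEq] at h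
  exact ⟨k, l, hkl, h.1, h.2, hk.2.1, hl.2.1, hk.2.2, hl.2.2⟩

end

end Cfsg.Agent.R2.T1.Nodd
end

-- part: R2/T1/Nodd/MuB
section
/-!
# S5771, NODD: the module generated by a vector fixed by `Q` is totally isotropic, `8 ≤ n ≤ 10` (helper25)

* `sym` : `B u (g u) = 0` if `col (g k) = col (g⁻¹ k)` for `k ≥ 8`;
* `zero_eight`, `zero_nine`, `zero_ten` : `B u (g u) = 0` for all `g`;
* `exists_sub` : a proper submodule.
-/

set_option autoImplicit false
set_option linter.unusedSectionVars false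
set_option maxRecDepth 100000

namespace Cfsg.Agent.R2.T1.Nodd

open Equiv Equiv.Perm Module
open Cfsg.Agent.R2.T1.Odd

universe u v

theorem col_eq_bl {n : ℕ} (x : Fin n) : col x = bl x.val := by
  unfold col bl
  by_cases h1 : x.val < 4
  · rw [if_pos h1, if_pos (by omega)]; omega
  · by_cases h2 : x.val < 8
    · rw [if_neg h1, if_pos h2, if_pos h2]; omega
    · rw [if_neg h1, if_neg h2, if_neg h2]

section
variable {n : ℕ} [NeZero n] {F : Type u} [Field F] {W : Type v} [AddCommGroup W] [Module F W]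
  {ρ : Representation F ↥(alternatingGroup (Fin n)) W} {B : W →ₗ[F] W →ₗ[F] F}

theorem triv' (hn : 8 ≤ n) (hC : CfgU ρ B) {g : ↥(alternatingGroup (Fin n))}
    (hg : ∀ i, col ((g : Perm (Fin n)) i) = col i) {u : W} (hu : u ∈ inv ρ (Tg n gQ)) : ρ g u = u :=
  triv hn hC (fun i => by rw [← col_eq_bl, ← col_eq_bl, hg]) hu

/-- swapping two points of the same color -/
theorem col_swap {α κ : Type*} [DecidableEq α] {c : α → κ} {k l : α} (h : c k = c l) (x : α) :
    c (swap k l x) = c x := by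
  rw [swap_apply_def]
  split_ifs with h1 h2
  · rw [h1, h]
  · rw [h2, h]
  · rfl

theorem zero_of_neg (hC : CfgU ρ B) {a : F} (h : a = -a) : a = 0 := by
  have h1 : (2 : F) * a = 0 := by linear_combination h
  exact (mul_eq_zero.1 h1).resolve_left hC.two

theorem sym (hn : 8 ≤ n) (hn' : n ≤ 11) (hC : CfgU ρ B) {g : ↥(alternatingGroup (Fin n))}
    (hg : ∀ k : Fin n, 8 ≤ k.val → col ((g : Perm (Fin n)) k) = col ((g : Perm (Fin n))⁻¹ k)) {u : W}
    (hu : u ∈ inv ρ (Tg n gQ)) : B u (ρ g u) = 0 := by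
  obtain ⟨π0, h0⟩ := exists_perm_comp (fun x : Fin n => (col x, col ((g : Perm (Fin n))⁻¹ x))) (Equiv.prodComm ℕ ℕ)
    (fun k => card_cells (g : Perm (Fin n)) hg k)
  have h0' : ∀ x, col (π0 x) = col ((g : Perm (Fin n))⁻¹ x) ∧ col ((g : Perm (Fin n))⁻¹ (π0 x)) = col x := fun x => by
    have h1 := h0 x
    simp only [Equiv.prodComm_apply, Prod.swap_prod_mk, Prod.mk.injEq] at h1
    exact h1
  obtain ⟨k, l, hkl, e1, e2, -⟩ := exists_pair hn hn' (g : Perm (Fin n))
  obtain ⟨π, hπ, hπs⟩ : ∃ π : Perm (Fin n), (∀ x, col (π x) = col ((g : Perm (Fin n))⁻¹ x) ∧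
      col ((g : Perm (Fin n))⁻¹ (π x)) = col x) ∧ sign π = 1 := by
    rcases Int.units_eq_one_or (sign π0) with hs | hs
    · exact ⟨π0, h0', hs⟩
    · refine ⟨swap k l * π0, fun x => ?_, ?_⟩
      · rw [Perm.mul_apply]
        have f1 := col_swap (c := fun x : Fin n => col x) e1 (π0 x)
        have f2 := col_swap (c := fun x : Fin n => col ((g : Perm (Fin n))⁻¹ x)) e2 (π0 x)
        exact ⟨f1.trans (h0' x).1, f2.trans (h0' x).2⟩
      · rw [Perm.sign_mul, hs, sign_swap hkl]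
        rfl
  let p : ↥(alternatingGroup (Fin n)) := ⟨π, mem_alternatingGroup.2 hπs⟩
  have t1 : ρ (p * g) u = u := by
    apply triv' hn hC _ hu
    intro i
    rw [Subgroup.coe_mul, Perm.mul_apply]
    have h1 := (hπ ((g : Perm (Fin n)) i)).1
    rw [show (g : Perm (Fin n))⁻¹ ((g : Perm (Fin n)) i) = i from (g : Perm (Fin n)).symm_apply_apply i] at h1
    exact h1
  have t2 : ρ (g⁻¹ * p) u = u := by
    apply triv' hn hC _ hu
    intro i
    rw [Subgroup.coe_mul, Perm.mul_apply]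
    exact (hπ i).2
  have t3 : ρ p u = ρ g u := by
    have h1 := congrArg (ρ g) t2
    rw [← ρ_mul, mul_inv_cancel_left] at h1
    exact h1
  apply zero_of_neg hC
  calc B u (ρ g u) = B (ρ p u) (ρ p (ρ g u)) := (hC.isom _ _ _).symm
    _ = B (ρ g u) u := by rw [← ρ_mul, t1, t3]
    _ = -B u (ρ g u) := hC.skew _ _

theorem swap_fin {m : ℕ} (hm : m ≤ n) {l : List (ℕ × ℕ)} (h : vl m l = true) (x : Fin n) :
    (((P n l : ↥(alternatingGroup (Fin n))) : Perm (Fin n)) x).val = ap l x.val := by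
  rw [coe_P hm h, pm_apply ((vl_iff.1 h).2.mono hm)]

/-- the colors after `s' = (04)(15)(26)(37)` -/
theorem col_s (hn : 8 ≤ n) (x : Fin n) : col (((P n ls' : ↥(alternatingGroup (Fin n))) : Perm (Fin n)) x) =
    if x.val < 8 then 1 - col x else x.val := by
  rw [col_eq_bl, col_eq_bl, swap_fin hn (by decide)]
  by_cases hi : x.val < 8
  · have key : ∀ i < 8, bl (ap ls' i) = 1 - bl i := by decide
    rw [if_pos hi, key _ hi]
  · have hi' : 8 ≤ x.val := by omega
    rw [ap_ge (m := 8) (vl_iff.1 (show vl 8 ls' = true by decide)).2 hi', if_neg hi]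
    unfold bl
    rw [if_neg hi]

theorem col_s_lt (hn : 8 ≤ n) {x : Fin n} (hx : x.val < 8) :
    col (((P n ls' : ↥(alternatingGroup (Fin n))) : Perm (Fin n)) x) = 1 - col x := by
  rw [col_s hn, if_pos hx]

theorem s_inv (hn : 8 ≤ n) : (P n ls' : ↥(alternatingGroup (Fin n)))⁻¹ = P n ls' := by
  rw [inv_eq_iff_mul_eq_one, ← P_append hn (m := 8) (by decide) (by decide), ← P_nil, P_eq_iff hn (m := 8) (by decide) (by decide)]
  decide

theorem s_fix (hn : 8 ≤ n) {x : Fin n} (hx : 8 ≤ x.val) :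
    ((P n ls' : ↥(alternatingGroup (Fin n))) : Perm (Fin n)) x = x := by
  apply Fin.ext
  rw [swap_fin hn (by decide), ap_ge (m := 8) (vl_iff.1 (show vl 8 ls' = true by decide)).2 hx]

theorem col_lt {x : Fin n} (hx : x.val < 8) : col x = 0 ∨ col x = 1 := by
  rcases col_cases x with h | h | h
  · exact Or.inl h
  · exact Or.inr h
  · omega

/-- `g` or `g s'` -/
theorem sym' (hn : 8 ≤ n) (hn' : n ≤ 11) (hC : CfgU ρ B) {g : ↥(alternatingGroup (Fin n))} {a : Fin n}
    (hg : ∀ k : Fin n, 8 ≤ k.val → k = a ∨ (g : Perm (Fin n)) k = k) {u : W}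
    (hu : u ∈ inv ρ (Tg n gQ)) : B u (ρ g u) = 0 := by
  have hinv : ∀ k : Fin n, (g : Perm (Fin n)) k = k → (g : Perm (Fin n))⁻¹ k = k := by
    intro k hk
    rw [Perm.inv_eq_iff_eq]
    exact hk.symm
  by_cases h : ∀ k : Fin n, 8 ≤ k.val → col ((g : Perm (Fin n)) k) = col ((g : Perm (Fin n))⁻¹ k)
  · exact sym hn hn' hC h hu
  have hs : B u (ρ (g * P n ls') u) = 0 := by
    apply sym hn hn' hC _ hu
    intro k hk
    have e1 : ((g * P n ls' : ↥(alternatingGroup (Fin n))) : Perm (Fin n)) k = (g : Perm (Fin n)) k := by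
      rw [Subgroup.coe_mul, Perm.mul_apply, s_fix hn hk]
    have e2 : ((g * P n ls' : ↥(alternatingGroup (Fin n))) : Perm (Fin n))⁻¹ k =
        ((P n ls' : ↥(alternatingGroup (Fin n))) : Perm (Fin n)) ((g : Perm (Fin n))⁻¹ k) := by
      rw [Subgroup.coe_mul, mul_inv_rev, Perm.mul_apply, ← Subgroup.coe_inv, s_inv hn]
    rw [e1, e2]
    rcases hg k hk with rfl | hk'
    · -- the only point
      have hmem : ∀ j : Fin n, 8 ≤ j.val → ((g : Perm (Fin n)) k = j ∨ (g : Perm (Fin n))⁻¹ k = j) → (g : Perm (Fin n)) k = k := by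
        intro j hj hjk
        rcases hg j hj with rfl | hj'
        · rcases hjk with h1 | h1
          · exact h1
          · rw [Perm.inv_eq_iff_eq] at h1; exact h1.symm
        · rcases hjk with h1 | h1
          · have h2 := (g : Perm (Fin n)).injective (h1.trans hj'.symm)
            rw [h2]; exact hj'
          · rw [Perm.inv_eq_iff_eq] at h1
            rw [hj'] at h1
            rw [h1]; exact hj'
      by_cases hfix : (g : Perm (Fin n)) k = k
      · exfalso
        apply h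
        intro j hj
        rcases hg j hj with rfl | hj'
        · rw [hfix, hinv _ hfix]
        · rw [hj', hinv _ hj']
      have l1 : ((g : Perm (Fin n)) k).val < 8 := by
        by_contra hcon
        exact hfix (hmem _ (by omega) (Or.inl rfl))
      have l2 : ((g : Perm (Fin n))⁻¹ k).val < 8 := by
        by_contra hcon
        exact hfix (hmem _ (by omega) (Or.inr rfl))
      rw [col_s_lt hn l2]
      have hne : col ((g : Perm (Fin n)) k) ≠ col ((g : Perm (Fin n))⁻¹ k) := by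
        intro hcon
        apply h
        intro j hj
        rcases hg j hj with rfl | hj'
        · exact hcon
        · rw [hj', hinv _ hj']
      rcases col_lt l1 with h1 | h1 <;> rcases col_lt l2 with h2 | h2 <;> rw [h1, h2] at hne ⊢ <;> omega
    · rw [hk', hinv _ hk', s_fix hn hk]
  rw [ρ_mul, swap_neg hn hC hu, map_neg, map_neg, neg_eq_zero] at hs
  exact hs

theorem zero_nine (hn : 8 ≤ n) (hn' : n ≤ 9) (hC : CfgU ρ B) (g : ↥(alternatingGroup (Fin n))) {u : W}
    (hu : u ∈ inv ρ (Tg n gQ)) : B u (ρ g u) = 0 := by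
  by_cases h8 : 8 < n
  · refine sym' hn (by omega) hC (a := ⟨8, h8⟩) (fun k hk => Or.inl (Fin.ext ?_)) hu
    have := k.isLt
    show k.val = 8
    omega
  · refine sym' hn (by omega) hC (a := ⟨0, by omega⟩) (fun k hk => ?_) hu
    exact absurd k.isLt (by omega)

end

end Cfsg.Agent.R2.T1.Nodd
end
end

-- part: R2/T1/Nodd/MuC
section
set_option linter.all false
open scoped Cfsg.Agent.FastGrp

/-!
# S5771, NODD: the module generated by a vector fixed by `Q` is totally isotropic, `n = 10` (helper25)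
-/

set_option autoImplicit false
set_option linter.unusedSectionVars false
set_option maxRecDepth 100000

namespace Cfsg.Agent.R2.T1.Nodd

open Equiv Equiv.Perm Module
open Cfsg.Agent.R2.T1.Odd

universe u v

/-- `(89)(01)` -/
def lD : List (ℕ × ℕ) := [(0, 1), (8, 9)]

section
variable {n : ℕ} [NeZero n] {F : Type u} [Field F] {W : Type v} [AddCommGroup W] [Module F W]
  {ρ : Representation F ↥(alternatingGroup (Fin n)) W} {B : W →ₗ[F] W →ₗ[F] F}

theorem tau_val (hn : 10 ≤ n) (x : Fin n) :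
    (((P n lD : ↥(alternatingGroup (Fin n))) : Perm (Fin n)) x).val = ap lD x.val :=
  swap_fin (m := 10) hn (by decide) x

theorem tau_col (hn : 10 ≤ n) {x : Fin n} (hx : x.val < 8) :
    col (((P n lD : ↥(alternatingGroup (Fin n))) : Perm (Fin n)) x) = col x := by
  rw [col_eq_bl, col_eq_bl, tau_val hn]
  have key : ∀ i < 8, bl (ap lD i) = bl i := by decide
  exact key _ hx

theorem tau_inv (hn : 10 ≤ n) : (P n lD : ↥(alternatingGroup (Fin n)))⁻¹ = P n lD := by
  rw [inv_eq_iff_mul_eq_one, ← P_append hn (m := 10) (by decide) (by decide), ← P_nil, P_eq_iff hn (m := 10) (by decide) (by decide)]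
  decide

theorem tauL8 (hn : 10 ≤ n) : ((P n lD : ↥(alternatingGroup (Fin n))) : Perm (Fin n)) ⟨8, by omega⟩ = ⟨9, by omega⟩ := by
  apply Fin.ext
  rw [tau_val hn]
  show ap lD 8 = 9
  decide

theorem tau9 (hn : 10 ≤ n) : ((P n lD : ↥(alternatingGroup (Fin n))) : Perm (Fin n)) ⟨9, by omega⟩ = ⟨8, by omega⟩ := by
  apply Fin.ext
  rw [tau_val hn]
  show ap lD 9 = 8
  decide

/-- the elements acting as `-1` -/
theorem tauL_neg (hn : 10 ≤ n) (hn' : n ≤ 10) (hC : CfgU ρ B) (hd : ∀ u ∈ inv ρ (Tg n gQ), ρ (P n lD) u = -u)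
    {g : ↥(alternatingGroup (Fin n))} (h8 : (g : Perm (Fin n)) ⟨8, by omega⟩ = ⟨9, by omega⟩)
    (h9 : (g : Perm (Fin n)) ⟨9, by omega⟩ = ⟨8, by omega⟩) (hx : ∀ x : Fin n, x.val < 8 → col ((g : Perm (Fin n)) x) = col x)
    {u : W} (hu : u ∈ inv ρ (Tg n gQ)) : ρ g u = -u := by
  have h1 : ρ (P n lD * g) u = u := by
    apply triv' (by omega) hC _ hu
    intro i
    rw [Subgroup.coe_mul, Perm.mul_apply]
    have hi : i.val < 8 ∨ i = ⟨8, by omega⟩ ∨ i = ⟨9, by omega⟩ := by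
      have := i.isLt
      rcases (by omega : i.val < 8 ∨ i.val = 8 ∨ i.val = 9) with h | h | h
      · exact Or.inl h
      · exact Or.inr (Or.inl (Fin.ext h))
      · exact Or.inr (Or.inr (Fin.ext h))
    rcases hi with h | h | h
    · have h2 : ((g : Perm (Fin n)) i).val < 8 := by
        have h3 := hx i h
        rcases col_cases ((g : Perm (Fin n)) i) with h4 | h4 | h4
        · exact (col_zero.1 h4).trans (by norm_num)
        · exact (col_one.1 h4).2
        · exfalso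
          rcases col_lt h with h5 | h5 <;> omega
      rw [tau_col hn h2, hx i h]
    · rw [h, h8, tau9 hn]
    · rw [h, h9, tauL8 hn]
  have h2 := congrArg (ρ (P n lD)⁻¹) h1
  have h3 : ρ (P n lD)⁻¹ (ρ (P n lD) (ρ g u)) = ρ g u := Odd.ρ_inv _ _
  rw [ρ_mul, h3, tau_inv hn, hd u hu] at h2
  exact h2

theorem zero_tau (hn : 10 ≤ n) (hd : ∀ u ∈ inv ρ (Tg n gQ), ρ (P n lD) u = -u) {g : ↥(alternatingGroup (Fin n))} {u : W}
    (hu : u ∈ inv ρ (Tg n gQ)) (h : B u (ρ (g * P n lD) u) = 0) : B u (ρ g u) = 0 := by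
  rw [ρ_mul, hd u hu, map_neg, map_neg, neg_eq_zero] at h
  exact h

/-- the case of equal colors -/
theorem eq_col (hn : 10 ≤ n) (hn' : n ≤ 10) (hC : CfgU ρ B) (hd : ∀ u ∈ inv ρ (Tg n gQ), ρ (P n lD) u = -u)
    {g : ↥(alternatingGroup (Fin n))}
    (hpq : col ((g : Perm (Fin n)) ⟨8, by omega⟩) = col ((g : Perm (Fin n)) ⟨9, by omega⟩))
    {u : W} (hu : u ∈ inv ρ (Tg n gQ)) : B u (ρ g u) = 0 := by
  obtain ⟨k, l, hkl, e1, e2, -, -, e5, e6⟩ := exists_pair (by omega) (by omega) (g : Perm (Fin n))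
  set a8 : Fin n := ⟨8, by omega⟩ with ha8
  set a9 : Fin n := ⟨9, by omega⟩ with ha9
  have hgi : ∀ x, (g : Perm (Fin n))⁻¹ ((g : Perm (Fin n)) x) = x := fun x => (g : Perm (Fin n)).symm_apply_apply x
  have h89 : (g : Perm (Fin n)) a8 ≠ (g : Perm (Fin n)) a9 := by
    intro h
    have h1 := congrArg Fin.val ((g : Perm (Fin n)).injective h)
    exact absurd h1 (by norm_num)
  have hne : ∀ {x y : Fin n}, ((g : Perm (Fin n))⁻¹ x).val < 8 → 8 ≤ y.val → (g : Perm (Fin n)) y ≠ x := by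
    intro x y hx hy h
    rw [← h, hgi] at hx
    omega
  have hνs : sign (swap ((g : Perm (Fin n)) a8) ((g : Perm (Fin n)) a9) * swap k l) = 1 := by
    rw [Perm.sign_mul, sign_swap h89, sign_swap hkl]
    rfl
  let ν : ↥(alternatingGroup (Fin n)) := ⟨_, mem_alternatingGroup.2 hνs⟩
  have hν : ∀ x, (ν : Perm (Fin n)) x = swap ((g : Perm (Fin n)) a8) ((g : Perm (Fin n)) a9) (swap k l x) := fun x => rfl
  have t1 : ρ ν u = u := by
    apply triv' (by omega) hC _ hu
    intro i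
    rw [hν]
    exact (col_swap (c := fun x : Fin n => col x) hpq _).trans (col_swap (c := fun x : Fin n => col x) e1 _)
  have t2 : ρ (g⁻¹ * ν * g) u = -u := by
    have hco : ∀ x, ((g⁻¹ * ν * g : ↥(alternatingGroup (Fin n))) : Perm (Fin n)) x =
        (g : Perm (Fin n))⁻¹ (swap ((g : Perm (Fin n)) a8) ((g : Perm (Fin n)) a9) (swap k l ((g : Perm (Fin n)) x))) := by
      intro x
      rfl
    apply tauL_neg hn hn' hC hd _ _ _ hu
    · rw [hco, swap_apply_of_ne_of_ne (hne e5 (by norm_num)) (hne e6 (by norm_num)), swap_apply_left, hgi]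
    · rw [hco, swap_apply_of_ne_of_ne (hne e5 (by norm_num)) (hne e6 (by norm_num)), swap_apply_right, hgi]
    · intro x hx
      rw [hco]
      have f1 := col_swap (c := fun x : Fin n => min (col ((g : Perm (Fin n))⁻¹ x)) 8) (k := (g : Perm (Fin n)) a8)
        (l := (g : Perm (Fin n)) a9) (by
          show min (col ((g : Perm (Fin n))⁻¹ ((g : Perm (Fin n)) a8))) 8 = min (col ((g : Perm (Fin n))⁻¹ ((g : Perm (Fin n)) a9))) 8
          rw [hgi, hgi, (col_ge (x := a8) (k := 8) le_rfl).2 rfl, (col_ge (x := a9) (k := 9) (by norm_num)).2 rfl]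
          rfl) (swap k l ((g : Perm (Fin n)) x))
      have f2 := col_swap (c := fun x : Fin n => min (col ((g : Perm (Fin n))⁻¹ x)) 8) (k := k) (l := l) (by
          show min (col ((g : Perm (Fin n))⁻¹ k)) 8 = min (col ((g : Perm (Fin n))⁻¹ l)) 8
          rw [e2]) ((g : Perm (Fin n)) x)
      have f3 := f1.trans f2
      simp only [hgi] at f3
      rcases col_lt hx with h | h
      · rw [h] at f3 ⊢
        omega
      · rw [h] at f3 ⊢
        omega
  apply zero_of_neg hC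
  calc B u (ρ g u) = B (ρ ν u) (ρ ν (ρ g u)) := (hC.isom _ _ _).symm
    _ = B u (ρ g (ρ (g⁻¹ * ν * g) u)) := by
      rw [t1, ← ρ_mul, ← ρ_mul]
      congr 3
      group
    _ = -B u (ρ g u) := by rw [t2, map_neg, map_neg]

theorem zero_ten (hn : 10 ≤ n) (hn' : n ≤ 10) (hC : CfgU ρ B) (hd : ∀ u ∈ inv ρ (Tg n gQ), ρ (P n lD) u = -u)
    (g : ↥(alternatingGroup (Fin n))) {u : W} (hu : u ∈ inv ρ (Tg n gQ)) : B u (ρ g u) = 0 := by
  set a8 : Fin n := ⟨8, by omega⟩ with ha8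
  set a9 : Fin n := ⟨9, by omega⟩ with ha9
  have hpt : ∀ i : Fin n, 8 ≤ i.val → i = a8 ∨ i = a9 := by
    intro i hi
    have := i.isLt
    rcases (by omega : i.val = 8 ∨ i.val = 9) with h | h
    · exact Or.inl (Fin.ext h)
    · exact Or.inr (Fin.ext h)
  have c1 : ∀ g : ↥(alternatingGroup (Fin n)), (g : Perm (Fin n)) a8 = a8 → B u (ρ g u) = 0 := by
    intro g hg
    refine sym' (by omega) (by omega) hC (a := a9) (fun k hk => ?_) hu
    rcases hpt k hk with h | h
    · exact Or.inr (by rw [h]; exact hg)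
    · exact Or.inl h
  have c2 : ∀ g : ↥(alternatingGroup (Fin n)), (g : Perm (Fin n)) a9 = a9 → B u (ρ g u) = 0 := by
    intro g hg
    refine sym' (by omega) (by omega) hC (a := a8) (fun k hk => ?_) hu
    rcases hpt k hk with h | h
    · exact Or.inl h
    · exact Or.inr (by rw [h]; exact hg)
  have hτ : ∀ x, ((g * P n lD : ↥(alternatingGroup (Fin n))) : Perm (Fin n)) x =
      (g : Perm (Fin n)) (((P n lD : ↥(alternatingGroup (Fin n))) : Perm (Fin n)) x) := fun x => rfl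
  have hτi : ∀ x, ((g * P n lD : ↥(alternatingGroup (Fin n))) : Perm (Fin n))⁻¹ x =
      ((P n lD : ↥(alternatingGroup (Fin n))) : Perm (Fin n)) ((g : Perm (Fin n))⁻¹ x) := by
    intro x
    rw [Subgroup.coe_mul, mul_inv_rev, Perm.mul_apply, ← Subgroup.coe_inv, tau_inv hn]
  by_cases h1 : (g : Perm (Fin n)) a8 = a8
  · exact c1 g h1
  by_cases h2 : (g : Perm (Fin n)) a9 = a9
  · exact c2 g h2
  by_cases h3 : (g : Perm (Fin n)) a8 = a9
  · exact zero_tau hn hd hu (c2 _ (by rw [hτ, ha9, tau9 hn]; exact h3))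
  by_cases h4 : (g : Perm (Fin n)) a9 = a8
  · exact zero_tau hn hd hu (c1 _ (by rw [hτ, ha8, tauL8 hn]; exact h4))
  have l1 : ((g : Perm (Fin n)) a8).val < 8 := by
    by_contra hcon
    rcases hpt _ (not_lt.1 hcon) with h | h
    · exact h1 h
    · exact h3 h
  have l2 : ((g : Perm (Fin n)) a9).val < 8 := by
    by_contra hcon
    rcases hpt _ (not_lt.1 hcon) with h | h
    · exact h4 h
    · exact h2 h
  have l3 : ((g : Perm (Fin n))⁻¹ a8).val < 8 := by
    by_contra hcon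
    rcases hpt _ (not_lt.1 hcon) with h | h
    · rw [Perm.inv_eq_iff_eq] at h; exact h1 h.symm
    · rw [Perm.inv_eq_iff_eq] at h; exact h4 h.symm
  have l4 : ((g : Perm (Fin n))⁻¹ a9).val < 8 := by
    by_contra hcon
    rcases hpt _ (not_lt.1 hcon) with h | h
    · rw [Perm.inv_eq_iff_eq] at h; exact h3 h.symm
    · rw [Perm.inv_eq_iff_eq] at h; exact h2 h.symm
  by_cases h5 : col ((g : Perm (Fin n)) a8) = col ((g : Perm (Fin n)) a9)
  · exact eq_col hn hn' hC hd h5 hu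
  by_cases h6 : col ((g : Perm (Fin n))⁻¹ a8) = col ((g : Perm (Fin n))⁻¹ a9)
  · have h7 : B u (ρ g⁻¹ u) = 0 := eq_col hn hn' hC hd (g := g⁻¹) h6 hu
    have h8 : B (ρ g u) (ρ g (ρ g⁻¹ u)) = 0 := (hC.isom _ _ _).trans h7
    have h9 : ρ g (ρ g⁻¹ u) = u := Odd.ρ_inv' _ _
    rw [h9, hC.skew, neg_eq_zero] at h8
    exact h8
  by_cases h7 : col ((g : Perm (Fin n)) a8) = col ((g : Perm (Fin n))⁻¹ a8)
  · apply sym (by omega) (by omega) hC _ hu
    intro k hk
    rcases hpt k hk with h | h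
    · rw [h, h7]
    · rw [h]
      rcases col_lt l1 with e1 | e1 <;> rcases col_lt l2 with e2 | e2 <;> rcases col_lt l3 with e3 | e3 <;>
        rcases col_lt l4 with e4 | e4 <;> omega
  · apply zero_tau hn hd hu
    apply sym (by omega) (by omega) hC _ hu
    intro k hk
    rcases hpt k hk with h | h
    · rw [h, hτ, hτi, tau_col hn l3, ha8, tauL8 hn]
      show col ((g : Perm (Fin n)) a9) = col ((g : Perm (Fin n))⁻¹ a8)
      rcases col_lt l1 with e1 | e1 <;> rcases col_lt l2 with e2 | e2 <;> rcases col_lt l3 with e3 | e3 <;>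
        rcases col_lt l4 with e4 | e4 <;> omega
    · rw [h, hτ, hτi, tau_col hn l4, ha9, tau9 hn]
      show col ((g : Perm (Fin n)) a8) = col ((g : Perm (Fin n))⁻¹ a9)
      rcases col_lt l1 with e1 | e1 <;> rcases col_lt l2 with e2 | e2 <;> rcases col_lt l3 with e3 | e3 <;>
        rcases col_lt l4 with e4 | e4 <;> omega

/-- **a proper submodule** -/
theorem exists_sub (hC : CfgU ρ B) (h : ∀ g : ↥(alternatingGroup (Fin n)), ∀ u ∈ inv ρ (Tg n gQ), B u (ρ g u) = 0) :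
    ∃ M : Submodule F W, M ≠ ⊥ ∧ M ≠ ⊤ ∧ ∀ a, ∀ w ∈ M, ρ a w ∈ M := by
  obtain ⟨u, hu, hu0⟩ : ∃ u ∈ inv ρ (Tg n gQ), u ≠ 0 := by
    have h1 : inv ρ (Tg n gQ) ≠ ⊥ := by
      intro h2
      have h3 := hC.dim
      rw [h2, finrank_bot] at h3
      exact absurd h3 (by norm_num)
    exact Submodule.exists_mem_ne_zero_of_ne_bot h1
  refine ⟨Submodule.span F (Set.range fun g => ρ g u), ?_, ?_, ?_⟩
  · intro h1
    have h2 : u ∈ Submodule.span F (Set.range fun g => ρ g u) := Submodule.subset_span ⟨1, ρ_one u⟩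
    rw [h1, Submodule.mem_bot] at h2
    exact hu0 h2
  · intro h1
    apply hu0
    apply hC.nd
    intro y
    have h2 : y ∈ Submodule.span F (Set.range fun g => ρ g u) := by rw [h1]; trivial
    induction h2 using Submodule.span_induction with
    | mem x hx =>
      obtain ⟨g, rfl⟩ := hx
      exact h g u hu
    | zero => rw [map_zero]
    | add x y _ _ hx hy => rw [map_add, hx, hy, add_zero]
    | smul c x _ hx => rw [map_smul, hx, smul_zero]
  · intro a w hw
    induction hw using Submodule.span_induction with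
    | mem x hx =>
      obtain ⟨g, rfl⟩ := hx
      exact Submodule.subset_span ⟨a * g, ρ_mul a g u⟩
    | zero => rw [map_zero]; exact zero_mem _
    | add x y _ _ hx hy => rw [map_add]; exact add_mem hx hy
    | smul c x _ hx => rw [map_smul]; exact Submodule.smul_mem _ c hx

end

end Cfsg.Agent.R2.T1.Nodd
end

-- part: R2/T1/Nodd/MuD
section
prune_inst 0x10000000000000
set_option linter.all false
open scoped Cfsg.Agent.FastGrp

-- part: R2/T1/Nodd/TabD
section
/-!
# S5771, NODD: the table of `Q⟨(89)(01)⟩` in `A_10` (helper25)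
-/

set_option autoImplicit false
set_option maxRecDepth 100000

namespace Cfsg.Agent.R2.T1.Nodd

open Cfsg.Agent.R2.T1.Odd

/-- representatives of the classes: `1`, `2²`, `2⁴`, `42`, `42³` -/
def rD : List (List (ℕ × ℕ)) :=
  [[], [(0, 1), (2, 3)], [(0, 1), (2, 3), (4, 5), (6, 7)], [(0, 1), (1, 2), (2, 3), (4, 5)], [(0, 1), (1, 2), (2,
   3), (4, 5), (6, 7), (8, 9)]]

def gQD : List (List (ℕ × ℕ)) :=
  [[(0, 1), (2, 3)], [(0, 2), (1, 3)], [(4, 5), (6, 7)], [(4, 6), (5, 7)], [(0, 1), (8, 9)]]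

def eQD : List (List ℕ) :=
  [[], [0], [1], [2], [3], [4], [1, 0], [1, 4], [2, 0], [2, 1], [3, 0], [3, 1], [3, 2], [4, 0], [4, 1], [4, 2],
   [4, 3], [1, 4, 2], [1, 4, 3], [2, 1, 0], [3, 1, 0], [3, 2, 0], [3, 2, 1], [4, 2, 0], [4, 2, 1], [4, 3, 0], [4,
   3, 1], [4, 3, 2], [1, 4, 3, 2], [3, 2, 1, 0], [4, 3, 2, 0], [4, 3, 2, 1]]

def dQD : List (ℕ × List (ℕ × ℕ)) :=
  [(0, []), (1, []), (1, [(0, 2), (2, 1)]), (1, [(0, 4), (1, 5), (2, 6), (3, 7)]), (1, [(0, 6), (6, 2), (2, 5),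
   (5, 1), (1, 4), (3, 7)]), (1, [(2, 8), (8, 6), (6, 4), (3, 9), (9, 7), (7, 5)]), (1, [(1, 3), (3, 2)]), (3,
   [(1, 3), (3, 2), (4, 8), (8, 6), (5, 9), (9, 7)]), (2, []), (2, [(0, 2), (2, 1)]), (2, [(0, 1), (5, 6)]), (2,
   [(1, 2), (5, 6)]), (1, [(0, 4), (1, 7), (7, 3), (3, 6), (6, 2), (2, 5)]), (1, [(0, 2), (2, 8), (8, 6), (6, 4),
   (1, 3), (3, 9), (9, 7), (7, 5)]), (3, [(1, 2), (4, 9), (9, 7), (7, 5), (5, 8), (8, 6)]), (2, [(2, 4), (4, 6),
   (6, 8), (3, 5), (5, 7), (7, 9)]), (2, [(0, 1), (2, 4), (4, 5), (5, 7), (7, 9), (9, 3), (3, 6), (6, 8)]), (4,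
   [(1, 3), (3, 2)]), (4, [(1, 3), (3, 2), (4, 6), (6, 5)]), (2, [(1, 3), (3, 2)]), (2, [(0, 3), (3, 2), (2, 1),
   (5, 6)]), (2, [(5, 7), (7, 6)]), (2, [(0, 2), (2, 1), (5, 7), (7, 6)]), (2, [(0, 2), (2, 4), (4, 6), (6, 8),
   (1, 3), (3, 5), (5, 7), (7, 9)]), (4, [(1, 2), (4, 5)]), (2, [(0, 3), (3, 6), (6, 8), (1, 2), (2, 4), (4, 5),
   (5, 7), (7, 9)]), (4, [(1, 2), (5, 6)]), (2, [(2, 4), (4, 5), (5, 6), (6, 8), (3, 7), (7, 9)]), (4, [(1, 3),
   (3, 2), (5, 7), (7, 6)]), (2, [(1, 3), (3, 2), (5, 7), (7, 6)]), (2, [(0, 2), (2, 4), (4, 5), (5, 6), (6, 8),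
   (1, 3), (3, 7), (7, 9)]), (4, [(1, 2), (4, 7), (7, 6), (6, 5)])]

theorem chkG_QD : chkG 10 gQD eQD = true := by decide +kernel
theorem chkC_QD : chkC 10 gQD eQD [] rD dQD = true := by decide +kernel
theorem len_QD : eQD.length = 32 := by decide +kernel
theorem cnt_QD : (List.range 5).map (fun k => (dQD.map Prod.fst).count k) = [1, 8, 15, 2, 6] := by decide +kernel

end Cfsg.Agent.R2.T1.Nodd
end

-- part: R2/T1/Nodd/MuD
section
/-!
# S5771, NODD: reducibility of `A_n` on the 56-dimensional module, `8 ≤ n ≤ 10`, odd characteristic (helper25)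

* `delta` : `(89)(01)` acts as `-1` on `V^Q`;
* `exists_sub10` : a proper submodule.
-/

set_option autoImplicit false
set_option maxRecDepth 100000

namespace Cfsg.Agent.R2.T1.Nodd

open Cfsg Cfsg.Lie Module Equiv Equiv.Perm
open Cfsg.Agent.H943.E7V.Block (D1 rho)
open Cfsg.Agent.H952.F4 (ev es)
open Cfsg.Agent.R2.T1 Cfsg.Agent.R2.T1.Art Cfsg.Agent.R2.T1.Odd

universe u

/-- the elements of type `42³` -/
def l4222 : List (ℕ × ℕ) := [(0, 1), (1, 2), (2, 3), (4, 5), (6, 7), (8, 9)]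

theorem rD_eq : rD = [[], lt, ls, l42, l4222] := by decide

theorem gQ_le_gQD {n : ℕ} [NeZero n] : Tg n gQ ≤ Tg n gQD := by
  unfold Tg
  refine Subgroup.closure_mono ?_
  rintro x ⟨g, hg, rfl⟩
  refine ⟨g, ?_, rfl⟩
  revert g
  decide

section
variable {n : ℕ} [NeZero n] {F : Type u} [Field F] [Finite F] (h2 : (2 : F) ≠ 0)
  {ψ : ↥(alternatingGroup (Fin n)) →* Gh F} (hψ : ∀ a, ad F (ψ a) = 1 → a = 1)
include h2 hψ

theorem dim_QD (hn : 10 ≤ n) : finrank F ↥(inv (MonoidHom.comp (V F) ψ : Representation F ↥(alternatingGroup (Fin n)) (D1 → F)) (Tg n gQD)) = 0 := by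
  have hn8 : 8 ≤ n := by omega
  set ρ : Representation F ↥(alternatingGroup (Fin n)) (D1 → F) := MonoidHom.comp (V F) ψ with hρ
  obtain ⟨tt, ts, t42, -, tQ, -⟩ := types hn8 h2 hψ
  have tt' : ev (ρ (P n lt)) 1 = 32 := tt
  have ts' : ev (ρ (P n ls)) 1 = 24 := ts
  have t42' : ev (ρ (P n l42)) 1 = 16 := t42
  have tQ' : finrank F ↥(inv ρ (Tg n gQ)) = 2 := tQ
  have o0 : om ρ 1 = 56 := by rw [om_one, finrank_V]; norm_num
  have ot : om ρ (P n lt) = 8 := by
    rw [om_prime ρ Nat.prime_two (orderOf_P hn8 (by decide +kernel)), finrank_V, tt']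
    norm_num
  have os : om ρ (P n ls) = -8 := by
    rw [om_prime ρ Nat.prime_two (orderOf_P hn8 (by decide +kernel)), finrank_V, ts']
    norm_num
  have o42 : om ρ (P n l42) = 0 := by
    rw [om_four ρ (orderOf_P hn8 (by decide +kernel)), ← P_pwl hn8 (m := 8) (by decide),
      ev_P_conj hn8 ρ (x := pwl l42 2) (c := [(1, 2), (4, 5)]) (r := lt) (by decide) (by decide) (by decide) (by decide),
      tt', t42']
    norm_num
  have o4222 : om ρ (P n l4222) = 2 * (ev (ρ (P n l4222)) 1 : ℚ) - 32 := by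
    rw [om_four ρ (orderOf_P hn (by decide +kernel)), ← P_pwl hn (m := 10) (by decide),
      ev_conj' hn ρ (x := pwl l4222 2) (c := [(1, 2), (4, 5)]) (r := lt) (by decide) (by decide) (by decide) (by decide),
      tt']
    norm_num
  have hD : 32 * (finrank F ↥(inv ρ (Tg n gQD)) : ℚ) = om ρ 1 + 8 * om ρ (P n lt) + 15 * om ρ (P n ls) +
      2 * om ρ (P n l42) + 6 * om ρ (P n l4222) := by
    have h := dimC hn chkG_QD chkC_QD len_QD (K := 5) rfl (by simpa using two_pow_ne h2 5) cnt_QD ρ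
    simp only [rD_eq, Finset.sum_range_succ, Finset.sum_range_zero, List.getD_cons_zero, List.getD_cons_succ, P_nil] at h
    push_cast at h
    linear_combination h
  have hle : finrank F ↥(inv ρ (Tg n gQD)) ≤ finrank F ↥(inv ρ (Tg n gQ)) := Submodule.finrank_mono (inv_mono gQ_le_gQD)
  rw [tQ'] at hle
  rw [o0, ot, os, o42, o4222] at hD
  generalize finrank F ↥(inv ρ (Tg n gQD)) = a at *
  generalize ev (ρ (P n l4222)) 1 = b at *
  have hD' : 8 * (a : ℤ) = 3 * b - 48 := by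
    have : 8 * (a : ℚ) = 3 * b - 48 := by linarith
    exact_mod_cast this
  omega

/-- `(89)(01)` acts as `-1` -/
theorem delta (hn : 10 ≤ n) : ∀ u ∈ inv (MonoidHom.comp (V F) ψ : Representation F ↥(alternatingGroup (Fin n)) (D1 → F)) (Tg n gQ),
    (MonoidHom.comp (V F) ψ : Representation F ↥(alternatingGroup (Fin n)) (D1 → F)) (P n lD) u = -u := by
  set ρ : Representation F ↥(alternatingGroup (Fin n)) (D1 → F) := MonoidHom.comp (V F) ψ with hρ
  have h0 : inv ρ (Tg n gQD) = ⊥ := Submodule.finrank_eq_zero.1 (dim_QD h2 hψ hn)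
  intro u hu
  have hnrm : ∀ g ∈ gQ, ∃ w ∈ eQ, cd 10 (g ++ lD) = cd 10 (lD ++ wd gQ w) := by decide +kernel
  have hvQ : gQ.all (vl 10) = true := by decide
  have h1 : ∀ g ∈ gQ, ρ (P n g) (ρ (P n lD) u) = ρ (P n lD) u := by
    intro g hg
    obtain ⟨w, hw, h3⟩ := hnrm g hg
    have hg' : vl 10 g = true := List.all_eq_true.1 hvQ g hg
    have hvD : vl 10 lD = true := by decide
    have h4 := (P_eq_iff hn (vl_append hg' hvD) (vl_append hvD (vl_wd hvQ w))).2 h3
    rw [P_append hn hg' hvD, P_append hn hvD (vl_wd hvQ w)] at h4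
    rw [← Odd.ρ_mul, h4, Odd.ρ_mul, hu _ (P_wd_mem hn hvQ w)]
  have h5 : u + ρ (P n lD) u ∈ inv ρ (Tg n gQD) := by
    rw [mem_U]
    intro g hg
    have h6 : g ∈ gQ ∨ g = lD := by revert g; decide
    rw [map_add]
    rcases h6 with h6 | rfl
    · rw [mem_U] at hu
      rw [hu g h6, h1 g h6]
    · rw [← Odd.ρ_mul, ← pow_two, P_pow_one hn (m := 10) (by decide) (by decide), Odd.ρ_one, add_comm]
  rw [h0, Submodule.mem_bot] at h5
  exact (neg_eq_of_add_eq_zero_right h5).symm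

/-- **a proper submodule, `8 ≤ n ≤ 10`** -/
theorem exists_sub10 (hn : 8 ≤ n) (hn' : n ≤ 10) : ∃ M : Submodule F (D1 → F), M ≠ ⊥ ∧ M ≠ ⊤ ∧
    ∀ a, ∀ w ∈ M, V F (ψ a) w ∈ M := by
  have hC := cfgU h2 hn hψ
  apply exists_sub hC
  intro g u hu
  by_cases h9 : n ≤ 9
  · exact zero_nine hn h9 hC g hu
  · exact zero_ten (by omega) hn' hC (delta h2 hψ (by omega)) g hu

end

end Cfsg.Agent.R2.T1.Nodd
end
end

-- part: R2/T1/Nodd/Fin
section
prune_inst 0x4d5603d444540020000000586110020402c000000004b8800814009040108c4420002ae4038200312102804002009006811000030424000000e00040000010120908050063200a10466009f800880000000000000000000000000000000010004000000000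
set_option linter.all false
open scoped Cfsg.Agent.FastGrp

-- part: R2/T1/Nodd/Red
section
/-!
# S5771, S5929: `A_n` is irreducible on the 56-dimensional module if the 3-cycles have 32 eigenvalues 1 (helper25)

* `alg ψ` : the algebra generated by `ψ(A_n)`; `JJ ψ` : the elements of `Gh F` in `alg ψ`;
* `JJ_le` : if `A_n` has a proper submodule then `ad (JJ ψ) ≤ H`;
* `no_red` : if `A_n` has a proper submodule then `ev (V F (ψ c)) 1 ≠ 32` for the 3-cycles `c` (`q ≠ 2, 4`, `p ≠ 3`).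
-/

set_option autoImplicit false
set_option maxRecDepth 100000

namespace Cfsg.Agent.R2.T1.Nodd

open Cfsg Cfsg.Lie Module Equiv Equiv.Perm
open Cfsg.Agent.H943.E7V.Block (D1 rho)
open Cfsg.Agent.H952.F4 (ev es MaxAlt)
open Cfsg.Agent.R2.T1

universe u

section
variable {F : Type u} [Field F] {n : ℕ}

/-- the algebra generated by `ψ(A_n)` -/
noncomputable def alg (ψ : ↥(alternatingGroup (Fin n)) →* Gh F) : Subalgebra F (Module.End F (D1 → F)) :=
  Algebra.adjoin F (Set.range fun a => V F (ψ a))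

theorem alg_mem (ψ : ↥(alternatingGroup (Fin n)) →* Gh F) (a : ↥(alternatingGroup (Fin n))) : V F (ψ a) ∈ alg ψ :=
  Algebra.subset_adjoin ⟨a, rfl⟩

theorem alg_stab {ψ : ↥(alternatingGroup (Fin n)) →* Gh F} {M : Submodule F (D1 → F)}
    (hst : ∀ a, ∀ w ∈ M, V F (ψ a) w ∈ M) {T : Module.End F (D1 → F)} (hT : T ∈ alg ψ) : ∀ w ∈ M, T w ∈ M := by
  unfold alg at hT
  induction hT using Algebra.adjoin_induction with
  | mem x hx =>
    obtain ⟨a, rfl⟩ := hx
    exact hst a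
  | algebraMap r =>
    intro w hw
    exact M.smul_mem r hw
  | add x y _ _ hx hy => exact fun w hw => add_mem (hx w hw) (hy w hw)
  | mul x y _ _ hx hy => exact fun w hw => hx _ (hy w hw)

/-- the elements of `Gh F` in the algebra -/
noncomputable def JJ (ψ : ↥(alternatingGroup (Fin n)) →* Gh F) : Subgroup (Gh F) where
  carrier := {g | V F g ∈ alg ψ ∧ V F g⁻¹ ∈ alg ψ}
  one_mem' := by
    rw [Set.mem_ofPred_eq, inv_one, map_one]
    exact ⟨one_mem _, one_mem _⟩
  mul_mem' := by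
    rintro a b ⟨ha, ha'⟩ ⟨hb, hb'⟩
    rw [Set.mem_ofPred_eq, mul_inv_rev, map_mul, map_mul]
    exact ⟨mul_mem ha hb, mul_mem hb' ha'⟩
  inv_mem' := by
    rintro a ⟨ha, ha'⟩
    rw [Set.mem_ofPred_eq, inv_inv]
    exact ⟨ha', ha⟩

theorem mem_JJ_of {ψ : ↥(alternatingGroup (Fin n)) →* Gh F} {g : Gh F} {k : ℕ} (hk : g ^ (k + 1) = 1) (hg : V F g ∈ alg ψ) :
    g ∈ JJ ψ := by
  refine ⟨hg, ?_⟩
  have h1 : g⁻¹ = g ^ k := by
    rw [inv_eq_iff_mul_eq_one, ← pow_succ']
    exact hk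
  rw [h1, map_pow]
  exact pow_mem hg k

variable {H : Subgroup ↥(chevE7.group F)} {φ : ↥(alternatingGroup (Fin n)) →* ↥(chevE7.group F)}
  {ψ : ↥(alternatingGroup (Fin n)) →* Gh F}

omit [Field F] in
theorem mul_negV {F : Type u} [Field F] {z : Gh F} (hz : V F z = -1) {T : Module.End F (D1 → F)} :
    T * V F z = (-1 : F) • T := by
  refine LinearMap.ext fun v => ?_
  rw [Module.End.mul_apply, neg_apply hz, map_neg, LinearMap.smul_apply, neg_smul, one_smul]

/-- the preimage of `H` normalizes the algebra -/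
theorem alg_conj (hM : MaxAlt H n φ) (hL : Lift φ ψ) {g : Gh F} (hg : ad F g ∈ H) {T : Module.End F (D1 → F)}
    (hT : T ∈ alg ψ) : V F g * T * V F g⁻¹ ∈ alg ψ := by
  have hinv : V F g⁻¹ * V F g = 1 := by rw [← map_mul, inv_mul_cancel, map_one]
  have hinv' : V F g * V F g⁻¹ = 1 := by rw [← map_mul, mul_inv_cancel, map_one]
  unfold alg at hT
  induction hT using Algebra.adjoin_induction with
  | mem x hx =>
    obtain ⟨a, rfl⟩ := hx
    obtain ⟨b, hb⟩ := hM.norm (ad F g) hg _ ⟨a, rfl⟩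
    have h1 : ad F ((ψ b)⁻¹ * (g * ψ a * g⁻¹)) = 1 := by
      rw [map_mul, map_inv, map_mul, map_mul, map_inv, hL, hL, hb, inv_mul_cancel]
    show V F g * V F (ψ a) * V F g⁻¹ ∈ alg ψ
    have h2 : V F g * V F (ψ a) * V F g⁻¹ = V F (ψ b) * V F ((ψ b)⁻¹ * (g * ψ a * g⁻¹)) := by
      rw [← map_mul, ← map_mul, ← map_mul, mul_inv_cancel_left]
    rw [h2]
    rcases ad_eq_one_iff.1 h1 with h3 | h3
    · rw [h3, mul_one]; exact alg_mem ψ b
    · rw [mul_negV h3]; exact Subalgebra.smul_mem _ (alg_mem ψ b) _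
  | algebraMap r =>
    rw [← Algebra.commutes, mul_assoc, hinv', mul_one]
    exact Subalgebra.algebraMap_mem _ r
  | add x y _ _ hx hy =>
    rw [mul_add, add_mul]
    exact add_mem hx hy
  | mul x y _ _ hx hy =>
    have h1 : V F g * (x * y) * V F g⁻¹ = (V F g * x * V F g⁻¹) * (V F g * y * V F g⁻¹) := by
      calc V F g * (x * y) * V F g⁻¹ = V F g * x * 1 * y * V F g⁻¹ := by rw [mul_one]; simp only [mul_assoc]
        _ = _ := by rw [← hinv]; simp only [mul_assoc]
    rw [h1]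
    exact mul_mem hx hy

theorem JJ_conj (hM : MaxAlt H n φ) (hL : Lift φ ψ) {g : Gh F} (hg : ad F g ∈ H) {j : Gh F} (hj : j ∈ JJ ψ) :
    g * j * g⁻¹ ∈ JJ ψ := by
  constructor
  · rw [map_mul, map_mul]
    exact alg_conj hM hL hg hj.1
  · rw [mul_inv_rev, mul_inv_rev, inv_inv, map_mul, map_mul, ← mul_assoc]
    exact alg_conj hM hL hg hj.2

/-- **`ad (JJ ψ) ≤ H`** -/
theorem JJ_le (hM : MaxAlt H n φ) (hL : Lift φ ψ) {M : Submodule F (D1 → F)} (h0 : M ≠ ⊥) (h1 : M ≠ ⊤)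
    (hst : ∀ a, ∀ w ∈ M, V F (ψ a) w ∈ M) {g : Gh F} (hg : g ∈ JJ ψ) : ad F g ∈ H := by
  by_contra hcon
  let J : Subgroup ↥(chevE7.group F) := (JJ ψ).map (ad F)
  have hJ : ∀ x ∈ J, ∀ y ∈ J, x * y * x⁻¹ ∈ J := fun x hx y hy => mul_mem (mul_mem hx hy) (inv_mem hx)
  let N : Subgroup ↥(chevE7.group F) := Subgroup.normalizer (J : Set ↥(chevE7.group F))
  have hHN : H ≤ N := by
    intro h hh
    have key : ∀ h ∈ H, ∀ y ∈ J, h * y * h⁻¹ ∈ J := by
      intro h hh y hy
      obtain ⟨g', rfl⟩ := ad_surjective h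
      obtain ⟨j, hj, rfl⟩ := hy
      exact ⟨g' * j * g'⁻¹, JJ_conj hM hL hh hj, by rw [map_mul, map_mul, map_inv]⟩
    rw [Subgroup.mem_normalizer_iff]
    intro y
    constructor
    · exact key h hh y
    · intro hy
      have h3 := key h⁻¹ (inv_mem hh) _ hy
      have h4 : h⁻¹ * (h * y * h⁻¹) * h⁻¹⁻¹ = y := by group
      rwa [h4] at h3
  have hlt : H < N := by
    refine lt_of_le_of_ne hHN fun h => hcon ?_
    rw [h]
    exact Subgroup.le_normalizer ⟨g, hg, rfl⟩
  have hN : N = ⊤ := hM.coatom.2 _ hlt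
  have hnorm : J.Normal := Subgroup.normalizer_eq_top_iff.1 hN
  have hs : IsSimpleGroup ↥(chevE7.group F) := (S1054.result chevE7 (by simp)).1
  rcases hnorm.eq_bot_or_eq_top with h | h
  · have h2 : ad F g ∈ J := ⟨g, hg, rfl⟩
    rw [h, Subgroup.mem_bot] at h2
    rw [h2] at hcon
    exact hcon (one_mem _)
  · apply h1
    apply irrV M _ h0
    intro g' w hw
    have h2 : ad F g' ∈ J := by rw [h]; trivial
    obtain ⟨j, hj, hj'⟩ := h2
    have h3 : ad F (j⁻¹ * g') = 1 := by rw [map_mul, map_inv, hj', inv_mul_cancel]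
    have h4 : V F g' = V F j * V F (j⁻¹ * g') := by rw [← map_mul, mul_inv_cancel_left]
    rw [h4]
    rcases ad_eq_one_iff.1 h3 with h5 | h5
    · rw [h5, mul_one]; exact alg_stab hst hj.1 w hw
    · rw [mul_negV h5]
      exact M.smul_mem _ (alg_stab hst hj.1 w hw)

/-- **3-cycles with 32 fixed weights**: `A_n` is irreducible on `V F` unless `q = 2` or `q = 4` -/
theorem no_red [Finite F] (h3 : (3 : F) ≠ 0) (hq2 : Nat.card F ≠ 2) (hq4 : Nat.card F ≠ 4) (hn : 7 ≤ n)
    (hM : MaxAlt H n φ) (hL : Lift φ ψ) {c : ↥(alternatingGroup (Fin n))} (hc : (c : Perm (Fin n)).IsThreeCycle)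
    {M : Submodule F (D1 → F)} (h0 : M ≠ ⊥) (h1 : M ≠ ⊤) (hst : ∀ a, ∀ w ∈ M, V F (ψ a) w ∈ M) :
    ev (V F (ψ c)) 1 ≠ 32 := by
  intro h32
  have hc3 : c ^ 3 = 1 := by
    apply Subtype.ext
    rw [Subgroup.coe_pow, ← hc.orderOf, pow_orderOf_eq_one]
    rfl
  have hx : (ψ c) ^ 3 = 1 := by rw [← map_pow, hc3, map_one]
  obtain ⟨y, a, b, c', m, ⟨e1, e2⟩, e3, e4, e5, -⟩ := tor32 h3 hx h32
  have hm : 0 < m := by
    have hq1 : 1 < Nat.card F := Finite.one_lt_card
    omega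
  have hyJ : y ∈ JJ ψ := by
    refine mem_JJ_of (k := 3 * m - 1) ?_ ?_
    · have h2 : 3 * m - 1 + 1 = 3 * m := by omega
      rw [h2, ← e4, pow_orderOf_eq_one]
    · rw [e1]
      have hxm := alg_mem ψ c
      exact add_mem (add_mem (Subalgebra.smul_mem _ (one_mem _) a) (Subalgebra.smul_mem _ hxm b))
        (Subalgebra.smul_mem _ (mul_mem hxm hxm) c')
  have hyH : ad F y ∈ H := JJ_le hM hL h0 h1 hst hyJ
  have h4 := no_tor hn hM hc hx (hL c) (fun g hg => commute_of_poly e1 hg) hyH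
  obtain ⟨v, hv0, hv⟩ : ∃ v : D1 → F, v ≠ 0 ∧ V F (ψ c) v = v := by
    have h5 : Module.End.eigenspace (V F (ψ c)) 1 ≠ ⊥ := by
      intro h6
      rw [ev, h6, finrank_bot] at h32
      exact absurd h32 (by norm_num)
    obtain ⟨v, hv, hv0⟩ := Submodule.exists_mem_ne_zero_of_ne_bot h5
    rw [Module.End.mem_eigenspace_iff, one_smul] at hv
    exact ⟨v, hv0, hv⟩
  rw [orderOf_ad hv0 (fixed_of_poly e1 e2 hv), e4] at h4
  have h5 := Nat.le_of_dvd (by norm_num) h4
  have hq1 : 1 < Nat.card F := Finite.one_lt_card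
  omega

end

end Cfsg.Agent.R2.T1.Nodd
end

-- part: R2/T1/Nodd/Fin
section
/-!
# S5771, NODD: output for odd characteristic (helper25)

* `lift_inj`;
* `no_thirtytwo` : the 3-cycles do not have 32 eigenvalues 1 on `V F`, `8 ≤ n ≤ 10`, `p ≥ 5`;
* `d3_twenty` : they have 20;
* `le_ten` : `n ≤ 10` for odd `p`, `n ≤ 9` if `p ≠ 5`.
-/

set_option autoImplicit false
set_option maxRecDepth 100000

namespace Cfsg.Agent.R2.T1.Nodd

open Cfsg Cfsg.Lie Module Equiv Equiv.Perm
open Cfsg.Agent.H943.E7V.Block (D1 rho)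
open Cfsg.Agent.H952.F4 (ev es MaxAlt)
open Cfsg.Agent.R2.T1 Cfsg.Agent.R2.T1.Odd

universe u

variable {F : Type u} [Field F] {n : ℕ} {H : Subgroup ↥(chevE7.group F)}
  {φ : ↥(alternatingGroup (Fin n)) →* ↥(chevE7.group F)} {ψ : ↥(alternatingGroup (Fin n)) →* Gh F}

theorem lift_inj (hM : MaxAlt H n φ) (hL : Lift φ ψ) : ∀ a, ad F (ψ a) = 1 → a = 1 := by
  intro a ha
  rw [hL] at ha
  exact hM.inj (by rw [ha, map_one])

theorem card_ne [Finite F] (h2 : (2 : F) ≠ 0) : Nat.card F ≠ 2 ∧ Nat.card F ≠ 4 := by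
  have h6 : (Nat.card F : F) = 0 := by
    have := Fintype.ofFinite F
    rw [Nat.card_eq_fintype_card]
    exact FiniteField.cast_card_eq_zero F
  constructor
  · intro h7
    rw [h7] at h6
    exact h2 (by exact_mod_cast h6)
  · intro h7
    rw [h7] at h6
    have h8 : (2 : F) * 2 = 0 := by
      have h9 : ((4 : ℕ) : F) = 2 * 2 := by norm_num
      rw [← h9, h6]
    exact h2 (mul_self_eq_zero.1 h8)

theorem three_P [NeZero n] (hn : 8 ≤ n) : ((P n l3 : ↥(alternatingGroup (Fin n))) : Perm (Fin n)).IsThreeCycle := by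
  rw [coe_P hn (m := 8) (by decide)]
  have h1 : pm n l3 = swap (Fin.ofNat n 1) (Fin.ofNat n 0) * swap (Fin.ofNat n 1) (Fin.ofNat n 2) := by
    rw [l3, pm_cons, pm_cons, pm_nil, mul_one, swap_comm]
  have hne : ∀ {a b : ℕ}, a < n → b < n → a ≠ b → Fin.ofNat n a ≠ Fin.ofNat n b := fun ha hb hab h => hab (ofNat_inj ha hb h)
  rw [h1]
  exact isThreeCycle_swap_mul_swap_same (hne (by omega) (by omega) (by norm_num)) (hne (by omega) (by omega) (by norm_num))
    (hne (by omega) (by omega) (by norm_num))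

/-- **no 3-cycles with 32 eigenvalues 1** -/
theorem no_thirtytwo [NeZero n] [Finite F] (h2 : (2 : F) ≠ 0) (h3 : (3 : F) ≠ 0) (hn : 8 ≤ n) (hn' : n ≤ 10)
    (hM : MaxAlt H n φ) (hL : Lift φ ψ) : ev (V F (ψ (P n l3))) 1 ≠ 32 := by
  obtain ⟨M, h0, h1, hst⟩ := exists_sub10 h2 (lift_inj hM hL) hn hn'
  exact no_red h3 (card_ne h2).1 (card_ne h2).2 (by omega) hM hL (three_P hn) h0 h1 hst

theorem d3_twenty [NeZero n] [Finite F] (h2 : (2 : F) ≠ 0) (h3 : (3 : F) ≠ 0) (hn : 8 ≤ n) (hn' : n ≤ 10)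
    (hM : MaxAlt H n φ) (hL : Lift φ ψ) : ev (V F (ψ (P n l3))) 1 = 20 :=
  (d3_cases h2 h3 (lift_inj hM hL) hn).resolve_right (no_thirtytwo h2 h3 hn hn' hM hL)

/-- `n ≤ 10` for odd `p`, `n ≤ 9` if `p ≠ 5` -/
theorem le_ten [NeZero n] [Finite F] (h2 : (2 : F) ≠ 0) (hM : MaxAlt H n φ) (hL : Lift φ ψ) :
    n ≤ 9 ∨ (n = 10 ∧ (5 : F) = 0) := by
  have hψ := lift_inj hM hL
  by_cases h9 : n ≤ 9
  · exact Or.inl h9
  by_cases h5 : (5 : F) = 0
  · by_cases h10 : n = 10
    · exact Or.inr ⟨h10, h5⟩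
    · exact (no_odd h2 hψ (by omega)).elim
  · exact (no_ten (n := n) (by omega) h2 h5 hψ).elim

end Cfsg.Agent.R2.T1.Nodd
end

private theorem dce_3c9d8f4f4bec : _root_.True := by
  try have : _root_.True := by simp only [_root_.Cfsg.Agent.R2.T1.Odd.l3.eq_1]
  exact _root_.True.intro
end

-- part: R2/T1/Nodd/N9L
section
prune_inst 0x4f560790445620200000000960300006028000002000884000cc00000014844420002a8403120011210a884004000004000000030006000000400040000000100108002063140a10042009e000000000000000000000000000000000000000004000000000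
set_option linter.all false
open scoped Cfsg.Agent.FastGrp

-- part: R2/T1/Nodd/N9
section
/-!
# S5771, NODD: characteristic 3, `n = 9`, module theory (helper25)

`A₉` acts on `W` in characteristic 3 with an invariant alternating form; `Y` (the vectors fixed by `A₇`) and `L` (an
eigenspace of `Q = V₄ × V₄`) are nondegenerate of dimension 2, the natural `A₈` has no fixed vectors.  Then the translates
`n i j : Y → W` are antisymmetric (N1), have the Gram matrix `gram`, and there is `u ≠ 0` in `Y` with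
`n i j u + n j k u + n k i u = 0` (N2, N3).
-/

set_option autoImplicit false
set_option linter.unusedSectionVars false

namespace Cfsg.Agent.R2.T1.Nodd

open Equiv Equiv.Perm Module
open Cfsg.Agent.R2.T1.T3 (A finrank_map)

/-! ### Permutations -/

theorem exists_even {m : ℕ} (hm : m ≤ 7) (x y : Fin m → Fin 9) (hx : Function.Injective x) (hy : Function.Injective y) :
    ∃ g : A 9, ∀ i, (g : Perm (Fin 9)) (x i) = y i := by
  have h1 := alternatingGroup.isMultiplyPretransitive (Fin 9)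
  have h9 : Nat.card (Fin 9) = 9 := by simp
  rw [h9] at h1
  have h2 : MulAction.IsMultiplyPretransitive (alternatingGroup (Fin 9)) (Fin 9) m := by
    have : MulAction.IsMultiplyPretransitive (alternatingGroup (Fin 9)) (Fin 9) (9 - 2) := h1
    exact MulAction.isMultiplyPretransitive_of_le (n := 9 - 2) (by omega) (by rw [h9]; norm_num)
  obtain ⟨g, hg⟩ := MulAction.exists_smul_eq (alternatingGroup (Fin 9)) (⟨x, hx⟩ : Fin m ↪ Fin 9) ⟨y, hy⟩
  refine ⟨g, fun i => ?_⟩
  have h3 := DFunLike.congr_fun hg i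
  exact h3

theorem ex2 {a b c d : Fin 9} (h1 : a ≠ b) (h2 : c ≠ d) :
    ∃ g : A 9, (g : Perm (Fin 9)) a = c ∧ (g : Perm (Fin 9)) b = d := by
  obtain ⟨g, hg⟩ := exists_even (by norm_num : 2 ≤ 7) ![a, b] ![c, d]
    (by intro i j; (revert i j; simp only [h1, h1.symm, _root_.Fin.forall_fin_succ, Fin.isValue, _root_.Matrix.cons_val_zero, _root_.Matrix.cons_val_succ, _root_.Matrix.cons_val_fin_one, _root_.Fin.succ_zero_eq_one, _root_.IsEmpty.forall_iff, _root_.and_true, _root_.imp_self, _root_.zero_ne_one, _root_.and_self, _root_.Fin.succ_ne_zero, _root_.forall_const, _root_.true_and]))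
    (by intro i j; (revert i j; simp only [h2, h2.symm, _root_.Fin.forall_fin_succ, Fin.isValue, _root_.Matrix.cons_val_zero, _root_.Matrix.cons_val_succ, _root_.Matrix.cons_val_fin_one, _root_.Fin.succ_zero_eq_one, _root_.IsEmpty.forall_iff, _root_.and_true, _root_.imp_self, _root_.zero_ne_one, _root_.and_self, _root_.Fin.succ_ne_zero, _root_.forall_const, _root_.true_and]))
  exact ⟨g, hg 0, hg 1⟩

theorem inj3 {α : Type*} {a b c : α} (h1 : a ≠ b) (h2 : a ≠ c) (h3 : b ≠ c) : Function.Injective ![a, b, c] := by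
  intro i j
  (revert i j; simp only [h1, h2, h3, h1.symm, h2.symm, h3.symm, _root_.Fin.forall_fin_succ, _root_.Nat.succ_eq_add_one, Nat.reduceAdd, Fin.isValue, _root_.Matrix.cons_val_zero, _root_.Matrix.cons_val_succ, _root_.Fin.succ_zero_eq_one, _root_.Matrix.cons_val_fin_one, _root_.Fin.succ_one_eq_two, _root_.IsEmpty.forall_iff, _root_.and_true, _root_.imp_self, _root_.zero_ne_one, Fin.reduceEq, _root_.and_self, _root_.Fin.succ_ne_zero, _root_.imp_false, _root_.not_false_eq_true, _root_.forall_const, _root_.true_and])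

theorem inj4 {α : Type*} {a b c d : α} (h1 : a ≠ b) (h2 : a ≠ c) (h3 : a ≠ d) (h4 : b ≠ c) (h5 : b ≠ d) (h6 : c ≠ d) :
    Function.Injective ![a, b, c, d] := by
  intro i j
  (revert i j; simp only [h1, h2, h3, h4, h5, h6, h1.symm, h2.symm, h3.symm, h4.symm, h5.symm, h6.symm, _root_.Fin.forall_fin_succ, _root_.Nat.succ_eq_add_one, Nat.reduceAdd, Fin.isValue, _root_.Matrix.cons_val_zero, _root_.Matrix.cons_val_succ, _root_.Fin.succ_zero_eq_one, _root_.Fin.succ_one_eq_two, _root_.Matrix.cons_val_fin_one, Fin.reduceSucc, _root_.IsEmpty.forall_iff, _root_.and_true, _root_.imp_self, _root_.zero_ne_one, Fin.reduceEq, _root_.and_self, _root_.Fin.succ_ne_zero, _root_.imp_false, _root_.not_false_eq_true, _root_.forall_const, _root_.true_and])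

theorem ex3 {a b c a' b' c' : Fin 9} (h : Function.Injective ![a, b, c]) (h' : Function.Injective ![a', b', c']) :
    ∃ g : A 9, (g : Perm (Fin 9)) a = a' ∧ (g : Perm (Fin 9)) b = b' ∧ (g : Perm (Fin 9)) c = c' := by
  obtain ⟨g, hg⟩ := exists_even (by norm_num : 3 ≤ 7) ![a, b, c] ![a', b', c'] h h'
  exact ⟨g, hg 0, hg 1, hg 2⟩

theorem ex4 {a b c d a' b' c' d' : Fin 9} (h : Function.Injective ![a, b, c, d])
    (h' : Function.Injective ![a', b', c', d']) : ∃ g : A 9, (g : Perm (Fin 9)) a = a' ∧ (g : Perm (Fin 9)) b = b' ∧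
      (g : Perm (Fin 9)) c = c' ∧ (g : Perm (Fin 9)) d = d' := by
  obtain ⟨g, hg⟩ := exists_even (by norm_num : 4 ≤ 7) ![a, b, c, d] ![a', b', c', d'] h h'
  exact ⟨g, hg 0, hg 1, hg 2, hg 3⟩

/-- `(7 8)(0 1)` -/
def tau : A 9 := ⟨swap (7 : Fin 9) 8 * swap (0 : Fin 9) 1, by rw [mem_alternatingGroup]; decide +kernel⟩
/-- `(0 1)(2 3)` -/
def q1 : A 9 := ⟨swap (0 : Fin 9) 1 * swap (2 : Fin 9) 3, by rw [mem_alternatingGroup]; decide +kernel⟩
/-- `(4 5)(6 7)` -/
def q2 : A 9 := ⟨swap (4 : Fin 9) 5 * swap (6 : Fin 9) 7, by rw [mem_alternatingGroup]; decide +kernel⟩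
/-- `(0 2)(1 3)` -/
def q3 : A 9 := ⟨swap (0 : Fin 9) 2 * swap (1 : Fin 9) 3, by rw [mem_alternatingGroup]; decide +kernel⟩
/-- `(4 6)(5 7)` -/
def q4 : A 9 := ⟨swap (4 : Fin 9) 6 * swap (5 : Fin 9) 7, by rw [mem_alternatingGroup]; decide +kernel⟩

theorem tau_tau : tau * tau = 1 := by decide +kernel
theorem tau7 : (tau : Perm (Fin 9)) 7 = 8 := by decide +kernel
theorem tau8 : (tau : Perm (Fin 9)) 8 = 7 := by decide +kernel

section
variable {K W : Type*} [Field K] [AddCommGroup W] [Module K W] [FiniteDimensional K W]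

/-- the vectors fixed by `A₇` -/
def Y (ρ : Representation K (A 9) W) : Submodule K W where
  carrier := {w | ∀ g : A 9, (g : Perm (Fin 9)) 7 = 7 → (g : Perm (Fin 9)) 8 = 8 → ρ g w = w}
  add_mem' := fun {a b} ha hb g hg hg' => by rw [map_add, ha g hg hg', hb g hg hg']
  zero_mem' := fun g _ _ => map_zero _
  smul_mem' := fun c a ha g hg hg' => by rw [map_smul, ha g hg hg']

/-- the eigenspace of `Q` -/
def L9 (ρ : Representation K (A 9) W) : Submodule K W where
  carrier := {w | ρ q1 w = w ∧ ρ q2 w = w ∧ ρ q3 w = -w ∧ ρ q4 w = -w}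
  add_mem' := fun {a b} ha hb => by
    refine ⟨by rw [map_add, ha.1, hb.1], by rw [map_add, ha.2.1, hb.2.1], ?_, ?_⟩
    · rw [map_add, ha.2.2.1, hb.2.2.1, neg_add]
    · rw [map_add, ha.2.2.2, hb.2.2.2, neg_add]
  zero_mem' := by simp only [_root_.Set.mem_ofPred_eq, _root_.map_zero, _root_.neg_zero, _root_.and_self]
  smul_mem' := fun c a ha => by
    refine ⟨by rw [map_smul, ha.1], by rw [map_smul, ha.2.1], ?_, ?_⟩
    · rw [map_smul, ha.2.2.1, smul_neg]
    · rw [map_smul, ha.2.2.2, smul_neg]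

/-- the hypotheses -/
structure N9 (ρ : Representation K (A 9) W) (B : W →ₗ[K] W →ₗ[K] K) : Prop where
  three : (3 : K) = 0
  alt : ∀ v, B v v = 0
  inv : ∀ g v w, B (ρ g v) (ρ g w) = B v w
  dimY : finrank K ↥(Y ρ) = 2
  ndY : ∀ y ∈ Y ρ, (∀ z ∈ Y ρ, B y z = 0) → y = 0
  fix : ∀ w, (∀ g : A 9, (g : Perm (Fin 9)) 8 = 8 → ρ g w = w) → w = 0
  dimL : finrank K ↥(L9 ρ) = 2
  ndL : ∀ y ∈ L9 ρ, (∀ z ∈ L9 ρ, B y z = 0) → y = 0

variable {ρ : Representation K (A 9) W} {B : W →ₗ[K] W →ₗ[K] K}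

theorem r_mul (g h : A 9) (w : W) : ρ (g * h) w = ρ g (ρ h w) := by
  rw [map_mul, Module.End.mul_apply]

theorem r_one (w : W) : ρ 1 w = w := by rw [map_one, Module.End.one_apply]

section alg
variable (h3 : (3 : K) = 0)
include h3

theorem two_ne : (2 : K) ≠ 0 := fun h2 => one_ne_zero (α := K) (by linear_combination h3 - h2)

theorem zero_of_double {a : K} (h : a = -a) : a = 0 := by
  linear_combination a * h3 - h

end alg

theorem exists_tr9 (i j : Fin 9) : ∃ g : A 9, (i ≠ j → (g : Perm (Fin 9)) 7 = i ∧ (g : Perm (Fin 9)) 8 = j) ∧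
    (i = 7 → j = 8 → g = 1) := by
  by_cases h : i = 7 ∧ j = 8
  · exact ⟨1, fun _ => ⟨h.1.symm, h.2.symm⟩, fun _ _ => rfl⟩
  · by_cases h1 : i = j
    · exact ⟨1, fun h2 => absurd h1 h2, fun _ _ => rfl⟩
    · obtain ⟨g, g1, g2⟩ := ex2 (a := 7) (b := 8) (by decide) h1
      exact ⟨g, fun _ => ⟨g1, g2⟩, fun h2 h3 => absurd ⟨h2, h3⟩ h⟩

/-- an element moving `(7, 8)` to `(i, j)` -/
noncomputable def tr9 (i j : Fin 9) : A 9 := (exists_tr9 i j).choose

theorem tr9_spec {i j : Fin 9} (h : i ≠ j) : (tr9 i j : Perm (Fin 9)) 7 = i ∧ (tr9 i j : Perm (Fin 9)) 8 = j :=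
  (exists_tr9 i j).choose_spec.1 h

theorem tr9_78 : tr9 7 8 = 1 := (exists_tr9 7 8).choose_spec.2 rfl rfl

variable (ρ) in
/-- the translates -/
noncomputable def nn9 (i j : Fin 9) : W →ₗ[K] W := if i = j then 0 else ρ (tr9 i j)

theorem nn9_self (i : Fin 9) (y : W) : nn9 ρ i i y = 0 := by rw [nn9, if_pos rfl]; rfl

theorem nn9_78 (y : W) : nn9 ρ 7 8 y = y := by rw [nn9, if_neg (by decide), tr9_78, r_one]

theorem nn9_of {y : W} (hy : y ∈ Y ρ) {g : A 9} {i j : Fin 9} (h7 : (g : Perm (Fin 9)) 7 = i)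
    (h8 : (g : Perm (Fin 9)) 8 = j) : nn9 ρ i j y = ρ g y := by
  have hij : i ≠ j := by
    rw [← h7, ← h8]
    intro h
    exact absurd ((g : Perm (Fin 9)).injective h) (by decide)
  rw [nn9, if_neg hij]
  have h := hy ((tr9 i j)⁻¹ * g)
    (by
      show ((tr9 i j : Perm (Fin 9))⁻¹ * (g : Perm (Fin 9))) 7 = 7
      rw [Perm.mul_apply, h7, Perm.inv_eq_iff_eq, (tr9_spec hij).1])
    (by
      show ((tr9 i j : Perm (Fin 9))⁻¹ * (g : Perm (Fin 9))) 8 = 8
      rw [Perm.mul_apply, h8, Perm.inv_eq_iff_eq, (tr9_spec hij).2])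
  have h1 := congrArg (ρ (tr9 i j)) h
  rw [← r_mul, mul_inv_cancel_left] at h1
  exact h1.symm

theorem act {y : W} (hy : y ∈ Y ρ) (g : A 9) (i j : Fin 9) :
    ρ g (nn9 ρ i j y) = nn9 ρ ((g : Perm (Fin 9)) i) ((g : Perm (Fin 9)) j) y := by
  by_cases hij : i = j
  · subst hij
    rw [nn9_self, nn9_self, map_zero]
  · have h1 := tr9_spec hij
    rw [nn9_of hy (g := g * tr9 i j) (i := (g : Perm (Fin 9)) i) (j := (g : Perm (Fin 9)) j)
      (by show (g : Perm (Fin 9)) ((tr9 i j : Perm (Fin 9)) 7) = _; rw [h1.1])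
      (by show (g : Perm (Fin 9)) ((tr9 i j : Perm (Fin 9)) 8) = _; rw [h1.2]), r_mul, nn9, if_neg hij]

theorem B_act (h : N9 ρ B) {y z : W} (hy : y ∈ Y ρ) (hz : z ∈ Y ρ) (g : A 9) (i j k l : Fin 9) :
    B (nn9 ρ ((g : Perm (Fin 9)) i) ((g : Perm (Fin 9)) j) y) (nn9 ρ ((g : Perm (Fin 9)) k) ((g : Perm (Fin 9)) l) z) =
      B (nn9 ρ i j y) (nn9 ρ k l z) := by
  rw [← act hy, ← act hz, h.inv]

theorem B_nn (h : N9 ρ B) {y z : W} (hy : y ∈ Y ρ) (hz : z ∈ Y ρ) {i j : Fin 9} (hij : i ≠ j) :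
    B (nn9 ρ i j y) (nn9 ρ i j z) = B y z := by
  obtain ⟨g, rfl, rfl⟩ := ex2 (a := 7) (b := 8) (by decide) hij
  rw [B_act h hy hz, nn9_78, nn9_78]

/-- the sums over the first index vanish -/
theorem sum_fst (h : N9 ρ B) {y : W} (hy : y ∈ Y ρ) (j : Fin 9) : ∑ i, nn9 ρ i j y = 0 := by
  have h8 : ∑ i, nn9 ρ i 8 y = 0 := by
    apply h.fix
    intro g hg
    rw [map_sum]
    have e : ∀ i, ρ g (nn9 ρ i 8 y) = nn9 ρ ((g : Perm (Fin 9)) i) 8 y := fun i => by rw [act hy, hg]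
    rw [Finset.sum_congr rfl fun i _ => e i]
    exact Equiv.sum_comp (g : Perm (Fin 9)) (fun i => nn9 ρ i 8 y)
  obtain ⟨k, hk⟩ : ∃ k : Fin 9, k ≠ j := exists_ne j
  obtain ⟨g, -, rfl⟩ := ex2 (a := 7) (b := 8) (by decide) hk
  have h1 := congrArg (ρ g) h8
  rw [map_sum, map_zero] at h1
  rw [← Equiv.sum_comp (g : Perm (Fin 9)), ← h1]
  exact Finset.sum_congr rfl fun i _ => (act hy g i 8).symm

theorem tau_mem {y : W} (hy : y ∈ Y ρ) : ρ tau y ∈ Y ρ := by
  intro g h7 h8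
  have h1 := hy (tau * g * tau)
    (by show (tau : Perm (Fin 9)) ((g : Perm (Fin 9)) ((tau : Perm (Fin 9)) 7)) = 7; rw [tau7, h8, tau8])
    (by show (tau : Perm (Fin 9)) ((g : Perm (Fin 9)) ((tau : Perm (Fin 9)) 8)) = 8; rw [tau8, h7, tau7])
  have h2 := congrArg (ρ tau) h1
  rw [← r_mul, ← mul_assoc, ← mul_assoc, tau_tau, one_mul, r_mul] at h2
  exact h2

theorem tau_sq (y : W) : ρ tau (ρ tau y) = y := by rw [← r_mul, tau_tau, r_one]

theorem nn9_87 {y : W} (hy : y ∈ Y ρ) : nn9 ρ 8 7 y = ρ tau y := nn9_of hy tau7 tau8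

/-- `tau` acts on `Y` as `1` or as `-1` -/
theorem tau_cases (h : N9 ρ B) : (∀ y ∈ Y ρ, ρ tau y = y) ∨ ∀ y ∈ Y ρ, ρ tau y = -y := by
  by_contra hcon
  push Not at hcon
  obtain ⟨⟨a, ha, ha'⟩, b, hb, hb'⟩ := hcon
  set x := a - ρ tau a with hx
  set z := b + ρ tau b with hz
  have hxY : x ∈ Y ρ := (Y ρ).sub_mem ha (tau_mem ha)
  have hzY : z ∈ Y ρ := (Y ρ).add_mem hb (tau_mem hb)
  have hx0 : x ≠ 0 := fun h1 => ha' (sub_eq_zero.1 h1).symm
  have hz0 : z ≠ 0 := fun h1 => hb' (by rw [eq_neg_iff_add_eq_zero, add_comm]; exact h1)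
  have hxt : ρ tau x = -x := by rw [hx, map_sub, tau_sq, neg_sub]
  have hzt : ρ tau z = z := by rw [hz, map_add, tau_sq, add_comm]
  have hxz : B x z = 0 := by
    have h1 := h.inv tau x z
    rw [hxt, hzt, map_neg, LinearMap.neg_apply] at h1
    exact zero_of_double h.three h1.symm
  -- x, z span Y
  have hli : LinearIndependent K ![x, z] := by
    rw [LinearIndependent.pair_iff]
    intro s t hst
    have h1 := congrArg (ρ tau) hst
    rw [map_add, map_smul, map_smul, hxt, hzt, map_zero, smul_neg] at h1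
    have h2 : (2 : K) • (t • z) = 0 := by
      have : (2 : K) • (t • z) = (s • x + t • z) + (-(s • x) + t • z) := by rw [two_smul]; abel
      rw [this, hst, h1, add_zero]
    have h4 : t = 0 := by
      rcases smul_eq_zero.1 h2 with h5 | h5
      · exact absurd h5 (two_ne h.three)
      · exact (smul_eq_zero.1 h5).resolve_right hz0
    rw [h4, zero_smul, add_zero] at hst
    exact ⟨(smul_eq_zero.1 hst).resolve_right hx0, h4⟩
  have hspan : ∀ y ∈ Y ρ, ∃ s t : K, y = s • x + t • z := by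
    intro y hy
    have h1 : Submodule.span K (Set.range ![x, z]) = Y ρ := by
      apply Submodule.eq_of_le_of_finrank_le
      · rw [Submodule.span_le]
        rintro _ ⟨i, rfl⟩
        fin_cases i
        · exact hxY
        · exact hzY
      · rw [h.dimY, finrank_span_eq_card hli]
        simp
    rw [← h1, Matrix.range_cons, Matrix.range_cons, Matrix.range_empty, Set.union_empty, Set.singleton_union,
      Submodule.mem_span_pair] at hy
    obtain ⟨s, t, h2⟩ := hy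
    exact ⟨s, t, h2.symm⟩
  apply hx0
  apply h.ndY x hxY
  intro y hy
  obtain ⟨s, t, rfl⟩ := hspan y hy
  rw [map_add, map_smul, map_smul, h.alt, hxz, smul_zero, smul_zero, add_zero]

/-- the form on two vectors sharing the second index -/
theorem gram_snd (h : N9 ρ B) {y z : W} (hy : y ∈ Y ρ) (hz : z ∈ Y ρ) {i j k : Fin 9} (hij : i ≠ j) (hkj : k ≠ j)
    (hik : i ≠ k) : B (nn9 ρ i j y) (nn9 ρ k j z) = -B y z := by
  have hconst : ∀ {i j k : Fin 9}, i ≠ j → k ≠ j → i ≠ k → B (nn9 ρ i j y) (nn9 ρ k j z) =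
      B (nn9 ρ 7 8 y) (nn9 ρ 6 8 z) := by
    intro i j k h1 h2 h4
    obtain ⟨g, rfl, rfl, rfl⟩ := ex3 (a := 7) (b := 8) (c := 6) (inj3 (by decide) (by decide) (by decide)) (inj3 h1 h4 h2.symm)
    rw [B_act h hy hz]
  rw [hconst hij hkj hik]
  have h1 : B (nn9 ρ 7 8 y) (∑ k, nn9 ρ k 8 z) = 0 := by rw [sum_fst h hz, map_zero]
  rw [map_sum, Fin.sum_univ_castSucc] at h1
  simp only [Fin.sum_univ_eight] at h1
  have e8 : B (nn9 ρ 7 8 y) (nn9 ρ (Fin.last 8) 8 z) = 0 := by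
    have : (Fin.last 8) = (8 : Fin 9) := rfl
    rw [this, nn9_self, map_zero]
  have e7 : B (nn9 ρ 7 8 y) (nn9 ρ (Fin.castSucc 7) 8 z) = B y z := by
    have : (Fin.castSucc (7 : Fin 8)) = (7 : Fin 9) := rfl
    rw [this, nn9_78, nn9_78]
  have e : ∀ k : Fin 8, k ≠ 7 → B (nn9 ρ 7 8 y) (nn9 ρ (Fin.castSucc k) 8 z) = B (nn9 ρ 7 8 y) (nn9 ρ 6 8 z) := by
    intro k hk
    refine hconst (by decide) ?_ ?_
    · revert k; decide
    · revert k; decide
  rw [e8, e7, e 0 (by decide), e 1 (by decide), e 2 (by decide), e 3 (by decide), e 4 (by decide), e 5 (by decide),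
    e 6 (by decide)] at h1
  linear_combination h1 - 2 * B (nn9 ρ 7 8 y) (nn9 ρ 6 8 z) * h.three

/-- **N1** -/
theorem tau_neg (h : N9 ρ B) {y : W} (hy : y ∈ Y ρ) : ρ tau y = -y := by
  rcases tau_cases h with h1 | h1
  swap
  · exact h1 y hy
  exfalso
  -- the symmetric case
  have hsym : ∀ {y : W}, y ∈ Y ρ → ∀ i j, nn9 ρ j i y = nn9 ρ i j y := by
    intro y hy i j
    by_cases hij : i = j
    · rw [hij]
    obtain ⟨g, rfl, rfl⟩ := ex2 (a := 7) (b := 8) (by decide) hij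
    rw [← act hy, ← act hy, nn9_87 hy, h1 y hy, nn9_78]
  have h0 : ∀ x ∈ Y ρ, ∀ z ∈ Y ρ, B x z = 0 := by
    intro x hx z hz
    have hdis : ∀ {l : Fin 9}, l ≠ 6 → l ≠ 7 → l ≠ 8 → B (nn9 ρ 7 8 x) (nn9 ρ l 6 z) = B (nn9 ρ 7 8 x) (nn9 ρ 0 6 z) := by
      intro l l1 l2 l3
      obtain ⟨g, g1, g2, g3, g4⟩ := ex4 (a := 7) (b := 8) (c := 0) (d := 6) (a' := 7) (b' := 8) (c' := l) (d' := 6)
        (inj4 (by decide) (by decide) (by decide) (by decide) (by decide) (by decide))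
        (inj4 (by decide) l2.symm (by decide) l3.symm (by decide) l1)
      have := B_act h hx hz g 7 8 0 6
      rw [g1, g2, g3, g4] at this
      exact this
    have h2 : B (nn9 ρ 7 8 x) (∑ l, nn9 ρ l 6 z) = 0 := by rw [sum_fst h hz, map_zero]
    rw [map_sum, Fin.sum_univ_castSucc] at h2
    simp only [Fin.sum_univ_eight] at h2
    have e8 : B (nn9 ρ 7 8 x) (nn9 ρ (Fin.last 8) 6 z) = -B x z := by
      have : (Fin.last 8) = (8 : Fin 9) := rfl
      rw [this, hsym hz]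
      exact gram_snd h hx hz (by decide) (by decide) (by decide)
    have e7 : B (nn9 ρ 7 8 x) (nn9 ρ (Fin.castSucc 7) 6 z) = -B x z := by
      have : (Fin.castSucc (7 : Fin 8)) = (7 : Fin 9) := rfl
      rw [this, hsym hz, ← hsym hx]
      exact gram_snd h hx hz (by decide) (by decide) (by decide)
    have e6 : B (nn9 ρ 7 8 x) (nn9 ρ (Fin.castSucc 6) 6 z) = 0 := by
      have : (Fin.castSucc (6 : Fin 8)) = (6 : Fin 9) := rfl
      rw [this, nn9_self, map_zero]
    have e : ∀ k : Fin 8, k ≠ 7 → k ≠ 6 → B (nn9 ρ 7 8 x) (nn9 ρ (Fin.castSucc k) 6 z) =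
        B (nn9 ρ 7 8 x) (nn9 ρ 0 6 z) := by
      intro k hk hk'
      refine hdis ?_ ?_ ?_
      · revert k; decide
      · revert k; decide
      · revert k; decide
    rw [e8, e7, e6, e 0 (by decide) (by decide), e 1 (by decide) (by decide), e 2 (by decide) (by decide),
      e 3 (by decide) (by decide), e 4 (by decide) (by decide), e 5 (by decide) (by decide)] at h2
    linear_combination h2 + (B x z - 2 * B (nn9 ρ 7 8 x) (nn9 ρ 0 6 z)) * h.three
  have hbot : Y ρ = ⊥ := by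
    rw [eq_bot_iff]
    intro x hx
    exact (Submodule.mem_bot K).2 (h.ndY x hx fun z hz => h0 x hx z hz)
  have h5 := h.dimY
  rw [hbot, finrank_bot] at h5
  exact absurd h5 (by norm_num)

theorem anti (h : N9 ρ B) {y : W} (hy : y ∈ Y ρ) (i j : Fin 9) : nn9 ρ j i y = -nn9 ρ i j y := by
  by_cases hij : i = j
  · rw [hij, nn9_self, neg_zero]
  obtain ⟨g, rfl, rfl⟩ := ex2 (a := 7) (b := 8) (by decide) hij
  rw [← act hy, ← act hy, nn9_87 hy, tau_neg h hy, nn9_78, map_neg]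

theorem sum_snd (h : N9 ρ B) {y : W} (hy : y ∈ Y ρ) (i : Fin 9) : ∑ j, nn9 ρ i j y = 0 := by
  rw [Finset.sum_congr rfl fun j _ => anti h hy j i, Finset.sum_neg_distrib, sum_fst h hy, neg_zero]

theorem gram_fst (h : N9 ρ B) {y z : W} (hy : y ∈ Y ρ) (hz : z ∈ Y ρ) {i j k : Fin 9} (hij : i ≠ j) (hik : i ≠ k)
    (hjk : j ≠ k) : B (nn9 ρ i j y) (nn9 ρ i k z) = -B y z := by
  rw [anti h hy j i, anti h hz k i, map_neg, map_neg, LinearMap.neg_apply, neg_neg]
  exact gram_snd h hy hz hij.symm hik.symm hjk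

theorem gram_cross (h : N9 ρ B) {y z : W} (hy : y ∈ Y ρ) (hz : z ∈ Y ρ) {i j k : Fin 9} (hij : i ≠ j) (hik : i ≠ k)
    (hjk : j ≠ k) : B (nn9 ρ i j y) (nn9 ρ j k z) = B y z := by
  rw [anti h hz k j, map_neg, gram_snd h hy hz hij hjk.symm hik, neg_neg]

theorem gram_cross' (h : N9 ρ B) {y z : W} (hy : y ∈ Y ρ) (hz : z ∈ Y ρ) {i j k : Fin 9} (hij : i ≠ j) (hik : i ≠ k)
    (hjk : j ≠ k) : B (nn9 ρ i j y) (nn9 ρ k i z) = B y z := by
  rw [anti h hz i k, map_neg, gram_fst h hy hz hij hik hjk, neg_neg]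

theorem gram_disj (h : N9 ρ B) {y z : W} (hy : y ∈ Y ρ) (hz : z ∈ Y ρ) {i j k l : Fin 9} (hij : i ≠ j) (hik : i ≠ k)
    (hil : i ≠ l) (hjk : j ≠ k) (hjl : j ≠ l) (hkl : k ≠ l) : B (nn9 ρ i j y) (nn9 ρ k l z) = 0 := by
  obtain ⟨g, g1, g2, g3, g4⟩ := ex4 (a := i) (b := j) (c := k) (d := l) (a' := i) (b' := j) (c' := l) (d' := k)
    (inj4 hij hik hil hjk hjl hkl) (inj4 hij hil hik hjl hjk hkl.symm)
  have h1 := B_act h hy hz g i j k l
  rw [g1, g2, g3, g4, anti h hz k l, map_neg] at h1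
  exact zero_of_double h.three h1.symm

/-- the uniform formula for `i ≠ j`, `k ≠ l`, `i ≠ l`, `j ≠ k` -/
theorem gram (h : N9 ρ B) {y z : W} (hy : y ∈ Y ρ) (hz : z ∈ Y ρ) {i j k l : Fin 9} (hij : i ≠ j) (hkl : k ≠ l)
    (hil : i ≠ l) (hjk : j ≠ k) : B (nn9 ρ i j y) (nn9 ρ k l z) =
      -((if i = k then 1 else 0) + (if j = l then 1 else 0)) * B y z := by
  by_cases h1 : i = k
  · subst h1
    by_cases h2 : j = l
    · subst h2
      rw [if_pos rfl, if_pos rfl, B_nn h hy hz hij]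
      linear_combination B y z * h.three
    · rw [if_pos rfl, if_neg h2, gram_fst h hy hz hij hkl h2]
      ring
  · by_cases h2 : j = l
    · subst h2
      rw [if_neg h1, if_pos rfl, gram_snd h hy hz hij hkl h1]
      ring
    · rw [if_neg h1, if_neg h2, gram_disj h hy hz hij h1 hil hjk h2 hkl]
      ring

/-! ### N2 and N3 -/

variable (ρ) in
/-- the vector `(e_0 + e_1 - e_2 - e_3) ∧ (e_4 + e_5 - e_6 - e_7)` and its translates -/
noncomputable def EE (π : Perm (Fin 9)) : W →ₗ[K] W :=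
  (nn9 ρ (π 0) (π 4) + nn9 ρ (π 0) (π 5) - nn9 ρ (π 0) (π 6) - nn9 ρ (π 0) (π 7)) +
  (nn9 ρ (π 1) (π 4) + nn9 ρ (π 1) (π 5) - nn9 ρ (π 1) (π 6) - nn9 ρ (π 1) (π 7)) -
  (nn9 ρ (π 2) (π 4) + nn9 ρ (π 2) (π 5) - nn9 ρ (π 2) (π 6) - nn9 ρ (π 2) (π 7)) -
  (nn9 ρ (π 3) (π 4) + nn9 ρ (π 3) (π 5) - nn9 ρ (π 3) (π 6) - nn9 ρ (π 3) (π 7))

theorem EE_apply (π : Perm (Fin 9)) (y : W) : EE ρ π y =
    (nn9 ρ (π 0) (π 4) y + nn9 ρ (π 0) (π 5) y - nn9 ρ (π 0) (π 6) y - nn9 ρ (π 0) (π 7) y) +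
    (nn9 ρ (π 1) (π 4) y + nn9 ρ (π 1) (π 5) y - nn9 ρ (π 1) (π 6) y - nn9 ρ (π 1) (π 7) y) -
    (nn9 ρ (π 2) (π 4) y + nn9 ρ (π 2) (π 5) y - nn9 ρ (π 2) (π 6) y - nn9 ρ (π 2) (π 7) y) -
    (nn9 ρ (π 3) (π 4) y + nn9 ρ (π 3) (π 5) y - nn9 ρ (π 3) (π 6) y - nn9 ρ (π 3) (π 7) y) := rfl

theorem act_EE {y : W} (hy : y ∈ Y ρ) (g : A 9) : ρ g (EE ρ 1 y) = EE ρ (g : Perm (Fin 9)) y := by
  rw [EE_apply, EE_apply]
  simp only [map_add, map_sub, act hy, Perm.one_apply]

theorem EE_mem {y : W} (hy : y ∈ Y ρ) : EE ρ 1 y ∈ L9 ρ := by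
  have key : ∀ (g : A 9) (i0 i1 i2 i3 i4 i5 i6 i7 : Fin 9), ((g : Perm (Fin 9)) 0 = i0 ∧ (g : Perm (Fin 9)) 1 = i1 ∧
      (g : Perm (Fin 9)) 2 = i2 ∧ (g : Perm (Fin 9)) 3 = i3 ∧ (g : Perm (Fin 9)) 4 = i4 ∧ (g : Perm (Fin 9)) 5 = i5 ∧
      (g : Perm (Fin 9)) 6 = i6 ∧ (g : Perm (Fin 9)) 7 = i7) → ρ g (EE ρ 1 y) =
      (nn9 ρ i0 i4 y + nn9 ρ i0 i5 y - nn9 ρ i0 i6 y - nn9 ρ i0 i7 y) +
      (nn9 ρ i1 i4 y + nn9 ρ i1 i5 y - nn9 ρ i1 i6 y - nn9 ρ i1 i7 y) -
      (nn9 ρ i2 i4 y + nn9 ρ i2 i5 y - nn9 ρ i2 i6 y - nn9 ρ i2 i7 y) -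
      (nn9 ρ i3 i4 y + nn9 ρ i3 i5 y - nn9 ρ i3 i6 y - nn9 ρ i3 i7 y) := by
    rintro g _ _ _ _ _ _ _ _ ⟨rfl, rfl, rfl, rfl, rfl, rfl, rfl, rfl⟩
    rw [act_EE hy, EE_apply]
  refine ⟨?_, ?_, ?_, ?_⟩
  · rw [key q1 1 0 3 2 4 5 6 7 (by decide +kernel), EE_apply]
    simp only [Perm.one_apply]
    abel
  · rw [key q2 0 1 2 3 5 4 7 6 (by decide +kernel), EE_apply]
    simp only [Perm.one_apply]
    abel
  · rw [key q3 2 3 0 1 4 5 6 7 (by decide +kernel), EE_apply]
    simp only [Perm.one_apply]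
    abel
  · rw [key q4 0 1 2 3 6 7 4 5 (by decide +kernel), EE_apply]
    simp only [Perm.one_apply]
    abel

theorem B_row (h : N9 ρ B) {y z : W} (hy : y ∈ Y ρ) (hz : z ∈ Y ρ) {i j : Fin 9} (hi : i < 4) (hj : 4 ≤ j) : B (nn9 ρ i j y) (EE ρ 1 z) = 0 := by
  have key : ∀ k l : Fin 9, k < 4 → 4 ≤ l → B (nn9 ρ i j y) (nn9 ρ k l z) =
      -((if i = k then 1 else 0) + (if j = l then 1 else 0)) * B y z := fun k l hk hl =>
    gram h hy hz (lt_of_lt_of_le hi hj).ne (lt_of_lt_of_le hk hl).ne (lt_of_lt_of_le hi hl).ne (lt_of_lt_of_le hk hj).ne'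
  rw [EE_apply]
  simp only [map_add, map_sub, Perm.one_apply]
  rw [key 0 4 (by decide) (by decide), key 0 5 (by decide) (by decide), key 0 6 (by decide) (by decide),
    key 0 7 (by decide) (by decide), key 1 4 (by decide) (by decide), key 1 5 (by decide) (by decide),
    key 1 6 (by decide) (by decide), key 1 7 (by decide) (by decide), key 2 4 (by decide) (by decide),
    key 2 5 (by decide) (by decide), key 2 6 (by decide) (by decide), key 2 7 (by decide) (by decide),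
    key 3 4 (by decide) (by decide), key 3 5 (by decide) (by decide), key 3 6 (by decide) (by decide),
    key 3 7 (by decide) (by decide)]
  ring

theorem B_EE (h : N9 ρ B) {y z : W} (hy : y ∈ Y ρ) (hz : z ∈ Y ρ) : B (EE ρ 1 y) (EE ρ 1 z) = 0 := by
  have key : ∀ i j : Fin 9, i < 4 → 4 ≤ j → B (nn9 ρ i j y) (EE ρ 1 z) = 0 := fun i j h1 h2 =>
    B_row h hy hz h1 h2
  rw [EE_apply (ρ := ρ) 1 y]
  simp only [map_add, map_sub, LinearMap.add_apply, LinearMap.sub_apply, Perm.one_apply]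
  rw [key 0 4 (by decide) (by decide), key 0 5 (by decide) (by decide),
    key 0 6 (by decide) (by decide), key 0 7 (by decide) (by decide),
    key 1 4 (by decide) (by decide), key 1 5 (by decide) (by decide),
    key 1 6 (by decide) (by decide), key 1 7 (by decide) (by decide),
    key 2 4 (by decide) (by decide), key 2 5 (by decide) (by decide),
    key 2 6 (by decide) (by decide), key 2 7 (by decide) (by decide),
    key 3 4 (by decide) (by decide), key 3 5 (by decide) (by decide),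
    key 3 6 (by decide) (by decide), key 3 7 (by decide) (by decide)]
  ring

/-- **N2** -/
theorem exists_EE (h : N9 ρ B) : ∃ u ∈ Y ρ, u ≠ 0 ∧ EE ρ 1 u = 0 := by
  by_contra hcon
  push Not at hcon
  have h1 : finrank K ↥((Y ρ).map (EE ρ 1)) = finrank K ↥(Y ρ) := finrank_map _ _ fun w hw h0 => by
    by_contra hw0
    exact hcon w hw hw0 h0
  have h2 : (Y ρ).map (EE ρ 1) = L9 ρ := by
    apply Submodule.eq_of_le_of_finrank_le
    · rintro _ ⟨y, hy, rfl⟩
      exact EE_mem hy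
    · rw [h1, h.dimY, h.dimL]
  have h3 : L9 ρ = ⊥ := by
    rw [eq_bot_iff]
    intro x hx
    refine (Submodule.mem_bot K).2 (h.ndL x hx fun z hz => ?_)
    rw [← h2] at hx hz
    obtain ⟨y, hy, rfl⟩ := hx
    obtain ⟨y', hy', rfl⟩ := hz
    exact B_EE h hy hy'
  have h4 := h.dimL
  rw [h3, finrank_bot] at h4
  exact absurd h4 (by norm_num)

theorem EE_all {u : W} (hu : u ∈ Y ρ) (h0 : EE ρ 1 u = 0) (π : Perm (Fin 9)) : EE ρ π u = 0 := by
  have heven : ∀ g : A 9, EE ρ (g : Perm (Fin 9)) u = 0 := fun g => by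
    rw [← act_EE hu, h0, map_zero]
  rcases Int.units_eq_one_or (sign π) with h1 | h1
  · exact heven ⟨π, mem_alternatingGroup.2 h1⟩
  · have h2 := heven ⟨π * swap (0 : Fin 9) 1, by
      rw [mem_alternatingGroup, Perm.sign_mul, h1, sign_swap (by decide)]
      rfl⟩
    have e : ∀ i j : Fin 9, swap (0 : Fin 9) 1 i = j → (π * swap (0 : Fin 9) 1 : Perm (Fin 9)) i = π j := fun i j hij => by
      rw [Perm.mul_apply, hij]
    rw [EE_apply] at h2 ⊢
    show _ = _
    change (nn9 ρ ((π * swap (0 : Fin 9) 1 : Perm (Fin 9)) 0) ((π * swap (0 : Fin 9) 1 : Perm (Fin 9)) 4) u +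
      nn9 ρ ((π * swap (0 : Fin 9) 1 : Perm (Fin 9)) 0) ((π * swap (0 : Fin 9) 1 : Perm (Fin 9)) 5) u -
      nn9 ρ ((π * swap (0 : Fin 9) 1 : Perm (Fin 9)) 0) ((π * swap (0 : Fin 9) 1 : Perm (Fin 9)) 6) u -
      nn9 ρ ((π * swap (0 : Fin 9) 1 : Perm (Fin 9)) 0) ((π * swap (0 : Fin 9) 1 : Perm (Fin 9)) 7) u) +
      (nn9 ρ ((π * swap (0 : Fin 9) 1 : Perm (Fin 9)) 1) ((π * swap (0 : Fin 9) 1 : Perm (Fin 9)) 4) u +
      nn9 ρ ((π * swap (0 : Fin 9) 1 : Perm (Fin 9)) 1) ((π * swap (0 : Fin 9) 1 : Perm (Fin 9)) 5) u -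
      nn9 ρ ((π * swap (0 : Fin 9) 1 : Perm (Fin 9)) 1) ((π * swap (0 : Fin 9) 1 : Perm (Fin 9)) 6) u -
      nn9 ρ ((π * swap (0 : Fin 9) 1 : Perm (Fin 9)) 1) ((π * swap (0 : Fin 9) 1 : Perm (Fin 9)) 7) u) -
      (nn9 ρ ((π * swap (0 : Fin 9) 1 : Perm (Fin 9)) 2) ((π * swap (0 : Fin 9) 1 : Perm (Fin 9)) 4) u +
      nn9 ρ ((π * swap (0 : Fin 9) 1 : Perm (Fin 9)) 2) ((π * swap (0 : Fin 9) 1 : Perm (Fin 9)) 5) u -
      nn9 ρ ((π * swap (0 : Fin 9) 1 : Perm (Fin 9)) 2) ((π * swap (0 : Fin 9) 1 : Perm (Fin 9)) 6) u -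
      nn9 ρ ((π * swap (0 : Fin 9) 1 : Perm (Fin 9)) 2) ((π * swap (0 : Fin 9) 1 : Perm (Fin 9)) 7) u) -
      (nn9 ρ ((π * swap (0 : Fin 9) 1 : Perm (Fin 9)) 3) ((π * swap (0 : Fin 9) 1 : Perm (Fin 9)) 4) u +
      nn9 ρ ((π * swap (0 : Fin 9) 1 : Perm (Fin 9)) 3) ((π * swap (0 : Fin 9) 1 : Perm (Fin 9)) 5) u -
      nn9 ρ ((π * swap (0 : Fin 9) 1 : Perm (Fin 9)) 3) ((π * swap (0 : Fin 9) 1 : Perm (Fin 9)) 6) u -
      nn9 ρ ((π * swap (0 : Fin 9) 1 : Perm (Fin 9)) 3) ((π * swap (0 : Fin 9) 1 : Perm (Fin 9)) 7) u) = 0 at h2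
    rw [e 0 1 (by decide), e 1 0 (by decide), e 2 2 (by decide), e 3 3 (by decide), e 4 4 (by decide), e 5 5 (by decide),
      e 6 6 (by decide), e 7 7 (by decide)] at h2
    rw [← h2]
    abel

/-- **N3** -/
theorem sigma_zero (h : N9 ρ B) {u : W} (hu : u ∈ Y ρ) (h0 : EE ρ 1 u = 0) (i j k : Fin 9) :
    nn9 ρ i j u + nn9 ρ j k u + nn9 ρ k i u = 0 := by
  have hE := EE_all hu h0
  -- first step
  have s1 : ∀ π : Perm (Fin 9), (nn9 ρ (π 0) (π 4) u - nn9 ρ (π 8) (π 4) u) + (nn9 ρ (π 0) (π 5) u - nn9 ρ (π 8) (π 5) u) -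
      (nn9 ρ (π 0) (π 6) u - nn9 ρ (π 8) (π 6) u) - (nn9 ρ (π 0) (π 7) u - nn9 ρ (π 8) (π 7) u) = 0 := by
    intro π
    have h1 := hE π
    have h2 := hE (π * swap (0 : Fin 9) 8)
    rw [EE_apply] at h1 h2
    have e : ∀ i j : Fin 9, swap (0 : Fin 9) 8 i = j → (π * swap (0 : Fin 9) 8 : Perm (Fin 9)) i = π j := fun i j hij => by
      rw [Perm.mul_apply, hij]
    rw [e 0 8 (by decide), e 1 1 (by decide), e 2 2 (by decide), e 3 3 (by decide), e 4 4 (by decide), e 5 5 (by decide),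
      e 6 6 (by decide), e 7 7 (by decide)] at h2
    have h5 := congrArg₂ (fun a b : W => a - b) h1 h2
    simp only [sub_zero] at h5
    rw [← h5]
    abel
  -- second step
  have s2 : ∀ π : Perm (Fin 9), nn9 ρ (π 0) (π 4) u - nn9 ρ (π 8) (π 4) u = nn9 ρ (π 0) (π 1) u - nn9 ρ (π 8) (π 1) u := by
    intro π
    have h1 := s1 π
    have h2 := s1 (π * swap (1 : Fin 9) 4)
    have e : ∀ i j : Fin 9, swap (1 : Fin 9) 4 i = j → (π * swap (1 : Fin 9) 4 : Perm (Fin 9)) i = π j := fun i j hij => by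
      rw [Perm.mul_apply, hij]
    rw [e 0 0 (by decide), e 8 8 (by decide), e 4 1 (by decide), e 5 5 (by decide),
      e 6 6 (by decide), e 7 7 (by decide)] at h2
    have h5 := congrArg₂ (fun a b : W => a - b) h1 h2
    simp only [sub_zero] at h5
    rw [← sub_eq_zero, ← h5]
    abel
  have s3 : ∀ i k j l : Fin 9, i ≠ k → i ≠ j → i ≠ l → k ≠ j → k ≠ l → j ≠ l →
      nn9 ρ i j u - nn9 ρ k j u = nn9 ρ i l u - nn9 ρ k l u := by
    intro i k j l h1 h2 h4 h5 h6 h7
    obtain ⟨π, hπ⟩ := Equiv.Perm.exists_extending_pair ![0, 8, 4, 1] ![i, k, j, l]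
      (inj4 (by decide) (by decide) (by decide) (by decide) (by decide) (by decide)) (inj4 h1 h2 h4 h5 h6 h7)
    have p0 : π 0 = i := hπ 0
    have p8 : π 8 = k := hπ 1
    have p4 : π 4 = j := hπ 2
    have p1 : π 1 = l := hπ 3
    have := s2 π
    rwa [p0, p8, p4, p1] at this
  have s4 : ∀ i k j : Fin 9, i ≠ k → i ≠ j → k ≠ j → nn9 ρ i j u - nn9 ρ k j u = nn9 ρ i k u := by
    intro i k j h1 h2 h4
    set C := nn9 ρ i j u - nn9 ρ k j u with hC
    have h5 : ∑ l, (nn9 ρ i l u - nn9 ρ k l u - C) = (nn9 ρ i i u - nn9 ρ k i u - C) + (nn9 ρ i k u - nn9 ρ k k u - C) := by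
      refine Finset.sum_eq_add i k h1 ?_ (fun h6 => absurd (Finset.mem_univ _) h6) (fun h6 => absurd (Finset.mem_univ _) h6)
      intro l _ hl
      by_cases hlj : l = j
      · rw [hlj, hC, sub_self]
      · rw [hC, s3 i k j l h1 h2 hl.1.symm h4 hl.2.symm (Ne.symm hlj), sub_self]
    rw [Finset.sum_sub_distrib, Finset.sum_sub_distrib, sum_snd h hu, sum_snd h hu, Finset.sum_const, Finset.card_univ,
      Fintype.card_fin, nn9_self, nn9_self, anti h hu i k] at h5
    have h3w : ∀ w : W, (3 : K) • w = 0 := fun w => by rw [h.three, zero_smul]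
    have e9 : (9 : ℕ) • C = 0 := by
      have : (9 : ℕ) • C = (3 : K) • ((3 : K) • C) := by
        rw [smul_smul, ← Nat.cast_smul_eq_nsmul K]
        norm_num
      rw [this, h3w]
    rw [e9] at h5
    have h6 : (3 : K) • (nn9 ρ i k u - C) = 0 := h3w _
    have h7 : (3 : K) • (nn9 ρ i k u - C) = (nn9 ρ i k u - C) + (nn9 ρ i k u - C) + (nn9 ρ i k u - C) := by
      rw [show (3 : K) = 1 + 1 + 1 by norm_num, add_smul, add_smul, one_smul]
    have h8 : (nn9 ρ i k u - C) + (nn9 ρ i k u - C) = 0 := by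
      rw [sub_self, sub_zero] at h5
      rw [h5]
      abel
    rw [h7, h8, zero_add] at h6
    exact (sub_eq_zero.1 h6).symm
  by_cases hij : i = j
  · subst hij
    rw [nn9_self, zero_add, anti h hu i k, add_neg_cancel]
  by_cases hjk : j = k
  · subst hjk
    rw [nn9_self, add_zero, anti h hu i j, add_neg_cancel]
  by_cases hik : i = k
  · subst hik
    rw [nn9_self, add_zero, anti h hu i j, add_neg_cancel]
  rw [anti h hu k j, anti h hu i k, ← s4 i k j hik hij (Ne.symm hjk)]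
  abel

/-- the eigenspace of `Q` is nondegenerate -/
theorem ndL_of (h2 : (2 : K) ≠ 0) (hnd : ∀ v, (∀ w, B v w = 0) → v = 0)
    (hinv : ∀ (g : A 9) (v w : W), B (ρ g v) (ρ g w) = B v w) : ∀ y ∈ L9 ρ, (∀ z ∈ L9 ρ, B y z = 0) → y = 0 := by
  intro y hy h0
  apply hnd
  intro w
  have hq : ∀ {q : A 9}, q * q = 1 → ∀ v : W, ρ q (ρ q v) = v := fun {q} hqq v => by rw [← r_mul, hqq, r_one]
  have c12 : q1 * q2 = q2 * q1 := by decide +kernel
  have c13 : q1 * q3 = q3 * q1 := by decide +kernel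
  have c14 : q1 * q4 = q4 * q1 := by decide +kernel
  have c23 : q2 * q3 = q3 * q2 := by decide +kernel
  have c24 : q2 * q4 = q4 * q2 := by decide +kernel
  have c34 : q3 * q4 = q4 * q3 := by decide +kernel
  have d1 : q1 * q1 = 1 := by decide +kernel
  have d2 : q2 * q2 = 1 := by decide +kernel
  have d3 : q3 * q3 = 1 := by decide +kernel
  have d4 : q4 * q4 = 1 := by decide +kernel
  have hc : ∀ {a b : A 9}, a * b = b * a → ∀ v : W, ρ a (ρ b v) = ρ b (ρ a v) := fun {a b} hab v => by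
    rw [← r_mul, hab, r_mul]
  obtain ⟨y1, y2, y3, y4⟩ := hy
  -- the projections
  set w1 := w + ρ q1 w with hw1
  set w2 := w1 + ρ q2 w1 with hw2
  set w3 := w2 - ρ q3 w2 with hw3
  set w4 := w3 - ρ q4 w3 with hw4
  have a1 : ρ q1 w1 = w1 := by rw [hw1, map_add, hq d1, add_comm]
  have a2 : ρ q1 w2 = w2 := by rw [hw2, map_add, hc c12, a1]
  have a3 : ρ q1 w3 = w3 := by rw [hw3, map_sub, hc c13, a2]
  have a4 : ρ q1 w4 = w4 := by rw [hw4, map_sub, hc c14, a3]
  have b2 : ρ q2 w2 = w2 := by rw [hw2, map_add, hq d2, add_comm]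
  have b3 : ρ q2 w3 = w3 := by rw [hw3, map_sub, hc c23, b2]
  have b4 : ρ q2 w4 = w4 := by rw [hw4, map_sub, hc c24, b3]
  have e3 : ρ q3 w3 = -w3 := by rw [hw3, map_sub, hq d3, neg_sub]
  have e4 : ρ q3 w4 = -w4 := by rw [hw4, map_sub, hc c34, e3, map_neg]; abel
  have f4 : ρ q4 w4 = -w4 := by rw [hw4, map_sub, hq d4, neg_sub]
  have h4 : B y w4 = 0 := h0 w4 ⟨a4, b4, e4, f4⟩
  have k1 : ∀ v, B y (ρ q1 v) = B y v := fun v => by
    have := hinv q1 y v
    rwa [y1] at this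
  have k2 : ∀ v, B y (ρ q2 v) = B y v := fun v => by
    have := hinv q2 y v
    rwa [y2] at this
  have k3 : ∀ v, B y (ρ q3 v) = -B y v := fun v => by
    have := hinv q3 y v
    rw [y3, map_neg, LinearMap.neg_apply] at this
    rw [← this, neg_neg]
  have k4 : ∀ v, B y (ρ q4 v) = -B y v := fun v => by
    have := hinv q4 y v
    rw [y4, map_neg, LinearMap.neg_apply] at this
    rw [← this, neg_neg]
  rw [hw4, map_sub, k4, hw3, map_sub, k3, hw2, map_add, k2, hw1, map_add, k1] at h4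
  have h5 : (2 : K) * (2 * (2 * (2 * B y w))) = 0 := by linear_combination h4
  have h6 := (mul_eq_zero.1 h5).resolve_left h2
  have h7 := (mul_eq_zero.1 h6).resolve_left h2
  have h8 := (mul_eq_zero.1 h7).resolve_left h2
  exact (mul_eq_zero.1 h8).resolve_left h2

/-- **N2 + N3** -/
theorem exists_u0 (h : N9 ρ B) : ∃ u ∈ Y ρ, u ≠ 0 ∧ ∀ i j k, nn9 ρ i j u + nn9 ρ j k u + nn9 ρ k i u = 0 := by
  obtain ⟨u, hu, hu0, h0⟩ := exists_EE h
  exact ⟨u, hu, hu0, sigma_zero h hu h0⟩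

end

end Cfsg.Agent.R2.T1.Nodd
end

-- part: R2/T1/Nodd/N9L
section
/-!
# S5771, NODD: the eigenspace `L9` of `Q` is 2-dimensional (helper25)

* `finrank_L9` : `finrank (L9 ρ) = 2` for `ρ = V F ∘ ψ`.
-/

set_option autoImplicit false
set_option maxRecDepth 100000

namespace Cfsg.Agent.R2.T1.Nodd

open Cfsg Cfsg.Lie Module Equiv Equiv.Perm
open Cfsg.Agent.H943.E7V.Block (D1 rho)
open Cfsg.Agent.H952.F4 (ev es)
open Cfsg.Agent.R2.T1 Cfsg.Agent.R2.T1.Art Cfsg.Agent.R2.T1.Odd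
open Cfsg.Agent.R2.T1.T3 (A)

universe u

/-- representatives of the classes: `1`, `2²`, `2⁴` -/
def rL : List (List (ℕ × ℕ)) :=
  [[], [(0, 1), (2, 3)], [(0, 1), (2, 3), (4, 5), (6, 7)]]

def gL : List (List (ℕ × ℕ)) :=
  [[(0, 1), (2, 3)], [(4, 5), (6, 7)], [(0, 2), (1, 3), (4, 6), (5, 7)]]

def eL : List (List ℕ) :=
  [[], [0], [1], [2], [1, 0], [2, 0], [2, 1], [2, 1, 0]]

def dL : List (ℕ × List (ℕ × ℕ)) :=
  [(0, []), (1, []), (1, [(0, 4), (1, 5), (2, 6), (3, 7)]), (2, [(1, 2), (5, 6)]), (2, []), (2, [(0, 3), (3, 2),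
   (2, 1), (5, 6)]), (2, [(0, 2), (2, 1), (5, 7), (7, 6)]), (2, [(1, 3), (3, 2), (5, 7), (7, 6)])]

theorem chkG_L : chkG 8 gL eL = true := by decide +kernel
theorem chkC_L : chkC 8 gL eL [] rL dL = true := by decide +kernel
theorem len_L : eL.length = 8 := by decide +kernel
theorem cnt_L : (List.range 3).map (fun k => (dL.map Prod.fst).count k) = [1, 2, 5] := by decide +kernel

theorem rL_eq : rL = [[], lt, ls] := by decide

theorem P9 {l : List (ℕ × ℕ)} (h : vl 9 l = true) {g : A 9} (hg : pm 9 l = (g : Perm (Fin 9))) : P 9 l = g :=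
  Subtype.ext (by rw [coe_P le_rfl h]; exact hg)

theorem P9_q1 : P 9 [(0, 1), (2, 3)] = q1 := P9 (by decide) (by decide +kernel)
theorem P9_q2 : P 9 [(4, 5), (6, 7)] = q2 := P9 (by decide) (by decide +kernel)
theorem P9_q3 : P 9 [(0, 2), (1, 3)] = q3 := P9 (by decide) (by decide +kernel)
theorem P9_q4 : P 9 [(4, 6), (5, 7)] = q4 := P9 (by decide) (by decide +kernel)
theorem P9_q34 : P 9 [(0, 2), (1, 3), (4, 6), (5, 7)] = q3 * q4 := P9 (by decide) (by decide +kernel)

section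
variable {F : Type u} [Field F] [Finite F] (h2 : (2 : F) ≠ 0) {ψ : A 9 →* Gh F} (hψ : ∀ a, ad F (ψ a) = 1 → a = 1)
include h2 hψ

theorem finrank_inv_L : finrank F ↥(inv (MonoidHom.comp (V F) ψ : Representation F (A 9) (D1 → F)) (Tg 9 gL)) = 4 := by
  set ρ : Representation F (A 9) (D1 → F) := MonoidHom.comp (V F) ψ with hρ
  obtain ⟨tt, ts, -⟩ := types (n := 9) (by norm_num) h2 hψ
  have tt' : ev (ρ (P 9 lt)) 1 = 32 := tt
  have ts' : ev (ρ (P 9 ls)) 1 = 24 := ts
  have o0 : om ρ 1 = 56 := by rw [om_one, finrank_V]; norm_num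
  have ot : om ρ (P 9 lt) = 8 := by
    rw [om_prime ρ Nat.prime_two (orderOf_P (m := 8) (by norm_num) (by decide +kernel)), finrank_V, tt']
    norm_num
  have os : om ρ (P 9 ls) = -8 := by
    rw [om_prime ρ Nat.prime_two (orderOf_P (m := 8) (by norm_num) (by decide +kernel)), finrank_V, ts']
    norm_num
  have h8 : ((8 : ℕ) : F) ≠ 0 := by simpa only [_root_.Nat.cast_ofNat, _root_.ne_eq, _root_.Nat.reducePow] using two_pow_ne h2 3
  have dL := dimC (n := 9) (by norm_num) chkG_L chkC_L len_L (K := 3) rfl h8 cnt_L ρ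
  simp only [rL_eq, Finset.sum_range_succ, Finset.sum_range_zero, List.getD_cons_zero, List.getD_cons_succ, P_nil,
    o0, os, ot] at dL
  have : (finrank F ↥(inv ρ (Tg 9 gL)) : ℚ) = 4 := by
    push_cast at dL
    linarith only [dL]
  exact_mod_cast this

theorem finrank_L9 : finrank F ↥(L9 (MonoidHom.comp (V F) ψ : Representation F (A 9) (D1 → F))) = 2 := by
  have hK := finrank_inv_L h2 hψ
  obtain ⟨-, -, -, -, hQ, -⟩ := types (n := 9) (by norm_num) h2 hψ
  set ρ : Representation F (A 9) (D1 → F) := MonoidHom.comp (V F) ψ with hρ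
  have hQ' : finrank F ↥(inv ρ (Tg 9 gQ)) = 2 := hQ
  have memK : ∀ {v}, v ∈ inv ρ (Tg 9 gL) ↔ ρ q1 v = v ∧ ρ q2 v = v ∧ ρ (q3 * q4) v = v := by
    intro v
    unfold Tg
    rw [mem_inv_closure]
    constructor
    · intro h
      exact ⟨h _ ⟨[(0, 1), (2, 3)], by decide, P9_q1⟩, h _ ⟨[(4, 5), (6, 7)], by decide, P9_q2⟩,
        h _ ⟨[(0, 2), (1, 3), (4, 6), (5, 7)], by decide, P9_q34⟩⟩
    · rintro ⟨h1, h2, h3⟩ x ⟨g, hg, rfl⟩
      have hg' : g = [(0, 1), (2, 3)] ∨ g = [(4, 5), (6, 7)] ∨ g = [(0, 2), (1, 3), (4, 6), (5, 7)] := by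
        simpa [gL] using hg
      rcases hg' with rfl | rfl | rfl
      · rw [P9_q1]; exact h1
      · rw [P9_q2]; exact h2
      · rw [P9_q34]; exact h3
  have memQ : ∀ {v}, v ∈ inv ρ (Tg 9 gQ) ↔ ρ q1 v = v ∧ ρ q3 v = v ∧ ρ q2 v = v ∧ ρ q4 v = v := by
    intro v
    unfold Tg
    rw [mem_inv_closure]
    constructor
    · intro h
      exact ⟨h _ ⟨[(0, 1), (2, 3)], by decide, P9_q1⟩, h _ ⟨[(0, 2), (1, 3)], by decide, P9_q3⟩,
        h _ ⟨[(4, 5), (6, 7)], by decide, P9_q2⟩, h _ ⟨[(4, 6), (5, 7)], by decide, P9_q4⟩⟩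
    · rintro ⟨h1, h2, h3, h4⟩ x ⟨g, hg, rfl⟩
      have hg' : g = [(0, 1), (2, 3)] ∨ g = [(0, 2), (1, 3)] ∨ g = [(4, 5), (6, 7)] ∨ g = [(4, 6), (5, 7)] := by
        simpa [gQ] using hg
      rcases hg' with rfl | rfl | rfl | rfl
      · rw [P9_q1]; exact h1
      · rw [P9_q3]; exact h2
      · rw [P9_q2]; exact h3
      · rw [P9_q4]; exact h4
  have c13 : q1 * q3 = q3 * q1 := by decide +kernel
  have c23 : q2 * q3 = q3 * q2 := by decide +kernel
  have c34 : q3 * q4 = q4 * q3 := by decide +kernel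
  have d3 : q3 * q3 = 1 := by decide +kernel
  have hc : ∀ {a b : A 9}, a * b = b * a → ∀ v, ρ a (ρ b v) = ρ b (ρ a v) := fun {a b} hab v => by
    rw [← r_mul, hab, r_mul]
  have hq3 : ∀ v, ρ q3 (ρ q3 v) = v := fun v => by rw [← r_mul, d3, r_one]
  have h1 := Submodule.finrank_sup_add_finrank_inf_eq (inv ρ (Tg 9 gQ)) (L9 ρ)
  have h3 : inv ρ (Tg 9 gQ) ⊓ L9 ρ = ⊥ := by
    rw [eq_bot_iff]
    rintro v ⟨hv1, hv2⟩
    rw [Submodule.mem_bot]
    have e1 := (memQ.1 hv1).2.1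
    have e2 := hv2.2.2.1
    rw [e1] at e2
    have h5 : (2 : F) • v = 0 := by
      rw [two_smul]
      nth_rewrite 2 [e2]
      exact add_neg_cancel v
    exact (smul_eq_zero.1 h5).resolve_left h2
  have h4 : inv ρ (Tg 9 gQ) ⊔ L9 ρ = inv ρ (Tg 9 gL) := by
    apply le_antisymm
    · rw [sup_le_iff]
      constructor
      · intro v hv
        obtain ⟨a1, a2, a3, a4⟩ := memQ.1 hv
        exact memK.2 ⟨a1, a3, by rw [r_mul, a4, a2]⟩
      · rintro v ⟨a1, a2, a3, a4⟩
        exact memK.2 ⟨a1, a2, by rw [r_mul, a4, map_neg, a3, neg_neg]⟩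
    · intro v hv
      obtain ⟨a1, a2, a3⟩ := memK.1 hv
      have a4 : ρ q4 v = ρ q3 v := by
        have := congrArg (ρ q3) a3
        rwa [r_mul, hq3] at this
      have e : v = (2 : F)⁻¹ • (v + ρ q3 v) + (2 : F)⁻¹ • (v - ρ q3 v) := by
        rw [← smul_add]
        have : v + ρ q3 v + (v - ρ q3 v) = (2 : F) • v := by rw [two_smul]; abel
        rw [this, smul_smul, inv_mul_cancel₀ h2, one_smul]
      rw [e]
      refine Submodule.add_mem_sup (Submodule.smul_mem _ _ (memQ.2 ⟨?_, ?_, ?_, ?_⟩))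
        (Submodule.smul_mem _ _ ⟨?_, ?_, ?_, ?_⟩)
      · rw [map_add, hc c13, a1]
      · rw [map_add, hq3, add_comm]
      · rw [map_add, hc c23, a2]
      · rw [map_add, ← hc c34, a4, hq3, add_comm]
      · rw [map_sub, hc c13, a1]
      · rw [map_sub, hc c23, a2]
      · rw [map_sub, hq3, neg_sub]
      · rw [map_sub, ← hc c34, a4, hq3, neg_sub]
  rw [h3, h4, finrank_bot, hK, hQ'] at h1
  omega

/-- `A₈` has no fixed vectors -/
theorem fix_nine {w : D1 → F} (hw : ∀ g : A 9, (g : Perm (Fin 9)) 8 = 8 →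
    (MonoidHom.comp (V F) ψ : Representation F (A 9) (D1 → F)) g w = w) : w = 0 := by
  obtain ⟨-, -, -, -, -, hQ, -⟩ := types (n := 9) (by norm_num) h2 hψ
  set ρ : Representation F (A 9) (D1 → F) := MonoidHom.comp (V F) ψ with hρ
  have h1 : w ∈ inv ρ (Tg 9 gQs) := by
    unfold Tg
    rw [mem_inv_closure]
    rintro x ⟨g, hg, rfl⟩
    apply hw
    have hv : ∀ g ∈ gQs, vl 9 g = true ∧ ap g 8 = 8 := by decide +kernel
    obtain ⟨hv1, hv2⟩ := hv g hg
    rw [coe_P le_rfl hv1]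
    apply Fin.ext
    rw [pm_apply (vl_iff.1 hv1).2]
    exact hv2
  have h3 : inv ρ (Tg 9 gQs) = ⊥ := Submodule.finrank_eq_zero.1 hQ
  rwa [h3, Submodule.mem_bot] at h1

/-- the structure `N9` from the properties of the space of vectors fixed by `A₇` -/
theorem n9_of (h3 : (3 : F) = 0) (e1 : finrank F ↥(Y (MonoidHom.comp (V F) ψ : Representation F (A 9) (D1 → F))) = 2)
    (e2 : ∀ y ∈ Y (MonoidHom.comp (V F) ψ : Representation F (A 9) (D1 → F)),
      (∀ z ∈ Y (MonoidHom.comp (V F) ψ : Representation F (A 9) (D1 → F)), sf F y z = 0) → y = 0) :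
    N9 (MonoidHom.comp (V F) ψ : Representation F (A 9) (D1 → F)) (sf F) where
  three := h3
  alt := sf_self
  inv := fun g v w => sf_V (ψ g) v w
  dimY := e1
  ndY := e2
  fix := fun _ hw => fix_nine h2 hψ hw
  dimL := finrank_L9 h2 hψ
  ndL := ndL_of h2 (fun _ hv => sf_nondeg' hv) (fun g v w => sf_V (ψ g) v w)

end

end Cfsg.Agent.R2.T1.Nodd
end

private theorem dce_846d4988fbd1 : _root_.True := by
  try have : _root_.True := by simp only [_root_.Cfsg.Agent.R2.T1.Nodd.nn9.eq_1]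
  try have : _root_.True := by simp only [_root_.Cfsg.Agent.R2.T1.Nodd.gL.eq_1]
  try have : _root_.True := by simp only [_root_.Cfsg.Agent.R2.T1.Odd.gQ.eq_1]
  exact _root_.True.intro
end

-- part: R2/T1/P3/PQ
section
prune_inst 0x4f0007d047522000000000584030000602000000000088c0084c0000409098440000200403b30001210a00c804001006811000000424000000e000400000001000080000030400000000010000000000000000000000000000000000000010000000000000
set_option linter.all false
open scoped Cfsg.Agent.FastGrp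

-- part: R2/T1/Mu/Q1
section
/-!
# MU27 (S5771), Q1: the fixed space of an elementary abelian group of order 16 (helper27)

`Q1` : for the 2-generator pairs `t1, t2`, `s1, s2` of involutions of types 32 / 24 the common fixed space (of dimension 2) is
spanned by two pure vectors.
-/

set_option autoImplicit false
set_option maxRecDepth 100000

namespace Cfsg.Agent.R2.T1.Mu

open Cfsg Cfsg.Lie Matrix Module
open Cfsg.Agent.R2.T1 Cfsg.Agent.R2.PX
open Cfsg.Agent.H943.E7V.Block (D1 rho)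
open Cfsg.Agent.H952.F4 (ev)
open Cfsg.Agent.BpExc.TorAll (HAlg)

universe u
section
variable {F : Type u} [Field F]

/-! ### traces and dimensions -/

theorem trace_inv (h2 : (2 : F) ≠ 0) {t : Gh F} (ht : t * t = 1) :
    Matrix.trace (rho F t) = 2 * (ev (V F t) 1 : F) - 56 := by
  have hS := rho_sq ht
  have hp : LinearMap.IsProj (Module.End.eigenspace (V F t) 1) (Matrix.toLin' ((2 : F)⁻¹ • (1 + rho F t))) := by
    constructor
    · intro x
      rw [Module.End.mem_eigenspace_iff, one_smul, V_apply, Matrix.toLin'_apply, Matrix.smul_mulVec, Matrix.mulVec_smul,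
        Matrix.mulVec_mulVec, mul_add, mul_one, hS, add_comm]
    · intro x hx
      rw [Module.End.mem_eigenspace_iff, one_smul, V_apply] at hx
      rw [Matrix.toLin'_apply, Matrix.smul_mulVec, Matrix.add_mulVec, Matrix.one_mulVec, hx, ← two_smul F x, smul_smul,
        inv_mul_cancel₀ h2, one_smul]
  have h1 := hp.trace
  rw [Matrix.trace_toLin'_eq, Matrix.trace_smul, Matrix.trace_add, Matrix.trace_one] at h1
  have hc : (Fintype.card D1 : F) = 56 := by
    have : Fintype.card D1 = 56 := by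
      have := finrank_V (F := F)
      rwa [Module.finrank_fintype_fun_eq_card] at this
    rw [this]
    norm_num
  rw [hc, smul_eq_mul] at h1
  have h3 : Matrix.trace (rho F t) = 2 * (2⁻¹ * (56 + Matrix.trace (rho F t))) - 56 := by
    rw [← mul_assoc, mul_inv_cancel₀ h2]
    ring
  rw [h3, h1]
  rfl

theorem trace_pj (h2 : (2 : F) ≠ 0) {t s : Gh F} (hs : s * s = 1) (hts : (t * s) * (t * s) = 1)
    (h32 : ev (V F s) 1 = 32) (h24 : ev (V F (t * s)) 1 = 24) : Matrix.trace (pj t * rho F s) ≠ 0 := by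
  unfold pj
  rw [smul_mul_assoc, sub_mul, one_mul, Matrix.trace_smul, Matrix.trace_sub, ← map_mul, trace_inv h2 hs, trace_inv h2 hts,
    h32, h24, smul_eq_mul]
  refine mul_ne_zero (inv_ne_zero h2) ?_
  have e : (2 * ((32 : ℕ) : F) - 56 - (2 * ((24 : ℕ) : F) - 56)) = 2 ^ 4 := by
    push_cast
    norm_num
  rw [e]
  exact pow_ne_zero _ h2

theorem ev_one : ev (V F 1) 1 = 56 := by
  have : Module.End.eigenspace (V F 1) (1 : F) = ⊤ := by
    rw [eq_top_iff]
    intro x _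
    rw [Module.End.mem_eigenspace_iff, one_smul, V_one]
  show finrank F ↥(Module.End.eigenspace (V F 1) (1 : F)) = 56
  rw [this, finrank_top, finrank_V]

/-- `V^{t'}` is not contained in `V^t` -/
theorem pj_ne (h2 : (2 : F) ≠ 0) {t t' : Gh F} (ht : t * t = 1) (h : t * t' = t' * t)
    (h32 : ev (V F t) 1 = 32) (h32' : ev (V F t') 1 = 32) (hne : t ≠ t') : (1 + rho F t') * pj t ≠ 0 := by
  intro h0
  have h1 : (1 + rho F t') * (1 - rho F t) = 0 := by
    unfold pj at h0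
    rw [mul_smul_comm] at h0
    exact (smul_eq_zero.1 h0).resolve_left (inv_ne_zero h2)
  have hcomm := rho_comm h
  have hle : Module.End.eigenspace (V F t') 1 ≤ Module.End.eigenspace (V F t) 1 := by
    intro v hv
    rw [Module.End.mem_eigenspace_iff, one_smul, V_apply] at hv ⊢
    have h3 : ((1 + rho F t') * (1 - rho F t)) *ᵥ v = 0 := by rw [h1, Matrix.zero_mulVec]
    have h4 : (1 + rho F t') * (1 - rho F t) = (1 - rho F t) * (1 + rho F t') := by
      rw [mul_sub, sub_mul, add_mul, add_mul, mul_add, mul_add, hcomm]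
      simp only [mul_one, one_mul]
    rw [h4, ← Matrix.mulVec_mulVec, Matrix.add_mulVec, Matrix.one_mulVec, hv, ← two_smul F v, Matrix.mulVec_smul,
      Matrix.sub_mulVec, Matrix.one_mulVec] at h3
    exact (sub_eq_zero.1 ((smul_eq_zero.1 h3).resolve_left h2)).symm
  have heq := Submodule.eq_of_le_of_finrank_eq hle (by
    show ev (V F t') 1 = ev (V F t) 1
    rw [h32, h32'])
  apply hne
  have hrho : rho F t = rho F t' := by
    refine mat_ext fun b => ?_
    have hS := rho_sq ht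
    have e1 : bs F b + rho F t *ᵥ bs F b ∈ Module.End.eigenspace (V F t) 1 := by
      rw [Module.End.mem_eigenspace_iff, one_smul, V_apply, Matrix.mulVec_add, Matrix.mulVec_mulVec, hS, Matrix.one_mulVec,
        add_comm]
    rw [← heq, Module.End.mem_eigenspace_iff, one_smul, V_apply, Matrix.mulVec_add, Matrix.mulVec_mulVec] at e1
    have e2 : ((1 + rho F t') * (1 - rho F t)) *ᵥ bs F b = 0 := by rw [h1, Matrix.zero_mulVec]
    rw [add_mul, one_mul, mul_sub, mul_one, Matrix.add_mulVec, Matrix.sub_mulVec, Matrix.one_mulVec, Matrix.sub_mulVec] at e2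
    have e3 : (2 : F) • (rho F t' *ᵥ bs F b) = (2 : F) • (rho F t *ᵥ bs F b) := by
      rw [two_smul, two_smul]
      have e4 : rho F t' *ᵥ bs F b + rho F t' *ᵥ bs F b =
          (bs F b - rho F t *ᵥ bs F b + (rho F t' *ᵥ bs F b - (rho F t' * rho F t) *ᵥ bs F b)) +
          (rho F t' *ᵥ bs F b + (rho F t' * rho F t) *ᵥ bs F b) - bs F b + rho F t *ᵥ bs F b := by abel
      rw [e4, e2, e1]
      abel
    have e5 : (2 : F) • (rho F t *ᵥ bs F b - rho F t' *ᵥ bs F b) = 0 := by rw [smul_sub, e3, sub_self]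
    exact sub_eq_zero.1 ((smul_eq_zero.1 e5).resolve_left h2)
  exact rho_injective hrho

/-! ### tori -/

/-- a commuting pair `P`, `z` as for `Inv.exp` -/
structure TP (P z : Matrix D1 D1 F) : Prop where
  two : (2 : F) ≠ 0
  PP : P * P = P
  Pz : P * z = z
  zP : z * P = z
  zz : z * z = P

theorem tz_one {P z : Matrix D1 D1 F} (h2 : (2 : F) ≠ 0) : tz P z 1 = 1 := by
  unfold tz
  rw [inv_one, add_assoc, ← smul_add]
  have e : P + z + (P - z) = (2 : F) • P := by
    rw [two_smul]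
    abel
  rw [e, smul_smul, one_div, inv_mul_cancel₀ h2, one_smul, sub_add_cancel]

theorem TP.tz_mul {P z : Matrix D1 D1 F} (h : TP P z) {a b : F} (ha : a ≠ 0) (hb : b ≠ 0) :
    tz P z a * tz P z b = tz P z (a * b) := by
  have e1 : (1 - P) * (1 - P) = 1 - P := by rw [mul_sub, sub_mul, sub_mul, h.PP, one_mul, mul_one, one_mul]; abel
  have e2 : (1 - P) * (P + z) = 0 := by rw [sub_mul, one_mul, mul_add, h.PP, h.Pz, sub_self]
  have e3 : (1 - P) * (P - z) = 0 := by rw [sub_mul, one_mul, mul_sub, h.PP, h.Pz, sub_self]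
  have e4 : (P + z) * (1 - P) = 0 := by rw [mul_sub, mul_one, add_mul, h.PP, h.zP, sub_self]
  have e5 : (P - z) * (1 - P) = 0 := by rw [mul_sub, mul_one, sub_mul, h.PP, h.zP, sub_self]
  have e6 : (P + z) * (P + z) = (2 : F) • (P + z) := by
    rw [mul_add, add_mul, add_mul, h.PP, h.Pz, h.zP, h.zz, two_smul]
    abel
  have e7 : (P + z) * (P - z) = 0 := by
    rw [mul_sub, add_mul, add_mul, h.PP, h.Pz, h.zP, h.zz]
    abel
  have e8 : (P - z) * (P + z) = 0 := by
    rw [mul_add, sub_mul, sub_mul, h.PP, h.Pz, h.zP, h.zz]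
    abel
  have e9 : (P - z) * (P - z) = (2 : F) • (P - z) := by
    rw [mul_sub, sub_mul, sub_mul, h.PP, h.Pz, h.zP, h.zz, two_smul]
    abel
  unfold tz
  generalize 1 - P = R at *
  generalize P + z = U at *
  generalize P - z = W at *
  have h2 := h.two
  have f1 : b / 2 * (a / 2 * 2) = a * b / 2 := by field_simp
  have f2 : b⁻¹ / 2 * (a⁻¹ / 2 * 2) = (a * b)⁻¹ / 2 := by field_simp
  simp only [mul_add, add_mul, mul_smul_comm, smul_mul_assoc, e1, e2, e3, e4, e5, e6, e7, e8, e9,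
    smul_zero, add_zero, zero_add, smul_smul, f1, f2]

theorem TP.tz_pow {P z : Matrix D1 D1 F} (h : TP P z) {a : F} (ha : a ≠ 0) (k : ℕ) :
    tz P z a ^ k = tz P z (a ^ k) := by
  induction k with
  | zero => rw [pow_zero, pow_zero, tz_one h.two]
  | succ k ih => rw [pow_succ, ih, h.tz_mul (pow_ne_zero _ ha) ha, pow_succ]

theorem TP.fix {P z : Matrix D1 D1 F} (h : TP P z) {a : F} (ha1 : a ≠ 1) {v : D1 → F}
    (hv : tz P z a *ᵥ v = v) : P *ᵥ v = 0 := by
  have h2 := h.two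
  have e6 : (P + z) * (P + z) = (2 : F) • (P + z) := by
    rw [mul_add, add_mul, add_mul, h.PP, h.Pz, h.zP, h.zz, two_smul]
    abel
  have e7 : (P + z) * (P - z) = 0 := by
    rw [mul_sub, add_mul, add_mul, h.PP, h.Pz, h.zP, h.zz]
    abel
  have e8 : (P - z) * (P + z) = 0 := by
    rw [mul_add, sub_mul, sub_mul, h.PP, h.Pz, h.zP, h.zz]
    abel
  have e9 : (P - z) * (P - z) = (2 : F) • (P - z) := by
    rw [mul_sub, sub_mul, sub_mul, h.PP, h.Pz, h.zP, h.zz, two_smul]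
    abel
  have e4 : (P + z) * (1 - P) = 0 := by rw [mul_sub, mul_one, add_mul, h.PP, h.zP, sub_self]
  have e5 : (P - z) * (1 - P) = 0 := by rw [mul_sub, mul_one, sub_mul, h.PP, h.zP, sub_self]
  have k1 : (P + z) *ᵥ v = 0 := by
    have h3 : ((P + z) * tz P z a) *ᵥ v = (P + z) *ᵥ v := by rw [← Matrix.mulVec_mulVec, hv]
    have h4 : (P + z) * tz P z a = a • (P + z) := by
      unfold tz
      rw [mul_add, mul_add, e4, mul_smul_comm, mul_smul_comm, e6, e7, smul_zero, zero_add, add_zero, smul_smul,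
        div_mul_cancel₀ a h2]
    rw [h4, Matrix.smul_mulVec] at h3
    have h5 : (a - 1) • ((P + z) *ᵥ v) = 0 := by rw [sub_smul, h3, one_smul, sub_self]
    exact (smul_eq_zero.1 h5).resolve_left (sub_ne_zero.2 ha1)
  have k2 : (P - z) *ᵥ v = 0 := by
    have h3 : ((P - z) * tz P z a) *ᵥ v = (P - z) *ᵥ v := by rw [← Matrix.mulVec_mulVec, hv]
    have h4 : (P - z) * tz P z a = a⁻¹ • (P - z) := by
      unfold tz
      rw [mul_add, mul_add, e5, mul_smul_comm, mul_smul_comm, e8, e9, smul_zero, zero_add, zero_add, smul_smul,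
        div_mul_cancel₀ a⁻¹ h2]
    rw [h4, Matrix.smul_mulVec] at h3
    have h5 : (a⁻¹ - 1) • ((P - z) *ᵥ v) = 0 := by rw [sub_smul, h3, one_smul, sub_self]
    exact (smul_eq_zero.1 h5).resolve_left (sub_ne_zero.2 fun e => ha1 (inv_eq_one.1 e))
  have k3 : (2 : F) • (P *ᵥ v) = 0 := by
    have : (2 : F) • P = (P + z) + (P - z) := by
      rw [two_smul]
      abel
    rw [← Matrix.smul_mulVec, this, Matrix.add_mulVec, k1, k2, add_zero]
  exact (smul_eq_zero.1 k3).resolve_left h2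

theorem TP.fix' {P z : Matrix D1 D1 F} (h : TP P z) {a : F} {v : D1 → F} (hv : P *ᵥ v = 0) : tz P z a *ᵥ v = v := by
  have h1 : z *ᵥ v = 0 := by rw [← h.zP, ← Matrix.mulVec_mulVec, hv, Matrix.mulVec_zero]
  unfold tz
  rw [Matrix.add_mulVec, Matrix.add_mulVec, Matrix.sub_mulVec, Matrix.one_mulVec, Matrix.smul_mulVec, Matrix.smul_mulVec,
    Matrix.add_mulVec, Matrix.sub_mulVec, hv, h1]
  simp

theorem Commute.tz {P z X : Matrix D1 D1 F} (h1 : _root_.Commute P X) (h3 : _root_.Commute z X) (a : F) :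
    _root_.Commute (Mu.tz P z a) X := by
  unfold Mu.tz
  exact (((_root_.Commute.one_left X).sub_left h1).add_left ((h1.add_left h3).smul_left _)).add_left
    ((h1.sub_left h3).smul_left _)

theorem Inv.tp {t : Gh F} (ht : Inv t) {z : Matrix D1 D1 F} (hz : z ∈ AL t) (hzz : z * z = pj t) : TP (pj t) z :=
  ⟨ht.two, pj_sq ht.two ht.sq, ht.left z hz, ht.right z hz, hzz⟩

theorem fix_iff (h2 : (2 : F) ≠ 0) {t : Gh F} {v : D1 → F} : pj t *ᵥ v = 0 ↔ V F t v = v := by
  unfold pj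
  rw [Matrix.smul_mulVec, smul_eq_zero, Matrix.sub_mulVec, Matrix.one_mulVec, V_apply, sub_eq_zero]
  constructor
  · rintro (h | h)
    · exact absurd h (inv_ne_zero h2)
    · exact h.symm
  · intro h
    exact Or.inr h.symm

theorem four_pow {G : Type*} [Group G] {a b c d : G} (hab : _root_.Commute a b) (hac : _root_.Commute a c)
    (had : _root_.Commute a d) (hbc : _root_.Commute b c) (hbd : _root_.Commute b d) (hcd : _root_.Commute c d) (k : ℕ) :
    (a * b * c * d) ^ k = a ^ k * b ^ k * c ^ k * d ^ k := by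
  rw [_root_.Commute.mul_pow ((had.mul_left hbd).mul_left hcd), _root_.Commute.mul_pow (hac.mul_left hbc),
    _root_.Commute.mul_pow hab]

theorem V_pow_fix {x : Gh F} {v : D1 → F} (h : V F x v = v) (k : ℕ) : V F (x ^ k) v = v := by
  induction k with
  | zero => rw [pow_zero, V_one]
  | succ k ih => rw [pow_succ, V_mul, h, ih]

/-- a torus element `g` of `t` -/
structure Tor1 (t g : Gh F) (l : ℕ) : Prop where
  prime : l.Prime
  pow : g ^ l = 1
  fix : ∀ k : ℕ, ¬ l ∣ k → ∀ v : D1 → F, V F (g ^ k) v = v → V F t v = v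
  fix' : ∀ v : D1 → F, V F t v = v → V F g v = v

theorem Inv.tor1 {t : Gh F} (ht : Inv t) {z : Matrix D1 D1 F} (hz : z ∈ AL t) (hzz : z * z = pj t) {l : ℕ} (hl : l.Prime)
    {a : F} (ha : IsPrimitiveRoot a l) : ∃ g : Gh F, rho F g = tz (pj t) z a ∧ Tor1 t g l := by
  have ha0 : a ≠ 0 := ha.ne_zero hl.ne_zero
  have hT := ht.tp hz hzz
  obtain ⟨g, hg⟩ := ht.exp z hz hzz a ha0
  refine ⟨g, hg, hl, ?_, ?_, ?_⟩
  · apply rho_injective
    rw [map_pow, hg, hT.tz_pow ha0, ha.pow_eq_one, tz_one ht.two, map_one]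
  · intro k hk v hv
    rw [V_apply, map_pow, hg, hT.tz_pow ha0] at hv
    exact (fix_iff ht.two).1 (hT.fix (fun e => hk ((ha.pow_eq_one_iff_dvd k).1 e)) hv)
  · intro v hv
    rw [V_apply, hg]
    exact hT.fix' ((fix_iff ht.two).2 hv)

end

section
variable {K : Type u} [Field K] [IsAlgClosed K] {p : ℕ} [Fact p.Prime] [CharP K p]

theorem Inv.of (hk : HAlg p K) (h2 : (2 : K) ≠ 0) {t : Gh K} (ht : t * t = 1) (h32 : ev (V K t) 1 = 32) : Inv t := by
  have hp : Nat.Coprime 2 p := by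
    rw [Nat.coprime_primes Nat.prime_two Fact.out]
    rintro rfl
    exact h2 (by exact_mod_cast CharP.cast_eq_zero K 2)
  obtain ⟨A, B, h⟩ := exists_Sl h2 (frameK p hk two_ne_zero hp (by rw [pow_two, ht])) h32
  exact h.inv h2 ht

theorem exists_root (hp : p.Prime) {l : ℕ} (hl : l.Prime) (h : p < l) : ∃ a : K, IsPrimitiveRoot a l := by
  have hne : (l : K) ≠ 0 := by
    intro e
    have := (CharP.cast_eq_zero_iff K p l).1 e
    rcases (Nat.dvd_prime hl).1 this with h1 | h1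
    · exact hp.one_lt.ne' h1
    · omega
  have : NeZero (l : K) := ⟨hne⟩
  exact HasEnoughRootsOfUnity.exists_primitiveRoot K l

/-- the fixed space of a semisimple element is spanned by conjugates of weight vectors -/
theorem fix_two (hk : HAlg p K) {x : Gh K} {N : ℕ} (hN0 : N ≠ 0) (hN : N.Coprime p) (hx : x ^ N = 1)
    {U : Submodule K (D1 → K)} (hU : ∀ v, v ∈ U ↔ V K x v = v) (hf : finrank K ↥U = 2) :
    ∃ u1 u2 : D1 → K, _root_.Cfsg.Agent.R2.PX.Pure K u1 ∧ _root_.Cfsg.Agent.R2.PX.Pure K u2 ∧ LinearIndependent K ![u1, u2] ∧ U = Submodule.span K {u1, u2} := by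
  classical
  obtain ⟨g, c, hg, -⟩ := frameK p hk hN0 hN hx
  have hUe : U = Module.End.eigenspace (V K x) 1 := by
    ext v
    rw [hU, Module.End.mem_eigenspace_iff, one_smul]
  have h1 : (Finset.univ.filter fun s : D1 => ((wt s c : Kˣ) : K) = 1).card = 2 := by
    rw [← ev_V_Phi, ← ev_V_of_conj hg]
    show finrank K ↥(Module.End.eigenspace (V K x) 1) = 2
    rw [← hUe, hf]
  obtain ⟨b1, b2, hb, hf2⟩ := Finset.card_eq_two.1 h1
  have hw : ∀ v, v ∈ U ↔ ∀ b, b ≠ b1 → b ≠ b2 → V K g v b = 0 := by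
    intro v
    rw [hU]
    have e1 : V K x v = v ↔ V K (Phi K c) (V K g v) = V K g v := by
      rw [hg, V_mul, V_mul, V_inv]
      constructor
      · intro h
        rw [h]
      · intro h
        have := congrArg (V K g⁻¹) h
        rwa [V_inv, V_inv] at this
    rw [e1]
    have e2 : ∀ b : D1, ((wt b c : Kˣ) : K) = 1 ↔ b = b1 ∨ b = b2 := by
      intro b
      have : b ∈ (Finset.univ.filter fun s : D1 => ((wt s c : Kˣ) : K) = 1) ↔ b ∈ ({b1, b2} : Finset D1) := by rw [hf2]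
      rw [Finset.mem_filter, Finset.mem_insert, Finset.mem_singleton] at this
      exact ⟨fun h => this.1 ⟨Finset.mem_univ _, h⟩, fun h => (this.2 h).2⟩
    constructor
    · intro h b h1 h3
      have h4 := congrFun h b
      rw [V_Phi_apply] at h4
      have h5 : (((wt b c : Kˣ) : K) - 1) * V K g v b = 0 := by rw [sub_mul, h4, one_mul, sub_self]
      rcases mul_eq_zero.1 h5 with h6 | h6
      · rcases (e2 b).1 (sub_eq_zero.1 h6) with h7 | h7
        · exact absurd h7 h1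
        · exact absurd h7 h3
      · exact h6
    · intro h
      funext b
      rw [V_Phi_apply]
      by_cases h1 : b = b1 ∨ b = b2
      · rw [(e2 b).2 h1, one_mul]
      · rw [not_or] at h1
        rw [h b h1.1 h1.2, mul_zero]
  have hb1 : bs K b1 b1 = 1 := by rw [bs, Pi.single_eq_same]
  have hb2 : bs K b2 b2 = 1 := by rw [bs, Pi.single_eq_same]
  have hb0 : ∀ b b' : D1, b ≠ b' → bs K b' b = 0 := fun b b' h => by rw [bs, Pi.single_eq_of_ne h]
  refine ⟨V K g⁻¹ (bs K b1), V K g⁻¹ (bs K b2), pure_V (Tr.bs_pure b1) _, pure_V (Tr.bs_pure b2) _, ?_, ?_⟩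
  · rw [LinearIndependent.pair_iff]
    intro s t h
    have h3 := congrArg (V K g) h
    rw [map_add, map_smul, map_smul, V_inv', V_inv', map_zero] at h3
    constructor
    · have := congrFun h3 b1
      rw [Pi.add_apply, Pi.smul_apply, Pi.smul_apply, hb1, hb0 b1 b2 hb, smul_eq_mul, mul_one, smul_zero, add_zero] at this
      exact this
    · have := congrFun h3 b2
      rw [Pi.add_apply, Pi.smul_apply, Pi.smul_apply, hb2, hb0 b2 b1 hb.symm, smul_zero, zero_add, smul_eq_mul, mul_one] at this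
      exact this
  · ext v
    rw [Submodule.mem_span_pair, hw]
    constructor
    · intro h
      refine ⟨V K g v b1, V K g v b2, ?_⟩
      rw [← map_smul, ← map_smul, ← map_add]
      have e : V K g v b1 • bs K b1 + V K g v b2 • bs K b2 = V K g v := by
        funext b
        rw [Pi.add_apply, Pi.smul_apply, Pi.smul_apply, smul_eq_mul, smul_eq_mul]
        by_cases h1 : b = b1
        · subst h1
          rw [hb1, hb0 b b2 hb]
          ring
        · by_cases h3 : b = b2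
          · subst h3
            rw [hb2, hb0 b b1 h1]
            ring
          · rw [hb0 b b1 h1, hb0 b b2 h3, h b h1 h3]
            ring
      rw [e, V_inv]
    · rintro ⟨s, t, rfl⟩ b h1 h3
      rw [map_add, map_smul, map_smul, V_inv', V_inv', Pi.add_apply, Pi.smul_apply, Pi.smul_apply, hb0 b b1 h1, hb0 b b2 h3,
        smul_zero, smul_zero, add_zero]

/-- **Q1** -/
theorem Q1 (hk : HAlg p K) (h2 : (2 : K) ≠ 0) {t1 t2 s1 s2 : Gh K} (q1 : t1 * t1 = 1) (q2 : t2 * t2 = 1)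
    (r1 : s1 * s1 = 1) (r2 : s2 * s2 = 1) (c12 : t1 * t2 = t2 * t1) (d12 : s1 * s2 = s2 * s1)
    (c11 : t1 * s1 = s1 * t1) (c1 : t1 * s2 = s2 * t1) (c21 : t2 * s1 = s1 * t2) (c22 : t2 * s2 = s2 * t2)
    (e1 : ev (V K t1) 1 = 32) (e2 : ev (V K t2) 1 = 32) (e12 : ev (V K (t1 * t2)) 1 = 32) (f1 : ev (V K s1) 1 = 32)
    (f2 : ev (V K s2) 1 = 32) (g11 : ev (V K (t1 * s1)) 1 = 24)
    (g12 : ev (V K (t1 * s2)) 1 = 24) (g21 : ev (V K (t2 * s1)) 1 = 24) (g22 : ev (V K (t2 * s2)) 1 = 24)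
    {U : Submodule K (D1 → K)} (hU : ∀ v, v ∈ U ↔ V K t1 v = v ∧ V K t2 v = v ∧ V K s1 v = v ∧ V K s2 v = v)
    (hf : finrank K ↥U = 2) :
    ∃ u1 u2 : D1 → K, _root_.Cfsg.Agent.R2.PX.Pure K u1 ∧ _root_.Cfsg.Agent.R2.PX.Pure K u2 ∧ LinearIndependent K ![u1, u2] ∧ U = Submodule.span K {u1, u2} := by
  have hp : p.Prime := Fact.out
  have i1 := Inv.of hk h2 q1 e1
  have i2 := Inv.of hk h2 q2 e2
  have j1 := Inv.of hk h2 r1 f1
  have hsq : ∀ a b : Gh K, a * a = 1 → b * b = 1 → a * b = b * a → (a * b) * (a * b) = 1 := by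
    intro a b ha hb hab
    calc a * b * (a * b) = a * (b * a) * b := by group
      _ = a * a * (b * b) := by rw [← hab]; group
      _ = 1 := by rw [ha, hb, one_mul]
  have hne : ∀ a b : Gh K, a * a = 1 → ev (V K (a * b)) 1 ≠ 56 → a ≠ b := by
    rintro a b ha hab rfl
    rw [ha, ev_one] at hab
    exact hab rfl
  -- invariant semisimple elements
  obtain ⟨z1, hz1, hzz1, k12⟩ := i1.exists_z q2 c12.symm
  obtain ⟨z2, hz2, hzz2, k21⟩ := i2.exists_z q1 c12
  obtain ⟨z3, hz3, hzz3, k34⟩ := j1.exists_z r2 d12.symm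
  have k13 := i1.triv r1 c11.symm (trace_pj h2 r1 (hsq _ _ q1 r1 c11) f1 g11) hz1
  have k14 := i1.triv r2 c1.symm (trace_pj h2 r2 (hsq _ _ q1 r2 c1) f2 g12) hz1
  have k23 := i2.triv r1 c21.symm (trace_pj h2 r1 (hsq _ _ q2 r1 c21) f1 g21) hz2
  have k24 := i2.triv r2 c22.symm (trace_pj h2 r2 (hsq _ _ q2 r2 c22) f2 g22) hz2
  have k31 := j1.triv q1 c11 (trace_pj h2 q1 (hsq _ _ r1 q1 c11.symm) e1 (by rw [← c11, g11])) hz3
  have k32 := j1.triv q2 c21 (trace_pj h2 q2 (hsq _ _ r1 q2 c21.symm) e2 (by rw [← c21, g21])) hz3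
  -- they commute
  have m12 := i1.comm i2 c12 (pj_ne h2 q1 c12 e1 e2 (hne _ _ q1 (by rw [e12]; norm_num))) hz1 hz2 k12 k21
  have m13 := i1.comm j1 c11 (pj_ne h2 q1 c11 e1 f1 (hne _ _ q1 (by rw [g11]; norm_num))) hz1 hz3 k13 k31
  have m23 := i2.comm j1 c21 (pj_ne h2 q2 c21 e2 f1 (hne _ _ q2 (by rw [g21]; norm_num))) hz2 hz3 k23 k32
  -- tori
  obtain ⟨l1, hl1, hl1'⟩ := Nat.exists_infinite_primes (p + 3)
  obtain ⟨l2, hl2, hl2'⟩ := Nat.exists_infinite_primes (l1 + 1)
  obtain ⟨l3, hl3, hl3'⟩ := Nat.exists_infinite_primes (l2 + 1)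
  obtain ⟨a1, ha1⟩ := exists_root (K := K) hp hl1' (by omega)
  obtain ⟨a2, ha2⟩ := exists_root (K := K) hp hl2' (by omega)
  obtain ⟨a3, ha3⟩ := exists_root (K := K) hp hl3' (by omega)
  obtain ⟨x1, hx1, T1⟩ := i1.tor1 hz1 hzz1 hl1' ha1
  obtain ⟨x2, hx2, T2⟩ := i2.tor1 hz2 hzz2 hl2' ha2
  obtain ⟨x3, hx3, T3⟩ := j1.tor1 hz3 hzz3 hl3' ha3
  have cp : ∀ {a b : Gh K}, a * b = b * a → _root_.Commute (rho K a) (rho K b) := fun h => rho_comm h
  have cpj : ∀ {a : Gh K} {X : Matrix D1 D1 K}, _root_.Commute (rho K a) X → _root_.Commute (pj a) X := by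
    intro a X h
    unfold pj
    exact ((_root_.Commute.one_left X).sub_left h).smul_left _
  have hinj : ∀ {a b : Gh K}, _root_.Commute (rho K a) (rho K b) → _root_.Commute a b := by
    intro a b h
    apply rho_injective
    rw [map_mul, map_mul]
    exact h
  have y12 : _root_.Commute x1 x2 := by
    apply hinj
    rw [hx1, hx2]
    refine Commute.tz ?_ ?_ _
    · exact (Commute.tz (cpj (cpj (cp c12)).symm) (cpj k21).symm a2).symm
    · exact (Commute.tz (cpj k12) m12.symm a2).symm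
  have y13 : _root_.Commute x1 x3 := by
    apply hinj
    rw [hx1, hx3]
    refine Commute.tz ?_ ?_ _
    · exact (Commute.tz (cpj (cpj (cp c11)).symm) (cpj k31).symm a3).symm
    · exact (Commute.tz (cpj k13) m13.symm a3).symm
  have y23 : _root_.Commute x2 x3 := by
    apply hinj
    rw [hx2, hx3]
    refine Commute.tz ?_ ?_ _
    · exact (Commute.tz (cpj (cpj (cp c21)).symm) (cpj k32).symm a3).symm
    · exact (Commute.tz (cpj k23) m23.symm a3).symm
  have y14 : _root_.Commute x1 s2 := by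
    apply hinj
    rw [hx1]
    exact Commute.tz (cpj (cp c1)) (Eq.symm k14) _
  have y24 : _root_.Commute x2 s2 := by
    apply hinj
    rw [hx2]
    exact Commute.tz (cpj (cp c22)) (Eq.symm k24) _
  have y34 : _root_.Commute x3 s2 := by
    apply hinj
    rw [hx3]
    exact Commute.tz (cpj (cp d12)) (Eq.symm k34) _
  have hpow := four_pow y12 y13 y14 y23 y24 y34
  have hdv : ∀ {g : Gh K} {l k : ℕ}, g ^ l = 1 → l ∣ k → g ^ k = 1 := by
    rintro g l _ h ⟨m, rfl⟩
    rw [pow_mul, h, one_pow]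
  have r2' : s2 ^ 2 = 1 := by rw [pow_two, r2]
  have nd : ∀ {a b : ℕ}, a.Prime → b.Prime → a ≠ b → ¬ a ∣ b := by
    intro a b ha hb hab h
    rcases (Nat.dvd_prime hb).1 h with h1 | h1
    · exact ha.one_lt.ne' h1
    · exact hab h1
  have hN : x1 ^ (2 * l1 * l2 * l3) = 1 := hdv T1.pow ⟨2 * l2 * l3, by ring⟩
  refine fix_two hk (x := x1 * x2 * x3 * s2) (N := 2 * l1 * l2 * l3) (by
    have := hl1'.pos
    have := hl2'.pos
    have := hl3'.pos
    positivity) ?_ ?_ ?_ hf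
  · have h3 : Nat.Coprime 2 p := by
      rw [Nat.coprime_primes Nat.prime_two hp]
      rintro rfl
      exact h2 (by exact_mod_cast CharP.cast_eq_zero K 2)
    have h4 : ∀ {l : ℕ}, l.Prime → p < l → Nat.Coprime l p := by
      intro l hl h
      rw [Nat.coprime_primes hl hp]
      omega
    exact ((h3.mul_left (h4 hl1' (by omega))).mul_left (h4 hl2' (by omega))).mul_left (h4 hl3' (by omega))
  · rw [hpow, hN, hdv T2.pow ⟨2 * l1 * l3, by ring⟩, hdv T3.pow ⟨2 * l1 * l2, by ring⟩, hdv r2' ⟨l1 * l2 * l3, by ring⟩]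
    simp
  · intro v
    rw [hU]
    constructor
    · rintro ⟨h3, h4, h5, h6⟩
      rw [V_mul, V_mul, V_mul, h6, T3.fix' v h5, T2.fix' v h4, T1.fix' v h3]
    · intro h
      refine ⟨?_, ?_, ?_, ?_⟩
      · refine T1.fix (2 * l2 * l3) ?_ v ?_
        · intro hd
          rcases (hl1'.dvd_mul).1 hd with hd | hd
          · rcases (hl1'.dvd_mul).1 hd with hd | hd
            · exact nd hl1' Nat.prime_two (by omega) hd
            · exact nd hl1' hl2' (by omega) hd
          · exact nd hl1' hl3' (by omega) hd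
        · have h7 := V_pow_fix h (2 * l2 * l3)
          rw [hpow, hdv T2.pow ⟨2 * l3, by ring⟩, hdv T3.pow ⟨2 * l2, by ring⟩, hdv r2' ⟨l2 * l3, by ring⟩, mul_one,
            mul_one, mul_one] at h7
          exact h7
      · refine T2.fix (2 * l1 * l3) ?_ v ?_
        · intro hd
          rcases (hl2'.dvd_mul).1 hd with hd | hd
          · rcases (hl2'.dvd_mul).1 hd with hd | hd
            · exact nd hl2' Nat.prime_two (by omega) hd
            · exact nd hl2' hl1' (by omega) hd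
          · exact nd hl2' hl3' (by omega) hd
        · have h7 := V_pow_fix h (2 * l1 * l3)
          rw [hpow, hdv T1.pow ⟨2 * l3, by ring⟩, hdv T3.pow ⟨2 * l1, by ring⟩, hdv r2' ⟨l1 * l3, by ring⟩, one_mul,
            mul_one, mul_one] at h7
          exact h7
      · refine T3.fix (2 * l1 * l2) ?_ v ?_
        · intro hd
          rcases (hl3'.dvd_mul).1 hd with hd | hd
          · rcases (hl3'.dvd_mul).1 hd with hd | hd
            · exact nd hl3' Nat.prime_two (by omega) hd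
            · exact nd hl3' hl1' (by omega) hd
          · exact nd hl3' hl2' (by omega) hd
        · have h7 := V_pow_fix h (2 * l1 * l2)
          rw [hpow, hdv T1.pow ⟨2 * l2, by ring⟩, hdv T2.pow ⟨2 * l1, by ring⟩, hdv r2' ⟨l1 * l2, by ring⟩, one_mul,
            one_mul, mul_one] at h7
          exact h7
      · have h7 := V_pow_fix h (l1 * l2 * l3)
        have h8 : s2 ^ (l1 * l2 * l3) = s2 := by
          have hodd : Odd (l1 * l2 * l3) := by
            rw [Nat.odd_mul, Nat.odd_mul]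
            exact ⟨⟨hl1'.odd_of_ne_two (by omega), hl2'.odd_of_ne_two (by omega)⟩, hl3'.odd_of_ne_two (by omega)⟩
          obtain ⟨m, hm⟩ := hodd
          rw [hm, pow_succ, pow_mul, r2', one_pow, one_mul]
        rw [hpow, hdv T1.pow ⟨l2 * l3, by ring⟩, hdv T2.pow ⟨l1 * l3, by ring⟩, hdv T3.pow ⟨l1 * l2, by ring⟩, h8, one_mul,
          one_mul, one_mul] at h7
        exact h7

end

end Cfsg.Agent.R2.T1.Mu
end

-- part: R2/T1/P3/PQ
section
/-!
# S5771, box P3: pure combinations over the algebraic closure (helper27)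

`pq` : the configuration `Sev` has the property `PQ` for the algebraic closure (from `Mu.Q1` and `Odd.types`).
-/

set_option autoImplicit false
set_option maxRecDepth 100000

namespace Cfsg.Agent.R2.T1.P3

open Cfsg Cfsg.Lie Module Matrix
open Cfsg.Agent.R2.T1 Cfsg.Agent.R2.T1.Mu Cfsg.Agent.R2.PX Cfsg.Agent.R2.T1.Odd
open Cfsg.Agent.H943.E7V.Block (D1 rho)
open Cfsg.Agent.H952.F4 (MaxAlt ev)
open Cfsg.Agent.H65.E6Emb (ext mem_ext_of_mem ext_le mem_ext_fixed finrank_ext)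
open Equiv

universe u

theorem P_mul_eq {l l' r : List (ℕ × ℕ)} (h : vl 8 l = true) (h' : vl 8 l' = true) (hr : vl 8 r = true)
    (hc : cd 8 (l ++ l') = cd 8 r) : P 8 l * P 8 l' = P 8 r := by
  rw [← P_append le_rfl h h', P_eq_iff le_rfl (vl_append h h') hr, hc]

section
variable {F : Type u} [Field F] {ψ : ↥(alternatingGroup (Fin 8)) →* Gh F} {a b : Fin 8 → D1 → F} {c : F}

theorem sum_fix {g : List (ℕ × ℕ)} (hg : g ∈ gQ) {a : Fin 8 → D1 → F}
    (act : ∀ (g : ↥(alternatingGroup (Fin 8))) (i : Fin 8), V F (ψ g) (a i) = a ((g : Perm (Fin 8)) i)) :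
    V F (ψ (P 8 g)) (a 0 + a 1 + a 2 + a 3) = a 0 + a 1 + a 2 + a 3 := by
  rw [map_add, map_add, map_add, act, act, act, act]
  simp only [gQ, List.mem_cons, List.not_mem_nil, or_false] at hg
  rcases hg with rfl | rfl | rfl | rfl
  · rw [coe_P (m := 8) le_rfl (by decide)]
    have e0 : pm 8 [(0, 1), (2, 3)] 0 = 1 := by decide
    have e1 : pm 8 [(0, 1), (2, 3)] 1 = 0 := by decide
    have e2 : pm 8 [(0, 1), (2, 3)] 2 = 3 := by decide
    have e3 : pm 8 [(0, 1), (2, 3)] 3 = 2 := by decide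
    rw [e0, e1, e2, e3]
    abel
  · rw [coe_P (m := 8) le_rfl (by decide)]
    have e0 : pm 8 [(0, 2), (1, 3)] 0 = 2 := by decide
    have e1 : pm 8 [(0, 2), (1, 3)] 1 = 3 := by decide
    have e2 : pm 8 [(0, 2), (1, 3)] 2 = 0 := by decide
    have e3 : pm 8 [(0, 2), (1, 3)] 3 = 1 := by decide
    rw [e0, e1, e2, e3]
    abel
  · rw [coe_P (m := 8) le_rfl (by decide)]
    have e0 : pm 8 [(4, 5), (6, 7)] 0 = 0 := by decide
    have e1 : pm 8 [(4, 5), (6, 7)] 1 = 1 := by decide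
    have e2 : pm 8 [(4, 5), (6, 7)] 2 = 2 := by decide
    have e3 : pm 8 [(4, 5), (6, 7)] 3 = 3 := by decide
    rw [e0, e1, e2, e3]
  · rw [coe_P (m := 8) le_rfl (by decide)]
    have e0 : pm 8 [(4, 6), (5, 7)] 0 = 0 := by decide
    have e1 : pm 8 [(4, 6), (5, 7)] 1 = 1 := by decide
    have e2 : pm 8 [(4, 6), (5, 7)] 2 = 2 := by decide
    have e3 : pm 8 [(4, 6), (5, 7)] 3 = 3 := by decide
    rw [e0, e1, e2, e3]

theorem sf_four (hs : Sev ψ a b c) : sf F (a 0 + a 1 + a 2 + a 3) (b 0 + b 1 + b 2 + b 3) = 16 * c := by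
  simp only [map_add, LinearMap.add_apply, hs.ab]
  norm_num only [Fin.ext_iff, _root_.ite_true, _root_.one_ne_zero, _root_.ite_false, _root_.Fin.coe_ofNat_eq_mod, _root_.OfNat.ofNat_ne_zero, _root_.zero_ne_one, _root_.OfNat.ofNat_ne_one, _root_.OfNat.zero_ne_ofNat, _root_.OfNat.one_ne_ofNat, _root_.Nat.succ_ne_self]
  ring

/-- **`PQ`** -/
theorem pq [Finite F] {p : ℕ} [Fact p.Prime] [CharP F p] (h2 : (2 : F) ≠ 0) (hψ : ∀ a, ad F (ψ a) = 1 → a = 1)
    (hs : Sev ψ a b c) : PQ (algebraMap F (AlgebraicClosure F)) a b := by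
  set K := AlgebraicClosure F with hK
  set f := algebraMap F K with hf
  have hCK : CharP K p := charP_of_injective_algebraMap (algebraMap F K).injective p
  have h2K : (2 : K) ≠ 0 := by
    intro h
    apply h2
    apply f.injective
    rw [map_ofNat, h, map_zero]
  obtain ⟨e32, e24, -, -, hdim, -, -⟩ := types (n := 8) le_rfl h2 hψ
  set ρ : Representation F ↥(alternatingGroup (Fin 8)) (D1 → F) := MonoidHom.comp (V F) ψ with hρ
  set W := _root_.Cfsg.Agent.R2.T1.Odd.inv ρ (Tg 8 gQ) with hW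
  have hdimK : finrank K ↥(_root_.Cfsg.Agent.H65.E6Emb.ext f W) = 2 := by rw [finrank_ext, hdim]
  have evc : ∀ l : List (ℕ × ℕ), ev (V K (emb f (ψ (P 8 l)))) 1 = ev (V F (ψ (P 8 l))) 1 := fun l => ev_V_one f _
  have hcj : ∀ {x c r : List (ℕ × ℕ)}, vl 8 x = true → vl 8 c = true → vl 8 r = true → cd 8 (x ++ c) = cd 8 (c ++ r) →
      ev (V K (emb f (ψ (P 8 x)))) 1 = ev (V F (ψ (P 8 r))) 1 := by
    intro x c r hx hc hr h
    rw [evc]
    exact ev_P_conj le_rfl ρ hx hc hr h 1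
  have hmul : ∀ {l l' r : List (ℕ × ℕ)}, vl 8 l = true → vl 8 l' = true → vl 8 r = true → cd 8 (l ++ l') = cd 8 r →
      emb f (ψ (P 8 l)) * emb f (ψ (P 8 l')) = emb f (ψ (P 8 r)) := by
    intro l l' r h h' hr hc
    rw [← map_mul, ← map_mul, P_mul_eq h h' hr hc]
  have hone : emb f (ψ (P 8 [])) = 1 := by rw [P_nil, map_one, map_one]
  have hcomm : ∀ {l l' : List (ℕ × ℕ)}, vl 8 l = true → vl 8 l' = true → cd 8 (l ++ l') = cd 8 (l' ++ l) →
      emb f (ψ (P 8 l)) * emb f (ψ (P 8 l')) = emb f (ψ (P 8 l')) * emb f (ψ (P 8 l)) := by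
    intro l l' h h' hc
    rw [hmul h h' (vl_append h' h) hc, hmul h' h (vl_append h' h) rfl]
  have hUmem : ∀ v : D1 → K, v ∈ _root_.Cfsg.Agent.H65.E6Emb.ext f W ↔ V K (emb f (ψ (P 8 [(0, 1), (2, 3)]))) v = v ∧
      V K (emb f (ψ (P 8 [(0, 2), (1, 3)]))) v = v ∧ V K (emb f (ψ (P 8 [(4, 5), (6, 7)]))) v = v ∧
      V K (emb f (ψ (P 8 [(4, 6), (5, 7)]))) v = v := by
    intro v
    constructor
    · intro hv
      have key : ∀ g ∈ gQ, V K (emb f (ψ (P 8 g))) v = v := by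
        intro g hg
        have h1 : _root_.Cfsg.Agent.H65.E6Emb.ext f W ≤ Module.End.eigenspace (V K (emb f (ψ (P 8 g)))) 1 := by
          refine ext_le fun x hx => ?_
          rw [Module.End.mem_eigenspace_iff, one_smul, V_emb]
          have h3 := (mem_U (ρ := ρ)).1 hx g hg
          have h4 : V F (ψ (P 8 g)) x = x := h3
          rw [h4]
        have h3 := h1 hv
        rwa [Module.End.mem_eigenspace_iff, one_smul] at h3
      exact ⟨key _ (by decide), key _ (by decide), key _ (by decide), key _ (by decide)⟩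
    · rintro ⟨h1, h3, h4, h5⟩
      refine mem_ext_fixed (fun g : {g // g ∈ gQ} => rho F (ψ (P 8 g.1))) W (fun x hx => ?_) (y := v) fun g => ?_
      · exact (mem_U (ρ := ρ)).2 fun g hg => hx ⟨g, hg⟩
      · obtain ⟨g, hg⟩ := g
        have h6 : V K (emb f (ψ (P 8 g))) v = v := by
          simp only [gQ, List.mem_cons, List.not_mem_nil, or_false] at hg
          rcases hg with rfl | rfl | rfl | rfl
          · exact h1
          · exact h3
          · exact h4
          · exact h5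
        rw [V_apply, rho_emb] at h6
        exact h6
  obtain ⟨u1, u2, hu1, hu2, hli, hspan⟩ := Q1 (Cfsg.Agent.H944.RootVals.hAlg_closure p F) h2K
    (t1 := emb f (ψ (P 8 [(0, 1), (2, 3)]))) (t2 := emb f (ψ (P 8 [(0, 2), (1, 3)])))
    (s1 := emb f (ψ (P 8 [(4, 5), (6, 7)]))) (s2 := emb f (ψ (P 8 [(4, 6), (5, 7)])))
    (by rw [hmul (r := []) (by decide) (by decide) (by decide) (by decide), hone])
    (by rw [hmul (r := []) (by decide) (by decide) (by decide) (by decide), hone])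
    (by rw [hmul (r := []) (by decide) (by decide) (by decide) (by decide), hone])
    (by rw [hmul (r := []) (by decide) (by decide) (by decide) (by decide), hone])
    (hcomm (by decide) (by decide) (by decide)) (hcomm (by decide) (by decide) (by decide))
    (hcomm (by decide) (by decide) (by decide)) (hcomm (by decide) (by decide) (by decide))
    (hcomm (by decide) (by decide) (by decide)) (hcomm (by decide) (by decide) (by decide))
    (by rw [evc]; exact e32)
    (by rw [hcj (c := [(0, 1), (0, 2)]) (r := lt) (by decide) (by decide) (by decide) (by decide), e32])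
    (by
      rw [hmul (r := [(0, 1), (2, 3), (0, 2), (1, 3)]) (by decide) (by decide) (by decide) (by decide),
        hcj (c := [(0, 1), (0, 3)]) (r := lt) (by decide) (by decide) (by decide) (by decide), e32])
    (by rw [hcj (c := [(0, 4), (1, 5), (2, 6), (3, 7)]) (r := lt) (by decide) (by decide) (by decide) (by decide), e32])
    (by rw [hcj (c := [(0, 4), (1, 6), (2, 5), (3, 7)]) (r := lt) (by decide) (by decide) (by decide) (by decide), e32])
    (by
      rw [hmul (r := [(0, 1), (2, 3), (4, 5), (6, 7)]) (by decide) (by decide) (by decide) (by decide), evc]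
      exact e24)
    (by
      rw [hmul (r := [(0, 1), (2, 3), (4, 6), (5, 7)]) (by decide) (by decide) (by decide) (by decide),
        hcj (c := [(0, 1), (4, 7)]) (r := ls) (by decide) (by decide) (by decide) (by decide), e24])
    (by
      rw [hmul (r := [(0, 2), (1, 3), (4, 5), (6, 7)]) (by decide) (by decide) (by decide) (by decide),
        hcj (c := [(0, 1), (0, 2)]) (r := ls) (by decide) (by decide) (by decide) (by decide), e24])
    (by
      rw [hmul (r := [(0, 2), (1, 3), (4, 6), (5, 7)]) (by decide) (by decide) (by decide) (by decide),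
        hcj (c := [(0, 3), (4, 7)]) (r := ls) (by decide) (by decide) (by decide) (by decide), e24])
    hUmem hdimK
  have hwa : (fun x => f ((a 0 + a 1 + a 2 + a 3) x) : D1 → K) ∈ _root_.Cfsg.Agent.H65.E6Emb.ext f W :=
    mem_ext_of_mem ((mem_U (ρ := ρ)).2 fun g hg => sum_fix hg hs.actA)
  have hwb : (fun x => f ((b 0 + b 1 + b 2 + b 3) x) : D1 → K) ∈ _root_.Cfsg.Agent.H65.E6Emb.ext f W :=
    mem_ext_of_mem ((mem_U (ρ := ρ)).2 fun g hg => sum_fix hg hs.actB)
  rw [hspan, Submodule.mem_span_pair] at hwa hwb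
  obtain ⟨α, β, h1⟩ := hwa
  obtain ⟨γ, δ, h3⟩ := hwb
  have hsf : sf K (fun x => f ((a 0 + a 1 + a 2 + a 3) x)) (fun x => f ((b 0 + b 1 + b 2 + b 3) x)) = f (16 * c) := by
    rw [sf_emb, sf_four hs]
  have hne : f (16 * c) ≠ 0 := by
    rw [Ne, map_eq_zero]
    refine mul_ne_zero ?_ hs.ne
    have : (16 : F) = 2 ^ 4 := by norm_num
    rw [this]
    exact pow_ne_zero _ h2
  have hΔ : α * δ - β * γ ≠ 0 := by
    intro h0
    apply hne
    rw [← hsf, ← h1, ← h3]
    simp only [map_add, map_smul, LinearMap.add_apply, LinearMap.smul_apply, smul_eq_mul, sf_self]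
    rw [sf_swap u2 u1]
    linear_combination (sf K u1 u2) * h0
  refine ⟨δ / (α * δ - β * γ), -β / (α * δ - β * γ), -γ / (α * δ - β * γ), α / (α * δ - β * γ), ?_, ?_, ?_⟩
  · have e : δ / (α * δ - β * γ) * (α / (α * δ - β * γ)) - -β / (α * δ - β * γ) * (-γ / (α * δ - β * γ)) =
        1 / (α * δ - β * γ) := by
      rw [div_mul_div_comm, div_mul_div_comm, ← sub_div, div_eq_div_iff (mul_ne_zero hΔ hΔ) hΔ]
      ring
    rw [e]
    exact one_div_ne_zero hΔ
  · rw [← h1, ← h3]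
    have e : (δ / (α * δ - β * γ)) • (α • u1 + β • u2) + (-β / (α * δ - β * γ)) • (γ • u1 + δ • u2) = u1 := by
      rw [smul_add, smul_add, smul_smul, smul_smul, smul_smul, smul_smul]
      have e1 : δ / (α * δ - β * γ) * α + -β / (α * δ - β * γ) * γ = 1 := by
        rw [div_mul_eq_mul_div, div_mul_eq_mul_div, ← add_div, div_eq_one_iff_eq hΔ]
        ring
      have e2 : δ / (α * δ - β * γ) * β + -β / (α * δ - β * γ) * δ = 0 := by
        rw [div_mul_eq_mul_div, div_mul_eq_mul_div, ← add_div, div_eq_zero_iff]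
        left
        ring
      calc _ = (δ / (α * δ - β * γ) * α + -β / (α * δ - β * γ) * γ) • u1 +
            (δ / (α * δ - β * γ) * β + -β / (α * δ - β * γ) * δ) • u2 := by
            rw [add_smul, add_smul]
            abel
        _ = u1 := by rw [e1, e2, one_smul, zero_smul, add_zero]
    rw [e]
    exact hu1
  · rw [← h1, ← h3]
    have e : (-γ / (α * δ - β * γ)) • (α • u1 + β • u2) + (α / (α * δ - β * γ)) • (γ • u1 + δ • u2) = u2 := by
      rw [smul_add, smul_add, smul_smul, smul_smul, smul_smul, smul_smul]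
      have e1 : -γ / (α * δ - β * γ) * α + α / (α * δ - β * γ) * γ = 0 := by
        rw [div_mul_eq_mul_div, div_mul_eq_mul_div, ← add_div, div_eq_zero_iff]
        left
        ring
      have e2 : -γ / (α * δ - β * γ) * β + α / (α * δ - β * γ) * δ = 1 := by
        rw [div_mul_eq_mul_div, div_mul_eq_mul_div, ← add_div, div_eq_one_iff_eq hΔ]
        ring
      calc _ = (-γ / (α * δ - β * γ) * α + α / (α * δ - β * γ) * γ) • u1 +
            (-γ / (α * δ - β * γ) * β + α / (α * δ - β * γ) * δ) • u2 := by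
            rw [add_smul, add_smul]
            abel
        _ = u2 := by rw [e1, e2, one_smul, zero_smul, zero_add]
    rw [e]
    exact hu2

end

end Cfsg.Agent.R2.T1.P3
end

private theorem dce_d0283188d578 : _root_.True := by
  try have : _root_.True := by simp only [_root_.Cfsg.Agent.R2.T1.Odd.gQ.eq_1]
  exact _root_.True.intro
end

-- part: R2/T1/P3/N9F
section
set_option linter.all false
open scoped Cfsg.Agent.FastGrp

-- part: R2/T1/P3/N9A
section
/-!
# S5771, box P3, `p = 3`, `n = 9` (helper3): the adapter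

* `exists_nin` : the two families of vectors for a maximal subgroup of type `A_9` in characteristic 3.
-/

set_option autoImplicit false

namespace Cfsg.Agent.R2.T1.P3

open Cfsg Cfsg.Lie Module Matrix
open Cfsg.Agent.R2.T1 Cfsg.Agent.R2.T1.Mu Cfsg.Agent.R2.PX
open Cfsg.Agent.H943.E7V.Block (D1 rho)
open Cfsg.Agent.H952.F4 (MaxAlt)
open Cfsg.Agent.R2.T1.Nodd (N9 Y nn9)
open Equiv

universe u

section
variable {F : Type u} [Field F] {ψ : ↥(alternatingGroup (Fin 9)) →* Gh F}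

theorem nn_gram (h : N9 (MonoidHom.comp (V F) ψ : Representation F ↥(alternatingGroup (Fin 9)) (D1 → F)) (sf F))
    {y z : D1 → F} (hy : y ∈ Y (MonoidHom.comp (V F) ψ : Representation F ↥(alternatingGroup (Fin 9)) (D1 → F)))
    (hz : z ∈ Y (MonoidHom.comp (V F) ψ : Representation F ↥(alternatingGroup (Fin 9)) (D1 → F))) (i j k l : Fin 9) :
    sf F (nn9 (MonoidHom.comp (V F) ψ : Representation F ↥(alternatingGroup (Fin 9)) (D1 → F)) i j y)
      (nn9 (MonoidHom.comp (V F) ψ : Representation F ↥(alternatingGroup (Fin 9)) (D1 → F)) k l z) =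
      -(sf F y z) * gm F i j k l := by
  by_cases hij : i = j
  · subst hij
    rw [Nodd.nn9_self, map_zero, LinearMap.zero_apply]
    unfold gm
    ring
  by_cases hkl : k = l
  · subst hkl
    rw [Nodd.nn9_self, map_zero]
    unfold gm
    ring
  by_cases hil : i = l
  · subst hil
    by_cases hjk : j = k
    · subst hjk
      rw [Nodd.anti h hz i j, map_neg, Nodd.B_nn h hy hz hij]
      unfold gm
      rw [if_neg hij, if_neg (Ne.symm hij), if_pos rfl, if_pos rfl]
      linear_combination (-(sf F y z)) * h.three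
    · rw [Nodd.gram_cross' h hy hz hij (Ne.symm hkl) hjk]
      unfold gm
      rw [if_neg (Ne.symm hkl), if_neg (Ne.symm hij), if_pos rfl, if_neg hjk]
      ring
  · by_cases hjk : j = k
    · subst hjk
      rw [Nodd.gram_cross h hy hz hij hil hkl]
      unfold gm
      rw [if_neg hij, if_neg hkl, if_neg hil, if_pos rfl]
      ring
    · rw [Nodd.gram h hy hz hij hkl hil hjk]
      unfold gm
      rw [if_neg hil, if_neg hjk]
      ring

theorem nin_of (h : N9 (MonoidHom.comp (V F) ψ : Representation F ↥(alternatingGroup (Fin 9)) (D1 → F)) (sf F)) :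
    ∃ (a b : Fin 9 → Fin 9 → D1 → F) (c : F), Nin ψ a b c ∧ FixA7 ψ a b ∧ ∃ s t : F, (s ≠ 0 ∨ t ≠ 0) ∧ Zc a b s t := by
  set ρ : Representation F ↥(alternatingGroup (Fin 9)) (D1 → F) := MonoidHom.comp (V F) ψ with hρ
  let e := Module.finBasisOfFinrankEq F ↥(Y ρ) h.dimY
  have hspan : ∀ u ∈ Y ρ, ∃ x y : F, u = x • (e 0 : D1 → F) + y • (e 1 : D1 → F) := by
    intro u hu
    refine ⟨e.repr ⟨u, hu⟩ 0, e.repr ⟨u, hu⟩ 1, ?_⟩
    have h1 := congrArg (Subtype.val) (e.sum_repr ⟨u, hu⟩)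
    rw [Fin.sum_univ_two] at h1
    exact h1.symm
  obtain ⟨x, hx, hxe⟩ : ∃ x ∈ Y ρ, x = (e 0 : D1 → F) := ⟨_, (e 0).2, rfl⟩
  obtain ⟨y, hy, hye⟩ : ∃ y ∈ Y ρ, y = (e 1 : D1 → F) := ⟨_, (e 1).2, rfl⟩
  have hspan' : ∀ u ∈ Y ρ, ∃ s t : F, u = s • x + t • y := by
    intro u hu
    rw [hxe, hye]
    exact hspan u hu
  have hx0 : x ≠ 0 := by
    rw [hxe]
    exact fun h => e.ne_zero 0 (Subtype.ext h)
  have hxy : sf F x y ≠ 0 := by
    intro h0
    apply hx0
    apply h.ndY x hx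
    intro z hz
    obtain ⟨s, t, rfl⟩ := hspan' z hz
    rw [map_add, map_smul, map_smul, h.alt, h0, smul_zero, smul_zero, add_zero]
  refine ⟨fun i j => nn9 ρ i j x, fun i j => nn9 ρ i j y, -(sf F x y), ?_, ?_, ?_⟩
  · exact { actA := fun g i j => Nodd.act hx g i j
            actB := fun g i j => Nodd.act hy g i j
            antiA := fun i j => Nodd.anti h hx i j
            antiB := fun i j => Nodd.anti h hy i j
            sumA := fun j => Nodd.sum_fst h hx j
            sumB := fun j => Nodd.sum_fst h hy j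
            isoA := fun i j k l => by rw [nn_gram h hx hx, h.alt, neg_zero, zero_mul]
            isoB := fun i j k l => by rw [nn_gram h hy hy, h.alt, neg_zero, zero_mul]
            ab := fun i j k l => nn_gram h hx hy i j k l
            ne := neg_ne_zero.2 hxy }
  · intro w hw
    obtain ⟨s, t, h1⟩ := hspan' w hw
    refine ⟨s, t, ?_⟩
    show w = s • nn9 ρ 7 8 x + t • nn9 ρ 7 8 y
    rw [Nodd.nn9_78, Nodd.nn9_78]
    exact h1
  · obtain ⟨u, hu, hu0, hz⟩ := Nodd.exists_u0 h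
    obtain ⟨s, t, rfl⟩ := hspan' u hu
    refine ⟨s, t, ?_, ?_⟩
    · by_contra hcon
      push Not at hcon
      apply hu0
      rw [hcon.1, hcon.2, zero_smul, zero_smul, add_zero]
    · intro i j k
      rw [← hz i j k, map_add, map_add, map_add, map_smul, map_smul, map_smul, map_smul, map_smul, map_smul]
      unfold sg
      module

/-- **the two families** -/
theorem exists_nin [Finite F] (h30 : (3 : F) = 0) (hψ : ∀ a, ad F (ψ a) = 1 → a = 1) :
    ∃ (a b : Fin 9 → Fin 9 → D1 → F) (c : F), Nin ψ a b c ∧ FixA7 ψ a b ∧ ∃ s t : F, (s ≠ 0 ∨ t ≠ 0) ∧ Zc a b s t := by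
  have h2 : (2 : F) ≠ 0 := by
    intro h
    apply one_ne_zero (α := F)
    linear_combination h30 - h
  have h5 : (5 : F) ≠ 0 := by
    intro h
    apply h2
    linear_combination h - h30
  have h7 : (7 : F) ≠ 0 := by
    intro h
    apply one_ne_zero (α := F)
    linear_combination h - 2 * h30
  have hC := Odd.cfgT9 h2 h5 hψ
  exact nin_of (Nodd.n9_of h2 hψ h30 (Odd.fx7_finrank hC) fun y hy hz => Odd.fx7_nd hC h7 hy hz)

end

end Cfsg.Agent.R2.T1.P3
end

-- part: R2/T1/P3/N9F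
section
/-!
# S5771, box P3 (helper3): the contradiction for `n = 9`, characteristic 3
-/

set_option autoImplicit false

namespace Cfsg.Agent.R2.T1.P3

open Cfsg Cfsg.Lie Module Matrix
open Cfsg.Agent.R2.T1 Cfsg.Agent.R2.T1.Mu Cfsg.Agent.R2.PX
open Cfsg.Agent.H943.E7V.Block (D1 rho)
open Cfsg.Agent.H952.F4 (MaxAlt)
open Equiv

universe u

theorem res9_inj {g : ↥(alternatingGroup (Fin 8))} (h : res9 g = 1) : g = 1 := by
  apply Subtype.ext
  apply Equiv.ext
  intro i
  have h1 := res9_cast g i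
  rw [h] at h1
  exact (Fin.castSucc_injective _ h1).symm

/-- **`n = 9`, characteristic 3** -/
theorem odd9_three {F : Type u} [Field F] [Finite F] (h30 : (3 : F) = 0) {H : Subgroup ↥(chevE7.group F)}
    {φ : ↥(alternatingGroup (Fin 9)) →* ↥(chevE7.group F)} {ψ : ↥(alternatingGroup (Fin 9)) →* Gh F}
    (hM : MaxAlt H 9 φ) (hL : Lift φ ψ) : False := by
  have hF : Fact (Nat.Prime 3) := ⟨Nat.prime_three⟩
  have hc : CharP F 3 := (CharP.charP_iff_prime_eq_zero Nat.prime_three).2 (by exact_mod_cast h30)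
  have h2 : (2 : F) ≠ 0 := by
    intro h
    apply one_ne_zero (α := F)
    linear_combination h30 - h
  have hψ : ∀ a, ad F (ψ a) = 1 → a = 1 := Odd.lift_inj hM hL
  obtain ⟨a, b, c, hN, hF7, h0⟩ := exists_nin h30 hψ
  have hP : PQ (algebraMap F (AlgebraicClosure F)) (fun i : Fin 8 => a i.castSucc 8) (fun i : Fin 8 => b i.castSucc 8) :=
    pq (p := 3) h2 (fun g hg => res9_inj (hψ _ hg)) (hN.sev h2 h30)
  exact no_nine (algebraMap F (AlgebraicClosure F)) hM hL hN hF7 hP h0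

end Cfsg.Agent.R2.T1.P3
end
end

-- part: R2/PX/C/Main
section
prune_inst 0x4f1007d447500000000180010000000602800000200488c00a4c0000401498440a042a8012b30011210a004402000006811000020422000000a000000000201001000000031400000400090000080000000000000000000000000000000000000000000000
set_option linter.all false
open scoped Cfsg.Agent.FastGrp

-- part: R2/PX/W/Theta
section
/-! # Part B of pattern X: the isomorphism `Θ` between two configurations with the same `a`, `F`
(normalised). -/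

namespace Cfsg.Agent.R2.PX.W

open Equiv

set_option linter.unusedSimpArgs false
set_option maxHeartbeats 1000000

variable {k V V' : Type*} [Field k] [AddCommGroup V] [Module k V] [AddCommGroup V'] [Module k V']
variable {S : Fts k V} {v : Fin 8 → V} {S' : Fts k V'} {v' : Fin 8 → V'}

namespace Same

theorem cl_all (c : Same S v S' v') (i j l m n o p : Fin 8) : Cl S v S' v' i j l m n o p := by
  by_cases nd : [l, m, n, o, p].Nodup
  · obtain ⟨q, r, t, nd8⟩ := ext5 nd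
    obtain ⟨s, e0, e1, e2, e3, e4, -⟩ := exists_perm8 nd8
    obtain ⟨x, rfl⟩ := s.surjective i
    obtain ⟨z, rfl⟩ := s.surjective j
    have := GG_comp s ((c.comp s).cl_all0 x z)
    simp only [Y, Function.comp_apply, e0, e1, e2, e3, e4] at this
    exact this
  · -- degenerate words
    unfold Cl
    have key : ∀ i j x x', (x = 0 ∧ x' = 0 ∨ ∃ (r : k) (a : Fin 8), x = r • v a ∧ x' = r • v' a) →
        ((S.D (v i) (v j) x, S'.D (v' i) (v' j) x') : V × V') ∈ GG S v S' v' := by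
      rintro i j x x' (⟨rfl, rfl⟩ | ⟨r, a, rfl, rfl⟩)
      · rw [map_zero, map_zero]; exact zero_mem _
      · rw [map_smul, map_smul]
        exact Submodule.smul_mem _ _ (mem_t i j a)
    apply key
    by_cases e1 : l = m
    · subst e1; left; exact ⟨c.h.Y11 _ _ _ _, c.h'.Y11 _ _ _ _⟩
    by_cases e2 : n = o
    · subst e2; left; exact ⟨c.h.Y_334 _ _ _ _, c.h'.Y_334 _ _ _ _⟩
    by_cases e3 : n = p
    · subst e3; left; exact ⟨c.h.Y_343 _ _ _ _, c.h'.Y_343 _ _ _ _⟩
    by_cases e4 : o = p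
    · subst e4; left; exact ⟨c.h.Y_344 _ _ _ _, c.h'.Y_344 _ _ _ _⟩
    right
    have k1 : ∀ l m o p : Fin 8, ∃ r : k, Y S v l m l o p = r • v l ∧ Y S' v' l m l o p = r • v' l :=
      fun l m o p => ⟨_, c.h.Y_1 l m o p, by rw [c.h'.Y_1, c.om_vT_eq]⟩
    have k2 : ∀ l m n p : Fin 8, ∃ r : k, Y S v l m n l p = r • v l ∧ Y S' v' l m n l p = r • v' l :=
      fun l m n p => by
        obtain ⟨r, h1, h2⟩ := k1 l m n p
        exact ⟨r, by rw [IsCfg.Y34, h1], by rw [IsCfg.Y34, h2]⟩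
    have k3 : ∀ l m n o : Fin 8, ∃ r : k, Y S v l m n o l = r • v l ∧ Y S' v' l m n o l = r • v' l :=
      fun l m n o => by
        obtain ⟨r, h1, h2⟩ := k2 l m n o
        exact ⟨r, by rw [c.h.Y45, h1], by rw [c.h'.Y45, h2]⟩
    have sw : ∀ {l m n o p a : Fin 8}, (∃ r : k, Y S v m l n o p = r • v a ∧
        Y S' v' m l n o p = r • v' a) → ∃ r : k, Y S v l m n o p = r • v a ∧
        Y S' v' l m n o p = r • v' a := by
      rintro l m n o p a ⟨r, h1, h2⟩
      exact ⟨r, by rw [IsCfg.Y12, h1], by rw [IsCfg.Y12, h2]⟩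
    have out : ∀ {x : V} {x' : V'} (a : Fin 8), (∃ r : k, x = r • v a ∧ x' = r • v' a) →
        ∃ (r : k) (a : Fin 8), x = r • v a ∧ x' = r • v' a := fun a ⟨r, h⟩ => ⟨r, a, h⟩
    by_cases f1 : l = n
    · subst f1; exact out _ (k1 _ _ _ _)
    by_cases f2 : l = o
    · subst f2; exact out _ (k2 _ _ _ _)
    by_cases f3 : l = p
    · subst f3; exact out _ (k3 _ _ _ _)
    by_cases f4 : m = n
    · subst f4; exact out _ (sw (k1 _ _ _ _))
    by_cases f5 : m = o
    · subst f5; exact out _ (sw (k2 _ _ _ _))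
    by_cases f6 : m = p
    · subst f6; exact out _ (sw (k3 _ _ _ _))
    exfalso
    apply nd
    simp only [List.nodup_cons, List.mem_cons, not_or, List.not_mem_nil, not_false_eq_true,
      List.nodup_nil, and_true]
    exact ⟨⟨e1, f1, f2, f3⟩, ⟨f4, f5, f6⟩, ⟨e2, e3⟩, e4⟩

/-- the graph is stable under the `r_ij` -/
theorem stab (c : Same S v S' v') (i j : Fin 8) {x : V × V'} (hx : x ∈ GG S v S' v') :
    ((S.D (v i) (v j) x.1, S'.D (v' i) (v' j) x.2) : V × V') ∈ GG S v S' v' := by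
  unfold GG at hx
  induction hx using Submodule.span_induction with
  | mem x hx =>
    obtain ⟨w, rfl⟩ := hx
    cases w with
    | v l => exact mem_t i j l
    | t l m n => exact mem_y i j l m n
    | y l m n o p => exact c.cl_all i j l m n o p
  | zero => simp only [Prod.fst_zero, Prod.snd_zero, map_zero]; exact zero_mem _
  | add a b _ _ ha hb =>
    simp only [Prod.fst_add, Prod.snd_add, map_add]
    exact Submodule.add_mem _ ha hb
  | smul r a _ ha =>
    simp only [Prod.smul_fst, Prod.smul_snd, map_smul]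
    exact Submodule.smul_mem _ r ha

theorem iso_v (c : Same S v S' v') (i : Fin 8) {x : V × V'} (hx : x ∈ GG S v S' v') :
    S.om (v i) x.1 = S'.om (v' i) x.2 := by
  unfold GG at hx
  induction hx using Submodule.span_induction with
  | mem x hx =>
    obtain ⟨w, rfl⟩ := hx
    cases w with
    | v l => exact (c.h.orth i l).trans (c.h'.orth i l).symm
    | t l m n => exact c.om_vT_eq i l m n
    | y l m n o p => exact (c.h.om_vY i l m n o p).trans (c.h'.om_vY i l m n o p).symm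
  | zero => simp
  | add a b _ _ ha hb => simp only [Prod.fst_add, Prod.snd_add, map_add, ha, hb]
  | smul r a _ ha => simp only [Prod.smul_fst, Prod.smul_snd, map_smul, ha]

/-- the graph is isotropic -/
theorem iso (c : Same S v S' v') {x y : V × V'} (hx : x ∈ GG S v S' v')
    (hy : y ∈ GG S v S' v') : S.om x.1 y.1 = S'.om x.2 y.2 := by
  have hT : ∀ (i j l : Fin 8) {y : V × V'}, y ∈ GG S v S' v' →
      S.om (T S v i j l) y.1 = S'.om (T S' v' i j l) y.2 := by
    intro i j l y hy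
    rw [T, T, S.om_D, S'.om_D, c.iso_v l (c.stab i j hy)]
  unfold GG at hx
  induction hx using Submodule.span_induction with
  | mem x hx =>
    obtain ⟨w, rfl⟩ := hx
    cases w with
    | v l => exact c.iso_v l hy
    | t l m n => exact hT l m n hy
    | y l m n o p =>
      change S.om (Y S v l m n o p) y.1 = S'.om (Y S' v' l m n o p) y.2
      rw [IsCfg.Y_eq, IsCfg.Y_eq, S.om_D, S'.om_D, hT n o p (c.stab l m hy)]
  | zero => simp
  | add a b _ _ ha hb =>
    simp only [Prod.fst_add, Prod.snd_add, map_add, LinearMap.add_apply, ha, hb]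
  | smul r a _ ha =>
    simp only [Prod.smul_fst, Prod.smul_snd, map_smul, LinearMap.smul_apply, ha]

theorem fst_inj (c : Same S v S' v') {x : V × V'} (hx : x ∈ GG S v S' v') (h0 : x.1 = 0) :
    x = 0 := by
  have hs : (GG S v S' v').map (LinearMap.snd k V V') = ⊤ := by
    refine c.h'.top_of_words (by rw [c.haa]; exact c.ha) c.hd' _ (fun _ => ?_) (fun _ => ?_)
    · exact ⟨_, mem_t (S := S) (v := v) _ _ _, rfl⟩
    · exact ⟨_, mem_y (S := S) (v := v) _ _ _ _ _, rfl⟩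
  have : x.2 = 0 := by
    refine c.hn' _ fun y => ?_
    have hy : y ∈ (GG S v S' v').map (LinearMap.snd k V V') := by rw [hs]; trivial
    obtain ⟨w, hw, rfl⟩ := hy
    have := c.iso hx hw
    rw [h0] at this
    simpa only [_root_.LinearMap.snd_apply, _root_.map_zero, _root_.LinearMap.zero_apply] using this.symm
  exact Prod.ext h0 this

theorem fst_surj (c : Same S v S' v') (z : V) : ∃ x ∈ GG S v S' v', x.1 = z := by
  have hs : (GG S v S' v').map (LinearMap.fst k V V') = ⊤ := by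
    refine c.h.top_of_words c.ha c.hd _ (fun _ => ?_) (fun _ => ?_)
    · exact ⟨_, mem_t (S' := S') (v' := v') _ _ _, rfl⟩
    · exact ⟨_, mem_y (S' := S') (v' := v') _ _ _ _ _, rfl⟩
  have hz : z ∈ (GG S v S' v').map (LinearMap.fst k V V') := by rw [hs]; trivial
  obtain ⟨w, hw, h⟩ := hz
  exact ⟨w, hw, h⟩

theorem snd_inj (c : Same S v S' v') {x : V × V'} (hx : x ∈ GG S v S' v') (h0 : x.2 = 0) :
    x = 0 := by
  have : x.1 = 0 := by
    refine c.hn _ fun y => ?_
    obtain ⟨w, hw, rfl⟩ := c.fst_surj y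
    have := c.iso hx hw
    rw [h0] at this
    simpa only [_root_.map_zero, _root_.LinearMap.zero_apply] using this
  exact Prod.ext this h0

theorem snd_surj (c : Same S v S' v') (z : V') : ∃ x ∈ GG S v S' v', x.2 = z := by
  have hs : (GG S v S' v').map (LinearMap.snd k V V') = ⊤ := by
    refine c.h'.top_of_words (by rw [c.haa]; exact c.ha) c.hd' _ (fun _ => ?_) (fun _ => ?_)
    · exact ⟨_, mem_t (S := S) (v := v) _ _ _, rfl⟩
    · exact ⟨_, mem_y (S := S) (v := v) _ _ _ _ _, rfl⟩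
  have hz : z ∈ (GG S v S' v').map (LinearMap.snd k V V') := by rw [hs]; trivial
  obtain ⟨w, hw, h⟩ := hz
  exact ⟨w, hw, h⟩

/-- the isometry -/
theorem exists_iso (c : Same S v S' v') : ∃ Θ : V ≃ₗ[k] V', ∀ z, (z, Θ z) ∈ GG S v S' v' := by
  let p1 : GG S v S' v' →ₗ[k] V := (LinearMap.fst k V V').comp (GG S v S' v').subtype
  let p2 : GG S v S' v' →ₗ[k] V' := (LinearMap.snd k V V').comp (GG S v S' v').subtype
  have b1 : Function.Bijective p1 := by
    constructor
    · rw [injective_iff_map_eq_zero]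
      intro x hx
      exact Subtype.ext (c.fst_inj x.2 hx)
    · intro z
      obtain ⟨x, hx, h⟩ := c.fst_surj z
      exact ⟨⟨x, hx⟩, h⟩
  have b2 : Function.Bijective p2 := by
    constructor
    · rw [injective_iff_map_eq_zero]
      intro x hx
      exact Subtype.ext (c.snd_inj x.2 hx)
    · intro z
      obtain ⟨x, hx, h⟩ := c.snd_surj z
      exact ⟨⟨x, hx⟩, h⟩
  refine ⟨(LinearEquiv.ofBijective p1 b1).symm.trans (LinearEquiv.ofBijective p2 b2), fun z => ?_⟩
  obtain ⟨x, rfl⟩ := (LinearEquiv.ofBijective p1 b1).surjective z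
  rw [LinearEquiv.trans_apply, LinearEquiv.symm_apply_apply]
  exact x.2

end Same

end Cfsg.Agent.R2.PX.W
end

-- part: R2/PX/W/Delta
section
/-! # Part B of pattern X: `Θ` respects `D`; final theorem `exists_sim`. -/

namespace Cfsg.Agent.R2.PX.W

open Equiv

set_option linter.unusedSimpArgs false
set_option maxHeartbeats 1000000

variable {k V V' : Type*} [Field k] [AddCommGroup V] [Module k V] [AddCommGroup V'] [Module k V']
variable {S : Fts k V} {v : Fin 8 → V} {S' : Fts k V'} {v' : Fin 8 → V'}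

/-- a form on pairs of words vanishing on overlapping `t` vanishes on all pairs of `t` -/
theorem TT_of_overlap0 (h : IsCfg S v) (β : V → V → k) (hadd : ∀ x y z, β x (y + z) = β x y + β x z)
    (h0 : ∀ x, β x 0 = 0)
    (ov : ∀ i j l m n, β (T S v i j l) (T S v i m n) = 0) :
    β (T S v 0 1 2) (T S v 3 4 5) = 0 := by
  have h5 := h.five
  have key : ∀ i j : Fin 8, β (T S v 0 1 2) (T S v i j 3) + β (T S v 0 1 2) (T S v i j 4)
      + β (T S v 0 1 2) (T S v i j 5) + β (T S v 0 1 2) (T S v i j 6)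
      + β (T S v 0 1 2) (T S v i j 7) = 0 := by
    intro i j
    have e := congrArg (β (T S v 0 1 2)) (h.T_sum i j)
    simp only [hadd, h0] at e
    have e0 : β (T S v 0 1 2) (T S v i j 0) = 0 := by
      rw [h.T13 i j 0]; exact ov _ _ _ _ _
    have e1 : β (T S v 0 1 2) (T S v i j 1) = 0 := by
      rw [h.T13 i j 1, IsCfg.T12 0 1 2]; exact ov _ _ _ _ _
    have e2 : β (T S v 0 1 2) (T S v i j 2) = 0 := by
      rw [h.T13 i j 2, h.T13 0 1 2]; exact ov _ _ _ _ _
    rw [e0, e1, e2] at e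
    linear_combination e
  have k34 := key 3 4
  have k35 := key 3 5
  have k36 := key 3 6
  have k37 := key 3 7
  have k45 := key 4 5
  have k46 := key 4 6
  have k47 := key 4 7
  have k56 := key 5 6
  have k57 := key 5 7
  have k67 := key 6 7
  simp only [h.T121, h.T122, h0, IsCfg.T12, h.T23] at k34 k35 k36 k37 k45 k46 k47 k56 k57 k67
  linear_combination 2 * (k34 + k35 + k45) - (k36 + k37 + k46 + k47 + k56 + k57) + 2 * k67
    - β (T S v 0 1 2) (T S v 3 4 5) * h5

theorem TT_of_overlap (h : IsCfg S v) (β : V → V → k) (hadd : ∀ x y z, β x (y + z) = β x y + β x z)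
    (h0 : ∀ x, β x 0 = 0) (h0' : ∀ x, β 0 x = 0)
    (ov : ∀ i j l m n, β (T S v i j l) (T S v i m n) = 0) (i j l m n o : Fin 8) :
    β (T S v i j l) (T S v m n o) = 0 := by
  by_cases e1 : i = j
  · subst e1; rw [h.T112, h0']
  by_cases e2 : i = l
  · subst e2; rw [h.T121, h0']
  by_cases e3 : j = l
  · subst e3; rw [h.T122, h0']
  by_cases e4 : m = n
  · subst e4; rw [h.T112, h0]
  by_cases e5 : m = o
  · subst e5; rw [h.T121, h0]
  by_cases e6 : n = o
  · subst e6; rw [h.T122, h0]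
  by_cases f1 : i = m
  · subst f1; exact ov _ _ _ _ _
  by_cases f2 : i = n
  · subst f2; rw [IsCfg.T12 m]; exact ov _ _ _ _ _
  by_cases f3 : i = o
  · subst f3; rw [h.T13 m]; exact ov _ _ _ _ _
  rw [IsCfg.T12 i]
  by_cases f1 : j = m
  · subst f1; exact ov _ _ _ _ _
  by_cases f2 : j = n
  · subst f2; rw [IsCfg.T12 m]; exact ov _ _ _ _ _
  by_cases f3 : j = o
  · subst f3; rw [h.T13 m]; exact ov _ _ _ _ _
  rw [h.T13 j]
  by_cases f1 : l = m
  · subst f1; exact ov _ _ _ _ _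
  by_cases f2 : l = n
  · subst f2; rw [IsCfg.T12 m]; exact ov _ _ _ _ _
  by_cases f3 : l = o
  · subst f3; rw [h.T13 m]; exact ov _ _ _ _ _
  obtain ⟨p, q, nd⟩ := ext6 (i := l) (j := i) (l := j) (m := m) (n := n) (o := o) (by
    simp only [List.nodup_cons, List.mem_cons, not_or]
    simp only [List.not_mem_nil, not_false_eq_true, List.nodup_nil, and_true]
    exact ⟨⟨fun e => e2 e.symm, fun e => e3 e.symm, f1, f2, f3⟩, ⟨e1, by assumption, by assumption,
      by assumption⟩, ⟨by assumption, by assumption, by assumption⟩, ⟨e4, e5⟩, e6⟩)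
  obtain ⟨s, e0, e1, e2, e3, e4, e5, -⟩ := exists_perm8 nd
  have := TT_of_overlap0 (h.comp s) β hadd h0 fun i j l m n => ov _ _ _ _ _
  simp only [T, Function.comp_apply, e0, e1, e2, e3, e4, e5] at this
  exact this

/-- the defect -/
def dl (S : Fts k V) (S' : Fts k V') (Θ : V ≃ₗ[k] V') (x y z w : V) : k :=
  S'.om (Θ x) (S'.D (Θ y) (Θ z) (Θ w)) - S.om x (S.D y z w)

namespace Same

variable {Θ : V ≃ₗ[k] V'}

theorem th_v (c : Same S v S' v') (hΘ : ∀ z, (z, Θ z) ∈ GG S v S' v') (i : Fin 8) :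
    Θ (v i) = v' i := by
  have h1 := Submodule.sub_mem _ (hΘ (v i)) (mem_v (S := S) (v := v) (S' := S') (v' := v') i)
  rw [Prod.mk_sub_mk, sub_self] at h1
  have := c.fst_inj h1 rfl
  simpa [sub_eq_zero] using this

theorem th_om (c : Same S v S' v') (hΘ : ∀ z, (z, Θ z) ∈ GG S v S' v') (x y : V) :
    S'.om (Θ x) (Θ y) = S.om x y := (c.iso (hΘ x) (hΘ y)).symm

theorem th_r (c : Same S v S' v') (hΘ : ∀ z, (z, Θ z) ∈ GG S v S' v') (i j : Fin 8) (x : V) :
    Θ (S.D (v i) (v j) x) = S'.D (v' i) (v' j) (Θ x) := by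
  have h1 := Submodule.sub_mem _ (hΘ (S.D (v i) (v j) x)) (c.stab i j (hΘ x))
  rw [Prod.mk_sub_mk, sub_self] at h1
  have := c.fst_inj h1 rfl
  simpa [sub_eq_zero] using this

theorem dl_yz (x y z w : V) : dl S S' Θ x y z w = dl S S' Θ x z y w := by
  rw [dl, dl, S.D_comm, S'.D_comm]

theorem dl_zw (c : Same S v S' v') (hΘ : ∀ z, (z, Θ z) ∈ GG S v S' v') (x y z w : V) :
    dl S S' Θ x y z w = dl S S' Θ x y w z := by
  have h1 := congrArg (S.om x) (S.D_swap y z w)
  have h2 := congrArg (S'.om (Θ x)) (S'.D_swap (Θ y) (Θ z) (Θ w))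
  simp only [map_sub, map_add, map_smul, smul_eq_mul, c.th_om hΘ] at h1 h2
  rw [dl, dl]
  linear_combination h2 - h1

theorem dl_xw (x y z w : V) : dl S S' Θ x y z w = dl S S' Θ w y z x := by
  rw [dl, dl]
  have h1 := S.om_D y z x w
  have h2 := S'.om_D (Θ y) (Θ z) (Θ x) (Θ w)
  rw [S.om_anti] at h1
  rw [S'.om_anti] at h2
  linear_combination h2 - h1

theorem dl_xy (c : Same S v S' v') (hΘ : ∀ z, (z, Θ z) ∈ GG S v S' v') (x y z w : V) :
    dl S S' Θ x y z w = dl S S' Θ y x z w := by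
  calc dl S S' Θ x y z w = dl S S' Θ w y z x := dl_xw _ _ _ _
    _ = dl S S' Θ w z y x := dl_yz _ _ _ _
    _ = dl S S' Θ w z x y := c.dl_zw hΘ _ _ _ _
    _ = dl S S' Θ w x z y := dl_yz _ _ _ _
    _ = dl S S' Θ y x z w := dl_xw _ _ _ _

/-- invariance -/
theorem dl_inv (c : Same S v S' v') (hΘ : ∀ z, (z, Θ z) ∈ GG S v S' v') (i j : Fin 8)
    (x y z w : V) :
    dl S S' Θ (S.D (v i) (v j) x) y z w + dl S S' Θ x (S.D (v i) (v j) y) z w
      + dl S S' Θ x y (S.D (v i) (v j) z) w + dl S S' Θ x y z (S.D (v i) (v j) w) = 0 := by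
  simp only [dl, c.th_r hΘ]
  rw [S.om_D, S'.om_D, S.D_D, S'.D_D]
  simp only [map_add]
  ring

/-- `Δ(v_i, v_j, ., .) = 0` -/
theorem dl_vv (c : Same S v S' v') (hΘ : ∀ z, (z, Θ z) ∈ GG S v S' v') (i j : Fin 8) (z w : V) :
    dl S S' Θ (v i) (v j) z w = 0 := by
  -- move v_i, v_j to the middle
  have e : dl S S' Θ (v i) (v j) z w = dl S S' Θ z (v i) (v j) w := by
    rw [dl_yz, c.dl_xy hΘ]
  rw [e, dl, c.th_v hΘ, c.th_v hΘ, ← c.th_r hΘ, c.th_om hΘ, sub_self]

/-- `Δ(v_i, t, ., .) = 0` -/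
theorem dl_vt (c : Same S v S' v') (hΘ : ∀ z, (z, Θ z) ∈ GG S v S' v') (i j l m : Fin 8)
    (z w : V) : dl S S' Θ (v i) (T S v j l m) z w = 0 := by
  have z2 : ∀ x z w : V, dl S S' Θ x 0 z w = 0 := fun x z w => by simp [dl]
  have key : ∀ (i j l m : Fin 8) (z w : V), dl S S' Θ (v i) (T S v j l m) z w
      = - dl S S' Θ (v m) (T S v j l i) z w := by
    intro i j l m z w
    have := c.dl_inv hΘ j l (v i) (v m) z w
    rw [c.dl_vv hΘ, c.dl_vv hΘ, c.dl_xy hΘ (S.D (v j) (v l) (v i))] at this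
    change dl S S' Θ (v m) (T S v j l i) z w + dl S S' Θ (v i) (T S v j l m) z w + 0 + 0 = 0 at this
    linear_combination this
  have k1 := key i j l m z w
  have k2 := key m j i l z w
  have k3 := key i m l j z w
  -- A(i|jlm) = -A(m|jli);  A(m|jli)=A(m|jil) = -A(l|jim);  A(i|mlj) = -A(j|mli)
  have k4 := key i j m l z w
  rw [c.h.T23 j l i] at k1
  rw [c.h.T23 j m l, c.h.T23 j m i] at k4
  -- k1 : A(i|jlm) = -A(m|jil); k2 : A(m|jil) = -A(l|jim); k4 : A(i|jlm) = -A(l|jim)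
  have : 2 * dl S S' Θ (v i) (T S v j l m) z w = 0 := by
    linear_combination k1 - k2 + k4
  simpa [c.h.two] using this

/-- `Δ(t, t', ., .) = 0` -/
theorem dl_tt (c : Same S v S' v') (hΘ : ∀ z, (z, Θ z) ∈ GG S v S' v') (z w : V)
    (i j l m n o : Fin 8) : dl S S' Θ (T S v i j l) (T S v m n o) z w = 0 := by
  refine TT_of_overlap c.h (fun x y => dl S S' Θ x y z w) ?_ ?_ ?_ ?_ i j l m n o
  · intro x y y'; simp only [dl, map_add, LinearMap.add_apply]; ring
  · intro x; simp [dl]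
  · intro x; simp only [dl, _root_.map_zero, _root_.LinearMap.zero_apply, _root_.sub_self]
  · intro i j l m n
    have := c.dl_inv hΘ i j (v l) (T S v i m n) z w
    rw [c.dl_vt hΘ, c.dl_vt hΘ] at this
    have e : S.D (v i) (v j) (T S v i m n) = (2 * S.om (v j) (T S v i m n)) • v i := by
      rw [← IsCfg.Y_eq, c.h.Y_1]
    have e2 : dl S S' Θ (v l) (S.D (v i) (v j) (T S v i m n)) z w = 0 := by
      rw [e]
      have : ∀ (r : k) (x y : V), dl S S' Θ x (r • y) z w = r * dl S S' Θ x y z w := by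
        intro r x y; simp only [dl, map_smul, LinearMap.smul_apply, smul_eq_mul]; ring
      rw [this, c.dl_vv hΘ, mul_zero]
    rw [e2] at this
    change dl S S' Θ (T S v i j l) (T S v i m n) z w + 0 + 0 + 0 = 0 at this
    linear_combination this

theorem dl_v (c : Same S v S' v') (hΘ : ∀ z, (z, Θ z) ∈ GG S v S' v') (i : Fin 8) (y z w : V) :
    dl S S' Θ (v i) y z w = 0 := by
  let R : Submodule k V :=
    { carrier := {y | ∀ z w, dl S S' Θ (v i) y z w = 0}
      add_mem' := fun {a b} ha hb z w => by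
        have h1 := ha z w
        have h2 := hb z w
        simp only [dl, map_add, LinearMap.add_apply] at h1 h2 ⊢
        linear_combination h1 + h2
      zero_mem' := fun z w => by simp [dl]
      smul_mem' := fun r a ha z w => by
        have h1 := ha z w
        simp only [dl, map_smul, LinearMap.smul_apply, smul_eq_mul] at h1 ⊢
        linear_combination r * h1 }
  have hR : R = ⊤ := by
    refine c.h.top_of_words c.ha c.hd R ?_ ?_
    · intro j l m _ z w
      exact c.dl_vt hΘ i j l m z w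
    · intro j l m n o _ z w
      have := c.dl_inv hΘ j l (v i) (T S v m n o) z w
      rw [c.dl_vt hΘ, c.dl_vt hΘ] at this
      have e : dl S S' Θ (S.D (v j) (v l) (v i)) (T S v m n o) z w = 0 :=
        c.dl_tt hΘ z w j l i m n o
      rw [e] at this
      change 0 + dl S S' Θ (v i) (Y S v j l m n o) z w + 0 + 0 = 0 at this
      linear_combination this
  have : y ∈ R := by rw [hR]; trivial
  exact this z w

theorem dl_zero (c : Same S v S' v') (hΘ : ∀ z, (z, Θ z) ∈ GG S v S' v') (x y z w : V) :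
    dl S S' Θ x y z w = 0 := by
  let R : Submodule k V :=
    { carrier := {x | ∀ y z w, dl S S' Θ x y z w = 0}
      add_mem' := fun {a b} ha hb y z w => by
        have h1 := ha y z w
        have h2 := hb y z w
        simp only [dl, map_add, LinearMap.add_apply] at h1 h2 ⊢
        linear_combination h1 + h2
      zero_mem' := fun y z w => by simp [dl]
      smul_mem' := fun r a ha y z w => by
        have h1 := ha y z w
        simp only [dl, map_smul, LinearMap.smul_apply, smul_eq_mul] at h1 ⊢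
        linear_combination r * h1 }
  have hr : ∀ (i j : Fin 8) (x : V), x ∈ R → S.D (v i) (v j) x ∈ R := by
    intro i j x hx y z w
    have := c.dl_inv hΘ i j x y z w
    rw [hx, hx, hx] at this
    linear_combination this
  have hv : ∀ i, v i ∈ R := fun i y z w => c.dl_v hΘ i y z w
  have hR : R = ⊤ :=
    c.h.top_of_words c.ha c.hd R (fun _ => hr _ _ _ (hv _)) fun _ => hr _ _ _ (hr _ _ _ (hv _))
  have : x ∈ R := by rw [hR]; trivial
  exact this y z w

theorem th_D (c : Same S v S' v') (hΘ : ∀ z, (z, Θ z) ∈ GG S v S' v') (x y z : V) :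
    S'.D (Θ x) (Θ y) (Θ z) = Θ (S.D x y z) := by
  rw [← sub_eq_zero]
  refine c.hn' _ fun w => ?_
  obtain ⟨w, rfl⟩ := Θ.surjective w
  have := c.dl_zero hΘ w x y z
  rw [dl] at this
  rw [S'.om_anti, map_sub, c.th_om hΘ]
  linear_combination -this

end Same

/-- rescaling -/
def Fts.scale (S : Fts k V) (b : k) : Fts k V where
  om := b • S.om
  D := b • S.D
  om_self x := by simp [S.om_self]
  D_comm x y := by simp only [S.D_comm x y, _root_.LinearMap.smul_apply]
  om_D x y z w := by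
    change b * S.om (b • S.D x y z) w = - (b * S.om z (b • S.D x y w))
    rw [map_smul, map_smul, LinearMap.smul_apply, S.om_D]
    simp only [smul_eq_mul]
    ring
  D_D x y z w u := by
    change b • S.D x y (b • S.D z w u) = b • S.D (b • S.D x y z) w u +
      b • S.D z (b • S.D x y w) u + b • S.D z w (b • S.D x y u)
    have e1 : S.D (b • S.D x y z) w u = b • S.D (S.D x y z) w u := by rw [map_smul]; rfl
    have e2 : S.D z (b • S.D x y w) u = b • S.D z (S.D x y w) u := by rw [map_smul]; rfl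
    rw [e1, e2, map_smul, map_smul, S.D_D]
    module
  D_swap x y z := by
    simp only [LinearMap.smul_apply, smul_eq_mul]
    have := S.D_swap x y z
    linear_combination (norm := module) b • this

theorem IsCfg.scale (h : IsCfg S v) (b : k) : IsCfg (S.scale b) v := by
  refine ⟨h.five, h.sum, fun i => ?_, fun π hπ => ?_⟩
  · simp only [Fts.scale, h.pure i, _root_.LinearMap.smul_apply, _root_.smul_zero]
  · obtain ⟨g, g1, g2, g3⟩ := h.eqv π hπ
    refine ⟨g, fun x y => ?_, fun x y z => ?_, g3⟩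
    · simp only [Fts.scale, g1, _root_.LinearMap.smul_apply, _root_.smul_eq_mul]
    · simp only [Fts.scale, g2, _root_.LinearMap.smul_apply, _root_.map_smul]

theorem aa_scale (b : k) : aa (S.scale b) v = b ^ 2 * aa S v := by
  simp only [aa, T, Fts.scale, LinearMap.smul_apply, map_smul, smul_eq_mul]
  ring

theorem FF_scale (b : k) : FF (S.scale b) v = b ^ 5 * FF S v := by
  simp only [FF, Y, Fts.scale, LinearMap.smul_apply, map_smul, smul_eq_mul]
  ring

/-- **Part B**: two configurations are related by a similitude. -/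
theorem exists_sim (h : IsCfg S v) (h' : IsCfg S' v') (ha : aa S v ≠ 0) (ha' : aa S' v' ≠ 0)
    (hd : Module.finrank k V = 56) (hd' : Module.finrank k V' = 56)
    (hn : ∀ x, (∀ y, S.om x y = 0) → x = 0) (hn' : ∀ x, (∀ y, S'.om x y = 0) → x = 0) :
    ∃ (Θ : V ≃ₗ[k] V') (b : k), b ≠ 0 ∧ (∀ x y, S'.om (Θ x) (Θ y) = b * S.om x y) ∧
      (∀ x y z, S'.D (Θ x) (Θ y) (Θ z) = b • Θ (S.D x y z)) ∧ ∀ i, Θ (v i) = v' i := by
  have hF := h.FF_sq ha hd hn
  have hF' := h'.FF_sq ha' hd' hn'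
  have hF0 : FF S v ≠ 0 := fun e => by
    rw [e] at hF; exact pow_ne_zero 5 ha (by rw [← hF]; ring)
  have hF0' : FF S' v' ≠ 0 := fun e => by
    rw [e] at hF'; exact pow_ne_zero 5 ha' (by rw [← hF']; ring)
  -- scaling factors c = a^2 / F
  have e1 : (aa S v ^ 2 / FF S v) ^ 2 * aa S v = 1 := by
    rw [div_pow, hF]; field_simp
  have e2 : (aa S v ^ 2 / FF S v) ^ 5 * FF S v = 1 := by
    have : (aa S v ^ 2 / FF S v) ^ 5 * FF S v
        = (aa S v ^ 5) ^ 2 / (FF S v ^ 2) ^ 2 := by field_simp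
    rw [this, hF]; field_simp
  have e1' : (aa S' v' ^ 2 / FF S' v') ^ 2 * aa S' v' = 1 := by
    rw [div_pow, hF']; field_simp
  have e2' : (aa S' v' ^ 2 / FF S' v') ^ 5 * FF S' v' = 1 := by
    have : (aa S' v' ^ 2 / FF S' v') ^ 5 * FF S' v'
        = (aa S' v' ^ 5) ^ 2 / (FF S' v' ^ 2) ^ 2 := by field_simp
    rw [this, hF']; field_simp
  set b := aa S v ^ 2 / FF S v with hb
  set b' := aa S' v' ^ 2 / FF S' v' with hb'
  have b0 : b ≠ 0 := div_ne_zero (pow_ne_zero 2 ha) hF0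
  have b0' : b' ≠ 0 := div_ne_zero (pow_ne_zero 2 ha') hF0'
  have c : Same (S.scale b) v (S'.scale b') v' := by
    refine ⟨h.scale b, h'.scale b', ?_, ?_, ?_, hd, hd', ?_, ?_⟩
    · rw [aa_scale, e1]; exact one_ne_zero
    · rw [aa_scale, aa_scale, e1, e1']
    · rw [FF_scale, FF_scale, e2, e2']
    · intro x hx
      refine hn x fun y => ?_
      have := hx y
      simpa only [Fts.scale, b0, _root_.LinearMap.smul_apply, _root_.smul_eq_mul, _root_.mul_eq_zero, _root_.false_or] using this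
    · intro x hx
      refine hn' x fun y => ?_
      have := hx y
      simpa only [Fts.scale, b0', _root_.LinearMap.smul_apply, _root_.smul_eq_mul, _root_.mul_eq_zero, _root_.false_or] using this
  obtain ⟨Θ, hΘ⟩ := c.exists_iso
  refine ⟨Θ, b / b', div_ne_zero b0 b0', fun x y => ?_, fun x y z => ?_, c.th_v hΘ⟩
  · have := c.th_om hΘ x y
    simp only [Fts.scale, LinearMap.smul_apply, smul_eq_mul] at this
    field_simp
    linear_combination this
  · have := c.th_D hΘ x y z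
    simp only [Fts.scale, LinearMap.smul_apply, map_smul] at this
    have e : S'.D (Θ x) (Θ y) (Θ z) = b'⁻¹ • (b' • S'.D (Θ x) (Θ y) (Θ z)) := by
      rw [smul_smul, inv_mul_cancel₀ b0', one_smul]
    rw [e, this, smul_smul, div_eq_inv_mul]

end Cfsg.Agent.R2.PX.W
end

-- part: R2/PX/W/App
section
/-! # Part B of pattern X: application to the module `V F` of `E₇` (helper26). -/

set_option autoImplicit false
set_option maxRecDepth 100000

namespace Cfsg.Agent.R2.PX.W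

open Cfsg Cfsg.Lie Matrix
open Cfsg.Agent.R2.T1
open Cfsg.Agent.R2.PX
open Cfsg.Agent.H943.E7V.Block (D1 rho)

universe u
variable {F : Type u} [Field F]

/-- `N` acts as a derivation -/
def IsD (N : Matrix D1 D1 F) : Prop :=
  ∀ x y, N * DD F x y - DD F x y * N = DD F (N *ᵥ x) y + DD F x (N *ᵥ y)

theorem IsD.zero : IsD (0 : Matrix D1 D1 F) := fun x y => by
  rw [Matrix.zero_mul, Matrix.mul_zero, Matrix.zero_mulVec, Matrix.zero_mulVec, DD_zero_left,
    DD_zero_right]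
  simp

theorem IsD.add {A B : Matrix D1 D1 F} (hA : IsD A) (hB : IsD B) : IsD (A + B) := fun x y => by
  rw [Matrix.add_mul, Matrix.mul_add, Matrix.add_mulVec, Matrix.add_mulVec, DD_add_left,
    DD_add_right]
  have h1 := hA x y
  have h2 := hB x y
  calc A * DD F x y + B * DD F x y - (DD F x y * A + DD F x y * B)
      = (A * DD F x y - DD F x y * A) + (B * DD F x y - DD F x y * B) := by abel
    _ = _ := by rw [h1, h2]; abel

theorem IsD.smul {A : Matrix D1 D1 F} (c : F) (hA : IsD A) : IsD (c • A) := fun x y => by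
  rw [Matrix.smul_mul, Matrix.mul_smul, Matrix.smul_mulVec, Matrix.smul_mulVec, DD_smul_left,
    DD_smul_right, ← smul_sub, hA x y, smul_add]

theorem IsD.sum {ι : Type*} (s : Finset ι) {A : ι → Matrix D1 D1 F} (hA : ∀ i, IsD (A i)) :
    IsD (∑ i ∈ s, A i) := by
  classical
  induction s using Finset.induction_on with
  | empty => rw [Finset.sum_empty]; exact IsD.zero
  | insert a s ha ih => rw [Finset.sum_insert ha]; exact (hA a).add ih

theorem IsD.comm {A B : Matrix D1 D1 F} (hA : IsD A) (hB : IsD B) : IsD (A * B - B * A) := by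
  intro x y
  have a1 := hA x y
  have b1 := hB x y
  have a2 := hA (B *ᵥ x) y
  have a3 := hA x (B *ᵥ y)
  have b2 := hB (A *ᵥ x) y
  have b3 := hB x (A *ᵥ y)
  rw [Matrix.sub_mulVec, Matrix.sub_mulVec, ← Matrix.mulVec_mulVec, ← Matrix.mulVec_mulVec,
    ← Matrix.mulVec_mulVec, ← Matrix.mulVec_mulVec]
  have e1 : DD F (A *ᵥ B *ᵥ x - B *ᵥ A *ᵥ x) y = DD F (A *ᵥ B *ᵥ x) y - DD F (B *ᵥ A *ᵥ x) y := by
    rw [sub_eq_add_neg, DD_add_left, DD_neg_left, ← sub_eq_add_neg]
  have e2 : DD F x (A *ᵥ B *ᵥ y - B *ᵥ A *ᵥ y) = DD F x (A *ᵥ B *ᵥ y) - DD F x (B *ᵥ A *ᵥ y) := by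
    rw [sub_eq_add_neg, DD_add_right, DD_neg_right, ← sub_eq_add_neg]
  rw [e1, e2]
  have c1 := congrArg (fun M => A * M - M * A) b1
  have c2 := congrArg (fun M => B * M - M * B) a1
  simp only [Matrix.mul_add, Matrix.add_mul] at c1 c2
  have d1 : A * (B * DD F x y - DD F x y * B) - (B * DD F x y - DD F x y * B) * A
      = (DD F (A *ᵥ B *ᵥ x) y + DD F (B *ᵥ x) (A *ᵥ y))
        + (DD F (A *ᵥ x) (B *ᵥ y) + DD F x (A *ᵥ B *ᵥ y)) := by
    rw [c1, ← a2, ← a3]; abel
  have d2 : B * (A * DD F x y - DD F x y * A) - (A * DD F x y - DD F x y * A) * B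
      = (DD F (B *ᵥ A *ᵥ x) y + DD F (A *ᵥ x) (B *ᵥ y))
        + (DD F (B *ᵥ x) (A *ᵥ y) + DD F x (B *ᵥ A *ᵥ y)) := by
    rw [c2, ← b2, ← b3]; abel
  calc (A * B - B * A) * DD F x y - DD F x y * (A * B - B * A)
      = (A * (B * DD F x y - DD F x y * B) - (B * DD F x y - DD F x y * B) * A)
        - (B * (A * DD F x y - DD F x y * A) - (A * DD F x y - DD F x y * A) * B) := by
        noncomm_ring
    _ = _ := by rw [d1, d2]; abel

section five
variable [CharP F 5]

theorem isD_NM {r : ℕ} (hr : r < 126) : IsD (NM F r) := by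
  intro x y
  set N := NM F r
  set A := DD F (N *ᵥ x) y + DD F x (N *ᵥ y) + DD F x y * N - N * DD F x y with hA
  set B := DD F (N *ᵥ x) (N *ᵥ y) + (DD F (N *ᵥ x) y + DD F x (N *ᵥ y)) * N with hB
  set C := DD F (N *ᵥ x) (N *ᵥ y) * N with hC
  have key : ∀ t : F, t • A + t ^ 2 • B + t ^ 3 • C = 0 := by
    intro t
    have h := DD_equi (xs F r t) x y
    have e : rho F (xs F r t) = 1 + t • N := rho_xs' hr t
    rw [V_xs hr, V_xs hr, e] at h
    change DD F (x + t • (N *ᵥ x)) (y + t • (N *ᵥ y)) * (1 + t • N) = (1 + t • N) * DD F x y at h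
    rw [DD_add_left, DD_add_right, DD_add_right, DD_smul_left, DD_smul_left, DD_smul_right,
      DD_smul_right] at h
    have h' := sub_eq_zero.2 h
    rw [← h', hA, hB, hC]
    simp only [Matrix.mul_add, Matrix.add_mul, Matrix.mul_one, Matrix.one_mul, Matrix.smul_mul,
      Matrix.mul_smul, smul_add, smul_sub, smul_smul]
    module
  have k1 := key 1
  have k2 := key (-1)
  have k3 := key 2
  have h5 : ∀ M : Matrix D1 D1 F, (5 : F) • M = 0 := fun M => by rw [five_zero, zero_smul]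
  have hA0 : A = 0 := by
    -- 2A + 8C = 0, A + C = 0 (from k1 - k2)
    have l1 : (2 : F) • (A + C) = 0 := by linear_combination (norm := module) k1 - k2
    have l2 : A + C = 0 := (smul_eq_zero.1 l1).resolve_left two_ne
    have l3 : (2 : F) • B = 0 := by linear_combination (norm := module) k1 + k2
    linear_combination (norm := module) (-1 : F) • k3 + (2 : F) • l3 + (8 : F) • l2 - h5 A
  have : N * DD F x y - DD F x y * N - (DD F (N *ᵥ x) y + DD F x (N *ᵥ y)) = -A := by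
    rw [hA]; abel
  rw [hA0, neg_zero] at this
  exact sub_eq_zero.1 this

theorem isD_Hd {r : ℕ} (hr : r < 126) : IsD (Hd F r) := by
  rw [← NM_comm_neg hr]
  exact (isD_NM hr).comm (isD_NM (by omega))

theorem simple_coroot : ∀ i : Fin chevE7.rank, ∀ j : Fin chevE7.rank,
    (chevE7.coroot.getD (([93, 78, 73, 69, 66, 64, 63] : List ℕ).getD i 0) #[]).getD j 0
      = if i = j then (1 : ℤ) else 0 := by
  decide +kernel

theorem simple_lt : ∀ i : Fin chevE7.rank, ([93, 78, 73, 69, 66, 64, 63] : List ℕ).getD i 0 < 126 := by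
  decide

theorem isD_Hi (i : Fin chevE7.rank) : IsD (Hi F i) := by
  have h : Hd F (([93, 78, 73, 69, 66, 64, 63] : List ℕ).getD i 0) = Hi F i := by
    rw [Hd_eq, Finset.sum_eq_single i]
    · rw [simple_coroot i i, if_pos rfl, Int.cast_one, one_smul]
    · intro j _ hj
      rw [simple_coroot i j, if_neg (fun h => hj h.symm), Int.cast_zero, zero_smul]
    · intro h; exact absurd (Finset.mem_univ _) h
  rw [← h]
  exact isD_Hd (simple_lt i)

theorem isD_del (z : chevE7.Idx → F) : IsD (del F z) := by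
  rw [del_apply]
  exact (IsD.sum _ fun i => (isD_Hi i).smul _).add
    (IsD.sum _ fun s => (isD_NM s.2).smul _)

/-- `DD x y` is a derivation -/
theorem DD_der (x y z w u : D1 → F) : DD F x y *ᵥ (DD F z w *ᵥ u) =
    DD F (DD F x y *ᵥ z) w *ᵥ u + DD F z (DD F x y *ᵥ w) *ᵥ u + DD F z w *ᵥ (DD F x y *ᵥ u) := by
  have h := isD_del (dd x y) z w
  rw [del_dd] at h
  have h' := congrArg (fun M => M *ᵥ u) h
  simp only [Matrix.sub_mulVec, Matrix.add_mulVec, ← Matrix.mulVec_mulVec] at h'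
  rw [← h']; abel

/-- the triple system of the module -/
noncomputable def Sy (F : Type u) [Field F] [CharP F 5] : Fts F (D1 → F) where
  om := sf F
  D := LinearMap.mk₂ F (fun x y => Matrix.mulVecLin (DD F x y))
    (fun x x' y => by rw [DD_add_left, Matrix.mulVecLin_add])
    (fun c x y => by rw [DD_smul_left]; ext1 z; simp)
    (fun x y y' => by rw [DD_add_right, Matrix.mulVecLin_add])
    (fun c x y => by rw [DD_smul_right]; ext1 z; simp)
  om_self := sf_self
  D_comm x y := by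
    rw [LinearMap.mk₂_apply, LinearMap.mk₂_apply, DD_comm]
  om_D x y z w := sf_DD x y z w
  D_D x y z w u := DD_der x y z w u
  D_swap x y z := ident x y z

/-- configurations in existential form -/
structure Cfg (F : Type u) [Field F] (v : Fin 8 → D1 → F) : Prop where
  act : ∀ π : Equiv.Perm (Fin 8), Equiv.Perm.sign π = 1 → ∃ g : Gh F, ∀ i, V F g (v i) = v (π i)
  sum : ∑ i, v i = 0
  pure : ∀ i, Pure F (v i)
  ne : sf F (v 0) (DD F (v 1) (v 2) *ᵥ v 3) ≠ 0

theorem Cfg.isCfg {v : Fin 8 → D1 → F} (h : Cfg F v) : IsCfg (Sy F) v := by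
  refine ⟨five_zero, h.sum, fun i => ?_, fun π hπ => ?_⟩
  · refine LinearMap.ext fun z => ?_
    change DD F (v i) (v i) *ᵥ z = 0
    rw [h.pure i, Matrix.zero_mulVec]
  · obtain ⟨g, hg⟩ := h.act π hπ
    exact ⟨V F g, fun x y => sf_V g x y, fun x y z => DD_V g x y z, hg⟩

omit [CharP F 5] in
theorem _root_.Cfsg.Agent.R2.PX.Config.cfg {ψ : ↥(alternatingGroup (Fin 8)) →* Gh F}
    {v : Fin 8 → D1 → F} (h : Config F ψ v) : Cfg F v :=
  ⟨fun π hπ => ⟨ψ ⟨π, Equiv.Perm.mem_alternatingGroup.2 hπ⟩, fun i => h.act _ i⟩, h.sum, h.pure,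
    h.ne⟩

/-- **Part B**: two configurations are related by a similitude. -/
theorem exists_isSim {u v : Fin 8 → D1 → F} (hu : Cfg F u) (hv : Cfg F v) :
    ∃ (Θ : (D1 → F) ≃ₗ[F] (D1 → F)) (b : F), IsSim F Θ b ∧ ∀ i, Θ (u i) = v i := by
  obtain ⟨Θ, b, h0, h1, h2, h3⟩ := exists_sim hu.isCfg hv.isCfg hu.ne hv.ne finrank_V finrank_V
    (fun x hx => sf_nondeg' hx) (fun x hx => sf_nondeg' hx)
  exact ⟨Θ, b, ⟨h0, h1, h2⟩, h3⟩

end five

end Cfsg.Agent.R2.PX.W
end

-- part: R2/PX/C/Main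
section
/-!
# Pattern X, Part C: the conclusion (helper3)

* `std_cfg` : the standard configuration is a configuration;
* `no_cfg` : a maximal subgroup does not stabilise the span of a configuration.
-/

set_option autoImplicit false

namespace Cfsg.Agent.R2.PX.C

open Cfsg Cfsg.Lie Module Matrix
open Cfsg.Agent.R2.T1 Cfsg.Agent.R2.PX
open Cfsg.Agent.R2.PX.W (Cfg exists_isSim)
open Cfsg.Agent.H943.E7V.Block (D1 rho)

universe u
variable {F : Type u} [Field F] [CharP F 5]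

/-- **the standard configuration** -/
theorem std_cfg : Cfg F (uv F) where
  act := uv_act F
  sum := uv_sum
  pure := uv_pure
  ne := uv_ne

theorem three_ne : (3 : F) ≠ 0 := by
  have h5 : (5 : F) = 0 := five_zero
  intro h3
  apply one_ne_zero (α := F)
  linear_combination 2 * h3 - h5

/-- **Part C of pattern X** : a maximal subgroup does not stabilise the span of a configuration -/
theorem no_cfg {H : Subgroup ↥(chevE7.group F)} (hM : IsCoatom H) {v : Fin 8 → D1 → F} (hv : Cfg F v)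
    (hS : Stab (V F) H (Submodule.span F (Set.range v))) : False := by
  obtain ⟨Θ, b, hΘ, hv'⟩ := exists_isSim std_cfg hv
  have hW : (W7 F).map (Θ : (D1 → F) →ₗ[F] (D1 → F)) = Submodule.span F (Set.range v) := by
    rw [W7, Submodule.map_span, ← Set.range_comp]
    congr 2
    funext i
    exact hv' i
  have hWW := map_WW hΘ (W7 F)
  rw [hW] at hWW
  have hSt := stab_WW hS
  have hiso : ∀ i j, sf F (v i) (v j) = 0 := fun i j => by
    rw [← hv', ← hv', hΘ.form, uv_iso, mul_zero]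
  obtain ⟨g', hg'⟩ := Tr.sim_norm (fun g x y => DD_equi g x y) two_ne three_ne hΘ (g0 F)
  have h0 : WW F (Submodule.span F (Set.range v)) ≠ ⊥ := by
    intro h
    have h1 : v 0 ∈ WW F (Submodule.span F (Set.range v)) := Submodule.mem_sup_left (Submodule.subset_span ⟨0, rfl⟩)
    rw [h, Submodule.mem_bot] at h1
    apply hv.ne
    rw [h1, map_zero]
    rfl
  have h1 : WW F (Submodule.span F (Set.range v)) ≠ ⊤ := by
    intro h
    have h2 : WW F (Submodule.span F (Set.range v)) ≤ LinearMap.ker (sf F (v 0)) := by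
      refine sup_le ?_ ?_
      · refine Submodule.span_le.2 ?_
        rintro _ ⟨i, rfl⟩
        exact hiso 0 i
      · rintro x ⟨-, hx⟩
        exact hx _ (Submodule.subset_span ⟨0, rfl⟩)
    apply hv.ne
    have h3 : DD F (v 1) (v 2) *ᵥ v 3 ∈ WW F (Submodule.span F (Set.range v)) := by rw [h]; trivial
    exact h2 h3
  have hstab : ∀ w ∈ WW F (Submodule.span F (Set.range v)), V F g' w ∈ WW F (Submodule.span F (Set.range v)) := by
    intro w hw
    rw [← hWW] at hw ⊢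
    obtain ⟨x, hx, rfl⟩ := hw
    exact ⟨V F (g0 F) x, g0_WW x hx, (hg' x).symm⟩
  have hH := blue hM hSt h0 h1 hstab
  obtain ⟨x, hx, hx'⟩ := g0_W7 (F := F)
  apply hx'
  have h2 : V F g' (Θ x) ∈ Submodule.span F (Set.range v) := by
    refine hS g' hH _ ?_
    rw [← hW]
    exact ⟨x, hx, rfl⟩
  rw [hg', ← hW] at h2
  obtain ⟨y, hy, hy'⟩ := h2
  have h3 : y = V F (g0 F) x := Θ.injective hy'
  rw [← h3]
  exact hy

end Cfsg.Agent.R2.PX.C
end

private theorem dce_2cc6c311cc05 : _root_.True := by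
  try have : _root_.True := by simp only [_root_.Cfsg.Agent.R2.PX.W.dl.eq_1]
  try have : _root_.True := by simp only [_root_.Cfsg.Agent.R2.PX.W.Fts.mk.congr_simp]
  try have : _root_.True := by simp only [_root_.Cfsg.Agent.R2.PX.W.Fts.scale.eq_1]
  try have : _root_.True := by simp only [_root_.Cfsg.Agent.R2.PX.C.W7.eq_1]
  exact _root_.True.intro
end

-- part: R2/T1/E5/Pat
section
prune_inst 0x4e5605c404140020000000586110000640800000200488c00cc0000040008c6400002a8403120111210288c000009006811000030426000000e00000000010120900052060340a104660099800080000000000000000000000000000000010004000000000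
set_option linter.all false
open scoped Cfsg.Agent.FastGrp

-- part: R2/PX/A/St
section
/-!
# Pattern X of S5771, Part A: the stability of the span (helper7)

* `conj_perm` : the preimage of `H` acts on `ψ(A₈)` by permutations;
* `exists_stab` : translates of a suitable fixed vector of `A₇` span an `H`-stable subspace.
-/

set_option autoImplicit false

namespace Cfsg.Agent.R2.PX.A

open Cfsg Cfsg.Lie Module Equiv
open Cfsg.Agent.R2.T1
open Cfsg.Agent.H952.F4 (ev es MaxAlt)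
open Cfsg.Agent.H943.E7V.Block (D1 rho)

universe u
variable {F : Type u} [Field F] {H : Subgroup ↥(chevE7.group F)} {φ : A8 →* ↥(chevE7.group F)} {ψ : A8 →* Gh F}

/-- two homomorphisms with the same image in the adjoint group are equal -/
theorem hom_eq {θ₁ θ₂ : A8 →* Gh F} (h : ∀ a, ad F (θ₁ a) = ad F (θ₂ a)) : θ₁ = θ₂ := by
  have hz : ∀ a, ad F (θ₁ a * (θ₂ a)⁻¹) = 1 := fun a => by rw [map_mul, map_inv, h, mul_inv_cancel]
  let z : A8 →* Gh F := MonoidHom.mk' (fun a => θ₁ a * (θ₂ a)⁻¹) fun a b => by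
    have h1 := ker_comm (hz b) (θ₂ a)⁻¹
    calc θ₁ (a * b) * (θ₂ (a * b))⁻¹ = θ₁ a * ((θ₁ b * (θ₂ b)⁻¹) * (θ₂ a)⁻¹) := by
          rw [map_mul, map_mul, mul_inv_rev]; group
      _ = θ₁ a * ((θ₂ a)⁻¹ * (θ₁ b * (θ₂ b)⁻¹)) := by rw [h1]
      _ = θ₁ a * (θ₂ a)⁻¹ * (θ₁ b * (θ₂ b)⁻¹) := by group
  have hz' : ∀ a, z a = θ₁ a * (θ₂ a)⁻¹ := fun _ => rfl
  have h2 : commutator A8 ≤ z.ker := by
    rw [commutator_def, Subgroup.commutator_le]
    intro a _ b _
    rw [MonoidHom.mem_ker, map_commutatorElement, commutatorElement_eq_one_iff_mul_comm]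
    exact ker_comm (by rw [hz']; exact hz b) _
  rw [alt_perfect (by norm_num), top_le_iff] at h2
  refine MonoidHom.ext fun a => ?_
  have h3 : a ∈ z.ker := by rw [h2]; trivial
  rw [MonoidHom.mem_ker, hz'] at h3
  exact mul_inv_eq_one.1 h3

/-- conjugation by a permutation -/
def cj (σ : Perm (Fin 8)) (a : A8) : A8 := ⟨σ * a * σ⁻¹, by
  have h := Perm.mem_alternatingGroup.1 a.2
  rw [Perm.mem_alternatingGroup, Perm.sign_mul, Perm.sign_mul, h, mul_one, Perm.sign_inv, Int.units_mul_self]⟩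

theorem cj_coe (σ : Perm (Fin 8)) (a : A8) : (cj σ a : Perm (Fin 8)) = σ * a * σ⁻¹ := rfl

theorem cj_mul (σ τ : Perm (Fin 8)) (a : A8) : cj (σ * τ) a = cj σ (cj τ a) := Subtype.ext (by
  rw [cj_coe, cj_coe, cj_coe]; group)

theorem cj_one (a : A8) : cj 1 a = a := Subtype.ext (by rw [cj_coe]; group)

/-- the elements of `H` act on `A₈` as permutations (helper11's `T1.exists_perm`) -/
theorem exists_perm8 (hM : MaxAlt H 8 φ) {h : ↥(chevE7.group F)} (hh : h ∈ H) :
    ∃ σ : Perm (Fin 8), ∀ a b : A8, (b : Perm (Fin 8)) = σ * a * σ⁻¹ → h * φ a * h⁻¹ = φ b := by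
  have hex : ∀ a, ∃ b, φ b = h * φ a * h⁻¹ := fun a => hM.norm h hh _ ⟨a, rfl⟩
  choose f hf using hex
  let e0 : A8 →* A8 := MonoidHom.mk' f fun a b => hM.inj (by
    rw [hf, map_mul, map_mul, hf, hf]; group)
  have he0 : ∀ a, φ (e0 a) = h * φ a * h⁻¹ := hf
  have hinj : Function.Injective e0 := by
    intro a b hab
    apply hM.inj
    have h1 : h * φ a * h⁻¹ = h * φ b * h⁻¹ := by rw [← he0, ← he0, hab]
    exact mul_left_cancel (mul_right_cancel h1)
  let e : MulAut A8 := MulEquiv.ofBijective e0 (Finite.injective_iff_bijective.1 hinj)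
  obtain ⟨θ, hθ⟩ := Cfsg.Agent.StandardComponent.AltAut.exists_autHom 8 (by norm_num)
  refine ⟨θ e, fun a b hb => ?_⟩
  have h1 : e a = b := by
    apply Subtype.ext
    rw [hθ e a, hb]
  rw [← h1, ← he0]
  rfl

/-- **the preimage of `H` acts on `ψ(A₈)` by permutations** -/
theorem conj_perm (hM : MaxAlt H 8 φ) (hL : Lift φ ψ) {g : Gh F} (hg : ad F g ∈ H) :
    ∃ σ : Perm (Fin 8), ∀ a : A8, g * ψ a * g⁻¹ = ψ (cj σ a) := by
  obtain ⟨σ, hσ⟩ := exists_perm8 hM hg
  refine ⟨σ, ?_⟩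
  have h1 : (MulAut.conj g).toMonoidHom.comp ψ = ψ.comp (MonoidHom.mk' (cj σ) fun a b => Subtype.ext (by
      show σ * (a * b : Perm (Fin 8)) * σ⁻¹ = (σ * a * σ⁻¹) * (σ * b * σ⁻¹)
      group)) := by
    apply hom_eq
    intro a
    show ad F (g * ψ a * g⁻¹) = ad F (ψ (cj σ a))
    rw [map_mul, map_mul, map_inv, hL, hL]
    exact hσ a (cj σ a) rfl
  exact fun a => DFunLike.congr_fun h1 a

/-- elements centralizing `ψ(A₈)` -/
theorem cent_one (hM : MaxAlt H 8 φ) (hL : Lift φ ψ) {g : Gh F} (h : ∀ a, g * ψ a * g⁻¹ = ψ a) : ad F g = 1 := by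
  apply centralizer_eq hM (by norm_num)
  intro a
  rw [← hL, ← map_mul, ← map_mul]
  congr 1
  exact (mul_inv_eq_iff_eq_mul.1 (h a)).symm

/-- the centre acts as `±1` -/
theorem V_pm {g : Gh F} (h : ad F g = 1) : ∃ e : F, e * e = 1 ∧ ∀ v, V F g v = e • v := by
  rcases ad_eq_one_iff.1 h with h1 | h1
  · exact ⟨1, one_mul 1, fun v => by rw [h1, one_smul]; rfl⟩
  · exact ⟨-1, by ring, fun v => by rw [h1, neg_smul, one_smul]; rfl⟩

/-- **the span of the translates of a suitable vector is stable** -/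
theorem exists_stab [CharP F 5] (hM : MaxAlt H 8 φ) (hL : Lift φ ψ) {y : D1 → F} (hy0 : y ≠ 0)
    (hy : ∀ g : A8, (g : Perm (Fin 8)) 7 = 7 → V F (ψ g) y = y) :
    ∃ v : Fin 8 → D1 → F, v 7 ≠ 0 ∧ (∀ (p : A8) (i : Fin 8), V F (ψ p) (v i) = v ((p : Perm (Fin 8)) i)) ∧
      Stab (V F) H (Submodule.span F (Set.range v)) := by
  have Vm : ∀ (a b : Gh F) (w : D1 → F), V F (a * b) w = V F a (V F b w) := fun a b w => by rw [map_mul]; rfl
  -- reduction to the translates
  have red : ∀ v : Fin 8 → D1 → F, (∀ g : Gh F, ad F g ∈ H → ∀ i, ∃ (j : Fin 8) (c : F), V F g (v i) = c • v j) →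
      Stab (V F) H (Submodule.span F (Set.range v)) := by
    intro v hv g hg w hw
    induction hw using Submodule.span_induction with
    | mem x hx =>
      obtain ⟨i, rfl⟩ := hx
      obtain ⟨j, c, h⟩ := hv g hg i
      rw [h]
      exact Submodule.smul_mem _ _ (Submodule.subset_span ⟨j, rfl⟩)
    | zero => rw [map_zero]; exact zero_mem _
    | add a b _ _ ha hb => rw [map_add]; exact add_mem ha hb
    | smul t a _ ha => rw [map_smul]; exact Submodule.smul_mem _ _ ha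
  by_cases hcase : ∀ g : Gh F, ad F g ∈ H → ∃ a : A8, ad F g = φ a
  · -- `H = φ(A₈)`
    obtain ⟨v, hv7, hv⟩ := family1 (ρ := MonoidHom.comp (V F) ψ) hy
    refine ⟨v, by rw [hv7]; exact hy0, hv, red v fun g hg i => ?_⟩
    obtain ⟨a, ha⟩ := hcase g hg
    obtain ⟨e, -, he⟩ := V_pm (g := (ψ a)⁻¹ * g) (by rw [map_mul, map_inv, hL, ha, inv_mul_cancel])
    refine ⟨(a : Perm (Fin 8)) i, e, ?_⟩
    have h1 : g = ψ a * ((ψ a)⁻¹ * g) := by group
    rw [h1, Vm, he, map_smul]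
    congr 1
    exact hv a i
  · push Not at hcase
    obtain ⟨g0, hg0, hg0'⟩ := hcase
    obtain ⟨σ0, hσ0⟩ := conj_perm hM hL hg0
    -- even permutations come from `A₈`
    have even_case : ∀ g : Gh F, ∀ σ : Perm (Fin 8), (∀ a : A8, g * ψ a * g⁻¹ = ψ (cj σ a)) → Perm.sign σ = 1 →
        ∃ a : A8, (a : Perm (Fin 8)) = σ ∧ ad F ((ψ a)⁻¹ * g) = 1 := by
      intro g σ hσ hs
      refine ⟨⟨σ, Perm.mem_alternatingGroup.2 hs⟩, rfl, cent_one hM hL fun a => ?_⟩
      set b : A8 := ⟨σ, Perm.mem_alternatingGroup.2 hs⟩ with hb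
      have h1 : (ψ b)⁻¹ * g * ψ a * ((ψ b)⁻¹ * g)⁻¹ = (ψ b)⁻¹ * (g * ψ a * g⁻¹) * ψ b := by group
      rw [h1, hσ, ← map_inv, ← map_mul, ← map_mul]
      congr 1
      apply Subtype.ext
      show (σ⁻¹ * (σ * a * σ⁻¹) * σ : Perm (Fin 8)) = a
      group
    have hs0 : Perm.sign σ0 = -1 := by
      rcases Int.units_eq_one_or (Perm.sign σ0) with h | h
      · exfalso
        obtain ⟨a, -, ha⟩ := even_case g0 σ0 hσ0 h
        apply hg0' a
        rw [map_mul, map_inv, inv_mul_eq_one] at ha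
        rw [← ha, hL]
      · exact h
    set τ : Perm (Fin 8) := swap (0 : Fin 8) 1 with hτ
    have hτs : Perm.sign τ = -1 := Perm.sign_swap (by decide)
    have hτ7 : τ 7 = 7 := by decide
    set b : A8 := ⟨τ * σ0⁻¹, by
      rw [Perm.mem_alternatingGroup, Perm.sign_mul, Perm.sign_inv, hs0, hτs]; rfl⟩ with hb
    set t : Gh F := ψ b * g0 with ht
    have htc : ∀ a : A8, t * ψ a * t⁻¹ = ψ (cj τ a) := by
      intro a
      have h1 : t * ψ a * t⁻¹ = ψ b * (g0 * ψ a * g0⁻¹) * (ψ b)⁻¹ := by rw [ht]; group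
      rw [h1, hσ0, ← map_inv, ← map_mul, ← map_mul]
      congr 1
      apply Subtype.ext
      show (τ * σ0⁻¹ * (σ0 * a * σ0⁻¹) * (τ * σ0⁻¹)⁻¹ : Perm (Fin 8)) = τ * a * τ⁻¹
      group
    have htH : ad F t ∈ H := by
      rw [ht, map_mul, hL]
      exact mul_mem (hM.le ⟨b, rfl⟩) hg0
    have hcomm : ∀ (a : A8) (w : D1 → F), V F t (V F (ψ a) w) = V F (ψ (cj τ a)) (V F t w) := by
      intro a w
      rw [← Vm, ← Vm, ← htc]
      congr 2
      group
    -- `t²` acts as `±1`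
    have htt : ad F (t * t) = 1 := by
      apply cent_one hM hL
      intro a
      have h1 : t * t * ψ a * (t * t)⁻¹ = t * (t * ψ a * t⁻¹) * t⁻¹ := by group
      rw [h1, htc, htc, ← cj_mul]
      have h2 : τ * τ = 1 := swap_mul_self _ _
      rw [h2, cj_one]
    obtain ⟨e, he, het⟩ := V_pm htt
    obtain ⟨c, hc⟩ : ∃ c : F, c * c = e := by
      rcases mul_self_eq_one_iff.1 he with rfl | rfl
      · exact ⟨1, one_mul 1⟩
      · refine ⟨2, ?_⟩
        have h5 : (5 : F) = 0 := five_zero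
        linear_combination h5
    have hc0 : c ≠ 0 := by
      rintro rfl
      rw [mul_zero] at hc
      rw [← hc, mul_zero] at he
      exact zero_ne_one he
    -- an eigenvector
    obtain ⟨y', c', hy'0, hy', hty⟩ : ∃ (y' : D1 → F) (c' : F), y' ≠ 0 ∧
        (∀ g : A8, (g : Perm (Fin 8)) 7 = 7 → V F (ψ g) y' = y') ∧ V F t y' = c' • y' := by
      by_cases h1 : V F t y + c • y = 0
      · refine ⟨y, -c, hy0, hy, ?_⟩
        rw [neg_smul]
        exact eq_neg_of_add_eq_zero_left h1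
      · refine ⟨V F t y + c • y, c, h1, fun g hg => ?_, ?_⟩
        · rw [map_add, map_smul, hy g hg]
          congr 1
          have h2 : g = cj τ (cj τ g) := by
            rw [← cj_mul]
            have h2 : τ * τ = 1 := swap_mul_self _ _
            rw [h2, cj_one]
          rw [h2, ← hcomm, hy]
          show (τ * g * τ⁻¹ : Perm (Fin 8)) 7 = 7
          have h3 : τ⁻¹ = τ := swap_inv _ _
          rw [h3, Perm.mul_apply, Perm.mul_apply, hτ7, hg, hτ7]
        · rw [map_add, map_smul, ← Vm, het, ← hc, smul_add, smul_smul, add_comm]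
    obtain ⟨v, hv7, hv⟩ := family1 (ρ := MonoidHom.comp (V F) ψ) hy'
    have hv' : ∀ (g : A8) (i : Fin 8), V F (ψ g) (v i) = v ((g : Perm (Fin 8)) i) := hv
    have hvt : ∀ i, V F t (v i) = c' • v (τ i) := by
      intro i
      obtain ⟨g, hg⟩ := trL (l := [7]) (l' := [i]) (by simp) (by simp) rfl (by simp)
      have hg' : (g : Perm (Fin 8)) 7 = i := by simpa using hg
      have h1 : v i = V F (ψ g) y' := by rw [← hv7, hv', hg']
      rw [h1, hcomm, hty, map_smul, ← hv7, hv']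
      congr 2
      show (τ * g * τ⁻¹ : Perm (Fin 8)) 7 = τ i
      have h3 : τ⁻¹ = τ := swap_inv _ _
      rw [h3, Perm.mul_apply, Perm.mul_apply, hτ7, hg']
    refine ⟨v, by rw [hv7]; exact hy'0, hv, red v fun g hg i => ?_⟩
    obtain ⟨σ, hσ⟩ := conj_perm hM hL hg
    rcases Int.units_eq_one_or (Perm.sign σ) with h | h
    · obtain ⟨a, -, ha⟩ := even_case g σ hσ h
      obtain ⟨e', -, he'⟩ := V_pm ha
      refine ⟨(a : Perm (Fin 8)) i, e', ?_⟩
      have h1 : g = ψ a * ((ψ a)⁻¹ * g) := by group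
      rw [h1, Vm, he', map_smul, hv']
    · obtain ⟨a, -, ha⟩ := even_case (g * t⁻¹) (σ * τ) (fun a => by
        have h1 : g * t⁻¹ * ψ a * (g * t⁻¹)⁻¹ = g * (t⁻¹ * ψ a * t) * g⁻¹ := by group
        have h2 : t⁻¹ * ψ a * t = ψ (cj τ a) := by
          have h3 : ψ a = t * ψ (cj τ a) * t⁻¹ := by
            rw [htc, ← cj_mul]
            have h2 : τ * τ = 1 := swap_mul_self _ _
            rw [h2, cj_one]
          rw [h3]; group
        rw [h1, h2, hσ, ← cj_mul]) (by rw [Perm.sign_mul, h, hτs]; rfl)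
      obtain ⟨e', -, he'⟩ := V_pm ha
      refine ⟨(a : Perm (Fin 8)) (τ i), c' * e', ?_⟩
      have h1 : g = ψ a * (((ψ a)⁻¹ * (g * t⁻¹)) * t) := by group
      rw [h1, Vm, Vm, he', hvt, map_smul, map_smul, hv', smul_smul, mul_comm]

end Cfsg.Agent.R2.PX.A
end

-- part: R2/PX/A/Main
section
/-!
# Pattern X of S5771: the contradiction (helper7)

* `partA` : the configuration;
* `no_patX` : the pattern `X` does not occur.
-/

set_option autoImplicit false

namespace Cfsg.Agent.R2.PX.A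

open Cfsg Cfsg.Lie Module Equiv
open Cfsg.Agent.R2.T1
open Cfsg.Agent.H952.F4 (ev es MaxAlt)
open Cfsg.Agent.H943.E7V.Block (D1 rho)

universe u
variable {F : Type u} [Field F] [Finite F] [CharP F 5] {H : Subgroup ↥(chevE7.group F)}
  {φ : ↥(alternatingGroup (Fin 8)) →* ↥(chevE7.group F)} {ψ : ↥(alternatingGroup (Fin 8)) →* Gh F}

/-- **the configuration** -/
theorem partA (hM : MaxAlt H 8 φ) (hL : Lift φ ψ) (hP : PatX F ψ) :
    ∃ v : Fin 8 → D1 → F, Config F ψ v ∧ Stab (V F) H (Submodule.span F (Set.range v)) := by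
  obtain ⟨y, hy0, hy⟩ := hP.seven
  obtain ⟨v, hv7, hv, hS⟩ := exists_stab hM hL hy0 hy
  have hv0 : v 0 ≠ 0 := by
    obtain ⟨g, hg⟩ := trL (l := [0]) (l' := [7]) (by simp) (by simp) rfl (by simp)
    have hg' : (g : Perm (Fin 8)) 0 = 7 := by simpa using hg
    intro h
    apply hv7
    rw [← hg', ← hv, h, map_zero]
  exact ⟨v, a3a4 hM hL hP v hv hv0 hS, hS⟩

/-- **the pattern `X` does not occur** -/
theorem no_patX (hM : MaxAlt H 8 φ) (hL : Lift φ ψ) : ¬ PatX F ψ := by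
  intro hP
  obtain ⟨v, hv, hS⟩ := partA hM hL hP
  exact C.no_cfg hM.coatom hv.cfg hS

end Cfsg.Agent.R2.PX.A
end

-- part: R2/T1/E5/Pat
section
/-!
# S5771, n = 8, p = 5 (helper24)

* `eight5` : `A_8` in characteristic 5.
-/

set_option autoImplicit false
set_option maxRecDepth 100000

namespace Cfsg.Agent.R2.T1.E5

open Cfsg Cfsg.Lie Module Equiv Equiv.Perm
open Cfsg.Agent.H943.E7V.Block (D1 rho)
open Cfsg.Agent.H952.F4 (ev es MaxAlt)
open Cfsg.Agent.R2.T1 Cfsg.Agent.R2.T1.Odd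

universe u

/-- conjugacy in `A_8` -/
theorem conj8 {a b : A8} (h : (a : Perm (Fin 8)).cycleType = (b : Perm (Fin 8)).cycleType)
    (ht : ∃ t : Perm (Fin 8), sign t = -1 ∧ t * (b : Perm (Fin 8)) * t⁻¹ = b) : ∃ g : A8, g * b * g⁻¹ = a := by
  have hc : IsConj (b : Perm (Fin 8)) (a : Perm (Fin 8)) := Perm.isConj_iff_cycleType_eq.2 h.symm
  obtain ⟨c, hc⟩ := isConj_iff.1 hc
  rcases Int.units_eq_one_or (sign c) with h1 | h1
  · exact ⟨⟨c, mem_alternatingGroup.2 h1⟩, Subtype.ext hc⟩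
  · obtain ⟨t, ht1, ht2⟩ := ht
    refine ⟨⟨c * t, mem_alternatingGroup.2 (by rw [Perm.sign_mul, h1, ht1]; decide)⟩, Subtype.ext ?_⟩
    show c * t * (b : Perm (Fin 8)) * (c * t)⁻¹ = a
    rw [← hc]
    nth_rewrite 2 [← ht2]
    group

section
variable {F : Type u} [Field F] {ψ : A8 →* Gh F}

theorem ev_type {M : Type*} [AddCommGroup M] [Module F M] (ρ : Representation F (Gh F) M) {a b : A8}
    (h : (a : Perm (Fin 8)).cycleType = (b : Perm (Fin 8)).cycleType)
    (ht : ∃ t : Perm (Fin 8), sign t = -1 ∧ t * (b : Perm (Fin 8)) * t⁻¹ = b) : ev (ρ (ψ a)) 1 = ev (ρ (ψ b)) 1 := by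
  obtain ⟨g, rfl⟩ := conj8 h ht
  rw [map_mul ψ, map_mul ψ, map_inv ψ, Cfsg.Agent.H944.E6T.ev_conj]

/-- the elements -/
def b2 : A8 := ⟨swap (0 : Fin 8) 1 * swap (2 : Fin 8) 3, by rw [mem_alternatingGroup]; decide +kernel⟩
def b24 : A8 := ⟨swap (0 : Fin 8) 1 * swap (2 : Fin 8) 3 * (swap (4 : Fin 8) 5 * swap (6 : Fin 8) 7), by rw [mem_alternatingGroup]; decide +kernel⟩
def b3 : A8 := ⟨swap (0 : Fin 8) 1 * swap (1 : Fin 8) 2, by rw [mem_alternatingGroup]; decide +kernel⟩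
def b3' : A8 := ⟨swap (4 : Fin 8) 5 * swap (5 : Fin 8) 6, by rw [mem_alternatingGroup]; decide +kernel⟩
def b42 : A8 := ⟨swap (0 : Fin 8) 1 * swap (1 : Fin 8) 2 * (swap (2 : Fin 8) 3 * swap (4 : Fin 8) 5), by rw [mem_alternatingGroup]; decide +kernel⟩

theorem P_lt : P 8 lt = b2 := by
  apply Subtype.ext; rw [coe_P (m := 8) le_rfl (by decide)]; decide +kernel
theorem P_ls : P 8 ls = b24 := by
  apply Subtype.ext; rw [coe_P (m := 8) le_rfl (by decide)]; decide +kernel
theorem P_l3 : P 8 l3 = b3 := by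
  apply Subtype.ext; rw [coe_P (m := 8) le_rfl (by decide)]; decide +kernel
theorem P_l33 : P 8 l33 = b3 * b3' := by
  apply Subtype.ext; rw [coe_P (m := 8) le_rfl (by decide)]; decide +kernel
theorem P_l42 : P 8 l42 = b42 := by
  apply Subtype.ext; rw [coe_P (m := 8) le_rfl (by decide)]; decide +kernel

theorem t2 : (b2 : Perm (Fin 8)).cycleType = {2, 2} := by decide +kernel
theorem t24 : (b24 : Perm (Fin 8)).cycleType = {2, 2, 2, 2} := by decide +kernel
theorem t3 : (b3 : Perm (Fin 8)).cycleType = {3} := by decide +kernel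
theorem t33 : ((b3 * b3' : A8) : Perm (Fin 8)).cycleType = {3, 3} := by decide +kernel
theorem t42 : (b42 : Perm (Fin 8)).cycleType = {4, 2} := by decide +kernel

theorem s2 : ∃ t : Perm (Fin 8), sign t = -1 ∧ t * (b2 : Perm (Fin 8)) * t⁻¹ = b2 := ⟨swap (0 : Fin 8) 1, by decide +kernel⟩
theorem s24 : ∃ t : Perm (Fin 8), sign t = -1 ∧ t * (b24 : Perm (Fin 8)) * t⁻¹ = b24 := ⟨swap (0 : Fin 8) 1, by decide +kernel⟩
theorem s3 : ∃ t : Perm (Fin 8), sign t = -1 ∧ t * (b3 : Perm (Fin 8)) * t⁻¹ = b3 := ⟨swap (6 : Fin 8) 7, by decide +kernel⟩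
theorem s33 : ∃ t : Perm (Fin 8), sign t = -1 ∧ t * ((b3 * b3' : A8) : Perm (Fin 8)) * t⁻¹ = (b3 * b3' : A8) :=
  ⟨swap (3 : Fin 8) 7, by decide +kernel⟩
theorem s42 : ∃ t : Perm (Fin 8), sign t = -1 ∧ t * (b42 : Perm (Fin 8)) * t⁻¹ = b42 := ⟨swap (6 : Fin 8) 7, by decide +kernel⟩

variable {M : Type*} [AddCommGroup M] [Module F M] (ρ : Representation F (Gh F) M)

theorem e2 {a : A8} (h : (a : Perm (Fin 8)).cycleType = {2, 2}) : ev (ρ (ψ a)) 1 = ev (ρ (ψ b2)) 1 := ev_type ρ (h.trans t2.symm) s2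
theorem e24 {a : A8} (h : (a : Perm (Fin 8)).cycleType = {2, 2, 2, 2}) : ev (ρ (ψ a)) 1 = ev (ρ (ψ b24)) 1 := ev_type ρ (h.trans t24.symm) s24
theorem e3 {a : A8} (h : (a : Perm (Fin 8)).cycleType = {3}) : ev (ρ (ψ a)) 1 = ev (ρ (ψ b3)) 1 := ev_type ρ (h.trans t3.symm) s3
theorem e33 {a : A8} (h : (a : Perm (Fin 8)).cycleType = {3, 3}) : ev (ρ (ψ a)) 1 = ev (ρ (ψ (b3 * b3'))) 1 := ev_type ρ (h.trans t33.symm) s33
theorem e42 {a : A8} (h : (a : Perm (Fin 8)).cycleType = {4, 2}) : ev (ρ (ψ a)) 1 = ev (ρ (ψ b42)) 1 := ev_type ρ (h.trans t42.symm) s42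

end

variable {F : Type u} [Field F] [Finite F] {ψ : A8 →* Gh F}

theorem L_cases (h3 : (3 : F) ≠ 0) {x : Gh F} (hx : x ^ 3 = 1) (hV : ev (V F x) 1 = 20) :
    ev (L F x) 1 = 43 ∨ ev (L F x) 1 = 49 := by
  have hx1 : x ≠ 1 := by
    rintro rfl
    rw [Cfsg.Agent.R2.T1.Art.ev_one, finrank_V] at hV
    omega
  rcases three h3 hx hx1 with h | h | h | h | h <;> omega

theorem l_vals (h2 : (2 : F) ≠ 0) (h3 : (3 : F) ≠ 0) (v3 : ev (V F (ψ b3)) 1 = 20) (v33 : ev (V F (ψ (b3 * b3'))) 1 = 20) :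
    ev (L F (ψ b3)) 1 = 43 ∧ ev (L F (ψ (b3 * b3'))) 1 = 43 := by
  have o3 : b3 ^ 3 = 1 := by decide +kernel
  have o3' : b3' ^ 3 = 1 := by decide +kernel
  have o33 : (b3 * b3') ^ 3 = 1 := by decide +kernel
  have o33' : (b3 * b3' * b3') ^ 3 = 1 := by decide +kernel
  have p3 : ∀ {a : A8}, a ^ 3 = 1 → ψ a ^ 3 = 1 := fun h => by rw [← map_pow, h, map_one]
  have c1 : b3 * b3' = b3' * b3 := by decide +kernel
  have c2 : (b3 * b3') * (b3 * b3' * b3') = (b3 * b3' * b3') * (b3 * b3') := by decide +kernel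
  have q3' : (b3' : Perm (Fin 8)).cycleType = {3} := by decide +kernel
  have q33' : ((b3 * b3' * b3' : A8) : Perm (Fin 8)).cycleType = {3, 3} := by decide +kernel
  have q3a : (((b3 * b3') * (b3 * b3' * b3') : A8) : Perm (Fin 8)).cycleType = {3} := by decide +kernel
  have q3b : (((b3 * b3') * (b3 * b3' * b3') * (b3 * b3' * b3') : A8) : Perm (Fin 8)).cycleType = {3} := by decide +kernel
  constructor
  · rcases L_cases h3 (p3 o3) v3 with h | h
    · exact h
    · exfalso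
      refine no49 h2 h3 (x := ψ b3) (z := ψ b3') (p3 o3) (p3 o3') (by rw [← map_mul, c1, map_mul]) v3 ?_ ?_ ?_ h ?_ ?_
      · rw [e3 (V F) q3', v3]
      · rw [← map_mul, v33]
      · rw [← map_mul, ← map_mul, e33 (V F) q33', v33]
      · rw [e3 (L F) q3', h]
      · rw [← map_mul, ← map_mul, e33 (L F) q33']
  · rcases L_cases h3 (p3 o33) v33 with h | h
    · exact h
    · exfalso
      refine no49 h2 h3 (x := ψ (b3 * b3')) (z := ψ (b3 * b3' * b3')) (p3 o33) (p3 o33') (by rw [← map_mul, c2, map_mul])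
        v33 ?_ ?_ ?_ h ?_ ?_
      · rw [e33 (V F) q33', v33]
      · rw [← map_mul, e3 (V F) q3a, v3]
      · rw [← map_mul, ← map_mul, e3 (V F) q3b, v3]
      · rw [e33 (L F) q33', h]
      · rw [← map_mul, ← map_mul, e3 (L F) q3a, e3 (L F) q3b]

/-- **`n = 8`, characteristic 5** -/
theorem eight5 {H : Subgroup ↥(chevE7.group F)} {φ : A8 →* ↥(chevE7.group F)} (hM : MaxAlt H 8 φ) (hL : Lift φ ψ)
    (h5 : (5 : F) = 0) (h20 : ev (V F (ψ (P 8 l3))) 1 = 20) : False := by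
  have h2 : (2 : F) ≠ 0 := by
    intro h
    have : (1 : F) = 0 := by linear_combination h5 - 2 * h
    exact one_ne_zero this
  have h3 : (3 : F) ≠ 0 := by
    intro h
    have : (1 : F) = 0 := by linear_combination 2 * h - h5
    exact one_ne_zero this
  have hchar : CharP F 5 := by
    obtain ⟨p, hp⟩ := CharP.exists F
    have h6 : p ∣ 5 := (CharP.cast_eq_zero_iff F p 5).1 (by exact_mod_cast h5)
    have h7 : p = 5 := by
      rcases (Nat.dvd_prime (by norm_num : Nat.Prime 5)).1 h6 with h | h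
      · exact absurd h (CharP.char_ne_one F p)
      · exact h
    rw [← h7]; exact hp
  have hψ := Nodd.lift_inj hM hL
  have v33 := Odd.d33 (n := 8) h2 h3 hψ le_rfl
  obtain ⟨tt, ts, t4, -, -, -, -⟩ := types (n := 8) le_rfl h2 hψ
  rw [P_lt] at tt
  rw [P_ls] at ts
  rw [P_l42] at t4
  rw [P_l33] at v33
  rw [P_l3] at h20
  obtain ⟨k1, k2⟩ := l_vals h2 h3 h20 v33
  have ne1 : ∀ {a : A8}, a ≠ 1 → ad F (ψ a) ≠ 1 := fun h h' => h (hψ _ h')
  have q2 : ψ b2 * ψ b2 = 1 := by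
    rw [← map_mul, show b2 * b2 = 1 by decide +kernel, map_one]
  have q24 : ψ b24 * ψ b24 = 1 := by
    rw [← map_mul, show b24 * b24 = 1 by decide +kernel, map_one]
  have m2 := (two h2 q2 (ne1 (by decide +kernel))).2
  have m24 := (two h2 q24 (ne1 (by decide +kernel))).2
  apply Cfsg.Agent.R2.PX.A.no_patX hM hL
  exact
    { v2 := fun a ha => (e2 (V F) ha).trans tt
      v24 := fun a ha => (e24 (V F) ha).trans ts
      v3 := fun a ha => (e3 (V F) ha).trans h20
      v33 := fun a ha => (e33 (V F) ha).trans v33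
      v42 := fun a ha => (e42 (V F) ha).trans t4
      l2 := fun a ha => (e2 (L F) ha).trans m2
      l24 := fun a ha => (e24 (L F) ha).trans m24
      l3 := fun a ha => (e3 (L F) ha).trans k1
      l33 := fun a ha => (e33 (L F) ha).trans k2 }

end Cfsg.Agent.R2.T1.E5
end
end

-- part: R2/T1/B2/B20
section
prune_inst 0x10000000000000
set_option linter.all false
open scoped Cfsg.Agent.FastGrp

-- part: R2/T1/Pat2/Main8
section
/-!
# T1, PAT2 (helper26): `n = 8`, `p = 2`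

* `pat8` : the patterns; `no8` : **the contradiction**.
-/

set_option autoImplicit false
set_option maxRecDepth 100000

namespace Cfsg.Agent.R2.T1.Pat2

open Equiv Equiv.Perm
open Cfsg Cfsg.Lie Module
open Cfsg.Agent.H943.E7V.Block (D1 rho)
open Cfsg.Agent.H952.F4 (ev es MaxAlt GenT)
open Cfsg.Agent.R2.T1

universe u

theorem gen8b : GenT 8 {3, 3} {7} {7} :=
  Cfsg.Agent.H952.F4.Gen.genT_of (n := 6) (c[2, 6, 5] * c[3, 7, 4]) (c[0, 1, 6, 5, 3, 4, 2]) (by decide +kernel)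
    (by decide +kernel)
    ![[], [], [1, 2, 1, 2], [2, 1, 3, 0, 3, 0, 2, 1], [1, 2, 1, 3, 0, 3, 0, 2], [0, 2, 1, 2, 0], [2, 1, 2, 1],
      [0, 2, 1, 3, 0, 3, 0, 2, 0]]
    (by decide +kernel) (by decide +kernel) (by decide +kernel) (by decide +kernel)

variable {F : Type u} [Field F] [Finite F] (h2 : (2 : F) = 0) {H : Subgroup ↥(chevE7.group F)}
  {φ : ↥(alternatingGroup (Fin 8)) →* ↥(chevE7.group F)} (hM : MaxAlt H 8 φ)
  {ψ : ↥(alternatingGroup (Fin 8)) →* Gh F} (hψ : Lift φ ψ)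

include hM hψ

omit [Finite F] in
theorem lift_inj : Function.Injective ψ := by
  intro a b hab
  apply hM.inj
  rw [← hψ a, ← hψ b, hab]

theorem not20 {d : ℕ} (h33 : DV ψ {3, 3} d) (hd : 20 ≤ d) (h7 : DV ψ {7} 20) : False := by
  obtain ⟨a, b, hgen, ha, hb, hab⟩ := gen8b
  have hs := Cfsg.Agent.H952.F4.Scott.scott_form
    (MonoidHom.comp (V F) ψ : Representation F ↥(alternatingGroup (Fin 8)) (D1 → F)) hgen (sf F)
    (fun v hv => sf_nondeg' hv) (fun g v w => sf_V (ψ g) v w)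
  have e1 : ev ((MonoidHom.comp (V F) ψ : Representation F ↥(alternatingGroup (Fin 8)) (D1 → F)) a) 1 = d := h33 _ ha
  have e2 : ev ((MonoidHom.comp (V F) ψ : Representation F ↥(alternatingGroup (Fin 8)) (D1 → F)) b) 1 = 20 := h7 _ hb
  have e3 : ev ((MonoidHom.comp (V F) ψ : Representation F ↥(alternatingGroup (Fin 8)) (D1 → F)) (a * b)) 1 = 20 :=
    h7 _ hab
  have hd56 : finrank F (D1 → F) = 56 := finrank_V
  rw [e1, e2, e3, hd56, no_fixed hM (by norm_num) (by norm_num) hψ, finrank_bot] at hs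
  omega

include h2

/-- **the patterns for `n = 8`, `p = 2`** -/
theorem pat8 : (DV ψ {3} 32 ∧ DV ψ {3, 3} 20 ∧ DV ψ {5} 16) ∧ (DV ψ {7} 2 ∨ DV ψ {7} 8) ∧
    (DV ψ {5, 3} 0 ∨ DV ψ {5, 3} 8) := by
  rcases pat2 le_rfl h2 (lift_inj hM hψ) with ⟨h5, ⟨h3, h33, h7, h53⟩ | ⟨h3, h33, h7, h53⟩⟩
  · refine ⟨⟨h3.1, h33.1, h5.1⟩, ?_, h53⟩
    rcases h7 with h7 | h7 | h7
    · exact Or.inl h7
    · exact Or.inr h7
    · exact (not20 hM hψ h33.1 le_rfl h7).elim
  · exact (not20 hM hψ h33.1 (by norm_num) h7).elim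

/-- **`n = 8`, `p = 2`** -/
theorem no8 : False := by
  obtain ⟨⟨h3, h33, h5⟩, h7, h53⟩ := pat8 h2 hM hψ
  rcases h53 with h53 | h53
  · exact T1p.false_of h2 hM hψ h3 h33 h5 h53
  · rcases h7 with h7 | h7
    · exact T1x.false_of h2 ψ h3 h33 h7 h53
    · exact T3.false h2 hM hψ h3 h33 h5 h7 h53

end Cfsg.Agent.R2.T1.Pat2
end

-- part: R2/T1/B2/B20
section
/-!
# T1, `p = 2`, `n ≥ 8` (helper26): the pattern `(3, 3², 7) = (32, 20, 20)`

`no20` : it gives a non-zero fixed vector of `A_n`: `V^{7:3} = V^{Alt{0..6,j}}` for every `j ≥ 7`.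
-/

set_option autoImplicit false
set_option maxRecDepth 100000

namespace Cfsg.Agent.R2.T1.B2

open Equiv Equiv.Perm
open Cfsg Cfsg.Lie Module
open Cfsg.Agent.H943.E7V.Block (D1 rho)
open Cfsg.Agent.H952.F4 (ev es MaxAlt GenT)
open Cfsg.Agent.R2.T1 Cfsg.Agent.R2.T1.Art Cfsg.Agent.R2.T1.Odd Cfsg.Agent.R2.T1.Pat2

universe u

theorem gen8c : GenT 8 {3} {7} {7} :=
  Cfsg.Agent.H952.F4.Gen.genT_of (n := 6) (c[0, 7, 1]) (c[1, 7, 5, 4, 2, 3, 6]) (by decide +kernel) (by decide +kernel)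
    ![[], [], [3, 1, 3, 1, 3, 1, 2, 2, 2], [3, 1, 3, 1, 2, 2], [0, 2, 0, 2, 0, 3, 3], [0, 2, 0, 3], [3, 1, 2], [0]]
    (by decide +kernel) (by decide +kernel) (by decide +kernel) (by decide +kernel)

/-- a subgroup containing the elements `(0 1)(0 k)` -/
theorem eq_top_of_star {n : ℕ} (S : Subgroup ↥(alternatingGroup (Fin (n + 2))))
    (h : ∀ k : Fin (n + 2), k ≠ 0 → ∃ g ∈ S, (g : Perm (Fin (n + 2))) = swap 0 1 * swap 0 k) : S = ⊤ := by
  rw [eq_top_iff]
  intro σ _
  have h1 : (σ : Perm (Fin (n + 2))) ∈ S.map (alternatingGroup (Fin (n + 2))).subtype := by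
    refine Cfsg.Agent.H952.F4.Gen.mem_of_star _ ?_ ?_ σ.2
    · rintro _ ⟨g, -, rfl⟩
      exact g.2
    · intro k hk
      obtain ⟨g, hg, h2⟩ := h k hk
      exact ⟨g, hg, h2⟩
  obtain ⟨τ, hτ, h3⟩ := h1
  rwa [← Subtype.ext h3]

section emb
variable {n : ℕ} (hn : 8 ≤ n)

/-- `A_8` in `A_n` -/
noncomputable def e8 : ↥(alternatingGroup (Fin 8)) →* ↥(alternatingGroup (Fin n)) :=
  ((Perm.extendDomainHom (Fin.castLEOrderIso hn).toEquiv).comp (alternatingGroup (Fin 8)).subtype).codRestrict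
    (alternatingGroup (Fin n)) fun g => by
      rw [Perm.mem_alternatingGroup]
      exact (Perm.sign_extendDomain _ _).trans (Perm.mem_alternatingGroup.1 g.2)

theorem ct_e8 (g : ↥(alternatingGroup (Fin 8))) : ((e8 hn g : ↥(alternatingGroup (Fin n))) : Perm (Fin n)).cycleType =
    (g : Perm (Fin 8)).cycleType :=
  Perm.cycleType_extendDomain _

theorem e8_P [NeZero n] {l : List (ℕ × ℕ)} (h : vl 8 l = true) : e8 hn (P 8 l) = P n l := by
  apply Subtype.ext
  rw [coe_P hn h, pm_extend hn (vl_iff.1 h).2]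
  show (P 8 l : Perm (Fin 8)).extendDomain _ = _
  rw [coe_P le_rfl h]

end emb

/-- the multiplication by 3 -/
def m3 : List (ℕ × ℕ) := [(1, 3), (3, 2), (2, 6), (6, 4), (4, 5)]
/-- the multiplication by 2 -/
def m2 : List (ℕ × ℕ) := [(1, 2), (2, 4), (3, 6), (6, 5)]

theorem star_gen {α : Type*} [DecidableEq α] (m : Perm α) {z o f s k : α} (h0 : m z = z) (h5 : m f = o) (h7 : m s = s)
    (hz : z ≠ s) (hz' : z ≠ k) (ho : o ≠ s) (ho' : o ≠ k) :
    (swap s k * m) * (swap z f * swap z s) = swap z o * swap z k * (swap s k * m) := by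
  have a1 : m * swap z f = swap z o * m := by rw [Equiv.mul_swap_eq_swap_mul, h0, h5]
  have a2 : m * swap z s = swap z s * m := by rw [Equiv.mul_swap_eq_swap_mul, h0, h7]
  have a3 : swap s k * swap z o = swap z o * swap s k := by
    rw [Equiv.mul_swap_eq_swap_mul, swap_apply_of_ne_of_ne hz hz', swap_apply_of_ne_of_ne ho ho']
  have a4 : swap s k * swap z s = swap z k * swap s k := by
    rw [Equiv.mul_swap_eq_swap_mul, swap_apply_of_ne_of_ne hz hz', swap_apply_left]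
  calc (swap s k * m) * (swap z f * swap z s) = swap s k * (m * swap z f) * swap z s := by simp only [mul_assoc]
    _ = swap s k * swap z o * (m * swap z s) := by rw [a1]; simp only [mul_assoc]
    _ = swap z o * (swap s k * swap z s) * m := by rw [a2, a3]; simp only [mul_assoc]
    _ = _ := by rw [a4]; simp only [mul_assoc]

section c
variable {n : ℕ} [NeZero n] (hn : 8 ≤ n)

include hn in
theorem m3_apply {i j : ℕ} (hi : i < 8) (h : ap m3 i = j) (hj : j < 8) : pm n m3 (Fin.ofNat n i) = Fin.ofNat n j := by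
  apply Fin.ext
  have hE : En n m3 := En.mono hn (m := 8) (by unfold En; decide)
  rw [pm_apply hE, val_ofNat' (by omega), val_ofNat' (by omega), h]

/-- `(7 k)` commutes with the permutations of `{0, …, 6}` -/
theorem swap_pm (hn : 8 ≤ n) {l : List (ℕ × ℕ)} (hl : En 7 l) {k : Fin n} (hk : 7 ≤ (k : ℕ)) :
    swap (Fin.ofNat n 7) k * pm n l = pm n l * swap (Fin.ofNat n 7) k := by
  have h1 : pm n l (Fin.ofNat n 7) = Fin.ofNat n 7 := by
    apply Fin.ext
    rw [pm_apply (hl.mono (by omega)), val_ofNat' (by omega), ap_ge hl le_rfl]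
  have h2 : pm n l k = k := by
    apply Fin.ext
    rw [pm_apply (hl.mono (by omega)), ap_ge hl hk]
  rw [Equiv.mul_swap_eq_swap_mul, h1, h2]

include hn in
theorem sign_c {k : Fin n} (hk : 8 ≤ (k : ℕ)) : sign (swap (Fin.ofNat n 7) k * pm n m3) = 1 := by
  have hE : En n m3 := En.mono hn (m := 8) (by unfold En; decide)
  have h7 : Fin.ofNat n 7 ≠ k := by
    intro h
    have h1 := congrArg Fin.val h
    rw [val_ofNat' (by omega)] at h1
    omega
  rw [Perm.sign_mul, sign_swap h7, sign_pm hE]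
  rfl

/-- the element `(7 k) m3` -/
noncomputable def cc {k : Fin n} (hk : 8 ≤ (k : ℕ)) : ↥(alternatingGroup (Fin n)) :=
  ⟨swap (Fin.ofNat n 7) k * pm n m3, mem_alternatingGroup.2 (sign_c hn hk)⟩

/-- it normalizes `7 : 3` -/
theorem cc_mul {k : Fin n} (hk : 8 ≤ (k : ℕ)) {l l' : List (ℕ × ℕ)} (hl : vl 8 l = true) (hl' : vl 8 l' = true)
    (h7 : En 7 l') (h : cd 8 (m3 ++ l) = cd 8 (l' ++ m3)) : cc hn hk * P n l = P n l' * cc hn hk := by
  apply Subtype.ext
  show swap (Fin.ofNat n 7) k * pm n m3 * (P n l : Perm (Fin n)) = (P n l' : Perm (Fin n)) *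
    (swap (Fin.ofNat n 7) k * pm n m3)
  have hE : En 8 m3 := by unfold En; decide
  have e1 : pm n m3 * pm n l = pm n l' * pm n m3 := by
    rw [← pm_append, ← pm_append]
    exact pm_eq hn (hE.append (vl_iff.1 hl).2) ((vl_iff.1 hl').2.append hE) h
  rw [coe_P hn hl, coe_P hn hl', mul_assoc, e1, ← mul_assoc, swap_pm hn h7 (by omega), mul_assoc]

/-- it maps `(0 5)(0 7)` to `(0 1)(0 k)` -/
theorem cc_star {k : Fin n} (hk : 8 ≤ (k : ℕ)) :
    ((cc hn hk * P n [(0, 5), (0, 7)] * (cc hn hk)⁻¹ : ↥(alternatingGroup (Fin n))) : Perm (Fin n)) =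
      swap (Fin.ofNat n 0) (Fin.ofNat n 1) * swap (Fin.ofNat n 0) k := by
  have h0 : pm n m3 (Fin.ofNat n 0) = Fin.ofNat n 0 := m3_apply hn (by norm_num) (by decide) (by norm_num)
  have h5 : pm n m3 (Fin.ofNat n 5) = Fin.ofNat n 1 := m3_apply hn (by norm_num) (by decide) (by norm_num)
  have h7 : pm n m3 (Fin.ofNat n 7) = Fin.ofNat n 7 := m3_apply hn (by norm_num) (by decide) (by norm_num)
  have hne : ∀ i < 7, Fin.ofNat n i ≠ Fin.ofNat n 7 ∧ Fin.ofNat n i ≠ k := by
    intro i hi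
    constructor
    · intro h
      have := ofNat_inj (n := n) (by omega) (by omega) h
      omega
    · intro h
      have h1 := congrArg Fin.val h
      rw [val_ofNat' (by omega)] at h1
      omega
  show swap (Fin.ofNat n 7) k * pm n m3 * (P n [(0, 5), (0, 7)] : Perm (Fin n)) *
    (swap (Fin.ofNat n 7) k * pm n m3)⁻¹ = _
  rw [coe_P hn (by decide), mul_inv_eq_iff_eq_mul]
  have e1 : pm n [(0, 5), (0, 7)] = swap (Fin.ofNat n 0) (Fin.ofNat n 5) * swap (Fin.ofNat n 0) (Fin.ofNat n 7) := by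
    rw [pm_cons, pm_cons, pm_nil, mul_one]
  rw [e1]
  exact star_gen _ h0 h5 h7 (hne 0 (by norm_num)).1 (hne 0 (by norm_num)).2 (hne 1 (by norm_num)).1
    (hne 1 (by norm_num)).2

end c

section main
variable {n : ℕ} {F : Type u} [Field F] [Finite F]

/-- **the pattern `(32, 20, 20)`** -/
theorem no20 (hn : 8 ≤ n) (h2 : (2 : F) = 0) {ψ : ↥(alternatingGroup (Fin n)) →* Gh F} (h3 : DV ψ {3} 32)
    (h33 : DV ψ {3, 3} 20) (h7 : DV ψ {7} 20) (hfix : Representation.invariants (MonoidHom.comp (V F) ψ) = ⊥) :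
    False := by
  obtain ⟨m, rfl⟩ : ∃ m, n = m + 2 := ⟨n - 2, by omega⟩
  set ρ : Representation F ↥(alternatingGroup (Fin (m + 2))) (D1 → F) := MonoidHom.comp (V F) ψ with hρ
  -- the fixed points of `7 : 3`
  have hd56 : finrank F (D1 → F) = 56 := finrank_V
  have hT : finrank F ↥(inv ρ (Tg (m + 2) g21)) = 8 := by
    have hd := dim_21 h2 hn ρ
    have o7 : orderOf (P (m + 2) w7) = 7 := orderOf_P hn (by decide +kernel)
    have o7i : orderOf (P (m + 2) w7i) = 7 := orderOf_P hn (by decide +kernel)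
    have o33 : orderOf (P (m + 2) l33) = 3 := orderOf_P hn (by decide +kernel)
    rw [om_one, om_prime _ (by norm_num : Nat.Prime 7) o7, om_prime _ (by norm_num : Nat.Prime 7) o7i,
      om_prime _ Nat.prime_three o33, hd56] at hd
    have e7 : ev (ρ (P (m + 2) w7)) 1 = 20 := h7 _ (by rw [ct_P hn (by decide)]; decide +kernel)
    have e7i : ev (ρ (P (m + 2) w7i)) 1 = 20 := h7 _ (by rw [ct_P hn (by decide)]; decide +kernel)
    have e33 : ev (ρ (P (m + 2) l33)) 1 = 20 := h33 _ (by rw [ct_P hn (by decide)]; decide +kernel)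
    rw [e7, e7i, e33] at hd
    have : (finrank F ↥(inv ρ (Tg (m + 2) g21)) : ℚ) = 8 := by
      push_cast at hd
      linarith
    exact_mod_cast this
  -- the fixed points of `A_8`
  set σ : Representation F ↥(alternatingGroup (Fin 8)) (D1 → F) := MonoidHom.comp ρ (e8 hn) with hσ
  have h8 : 8 ≤ finrank F ↥σ.invariants := by
    obtain ⟨a, b, hgen, ha, hb, hab⟩ := gen8c
    have hs := Cfsg.Agent.H952.F4.Scott.scott_form σ hgen (sf F) (fun v hv => sf_nondeg' hv)
      (fun g v w => sf_V (ψ (e8 hn g)) v w)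
    have e1 : ev (σ a) 1 = 32 := h3 _ (by rw [ct_e8, ha])
    have e2 : ev (σ b) 1 = 20 := h7 _ (by rw [ct_e8, hb])
    have e3 : ev (σ (a * b)) 1 = 20 := h7 _ (by rw [ct_e8, hab])
    rw [e1, e2, e3, hd56] at hs
    omega
  have hle : σ.invariants ≤ inv ρ (Tg (m + 2) g21) := by
    intro v hv
    unfold Tg
    rw [mem_inv_closure]
    rintro x ⟨g, hg, rfl⟩
    have hg8 : vl 8 g = true := List.all_eq_true.1 (chkG_spec chkG_21).1 g hg
    rw [← e8_P hn hg8]
    exact (Representation.mem_invariants (ρ := σ) v).1 hv _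
  have heq : σ.invariants = inv ρ (Tg (m + 2) g21) := Submodule.eq_of_le_of_finrank_le hle (by rw [hT]; exact h8)
  -- `W` is fixed by `A_8`
  have hW8 : ∀ w ∈ inv ρ (Tg (m + 2) g21), ∀ a : ↥(alternatingGroup (Fin 8)), ρ (e8 hn a) w = w := by
    intro w hw a
    rw [← heq] at hw
    exact (Representation.mem_invariants (ρ := σ) w).1 hw a
  -- `W` is stable under `(7 k) m3`
  have hmem : ∀ g ∈ g21, P (m + 2) g ∈ Tg (m + 2) g21 := fun g hg => Subgroup.subset_closure ⟨g, hg, rfl⟩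
  have hWc : ∀ (k : Fin (m + 2)) (hk : 8 ≤ (k : ℕ)), ∀ w ∈ inv ρ (Tg (m + 2) g21),
      ρ (cc hn hk)⁻¹ w ∈ inv ρ (Tg (m + 2) g21) := by
    intro k hk w hw
    have key : ∀ l l' : List (ℕ × ℕ), P (m + 2) l' ∈ Tg (m + 2) g21 → cc hn hk * P (m + 2) l = P (m + 2) l' * cc hn hk →
        ρ (P (m + 2) l) (ρ (cc hn hk)⁻¹ w) = ρ (cc hn hk)⁻¹ w := by
      intro l l' h1 h2
      have h3 : P (m + 2) l * (cc hn hk)⁻¹ = (cc hn hk)⁻¹ * P (m + 2) l' := by
        rw [eq_inv_mul_iff_mul_eq, ← mul_assoc, h2, mul_inv_cancel_right]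
      rw [← Module.End.mul_apply, ← map_mul, h3, map_mul, Module.End.mul_apply, hw _ h1]
    show ρ (cc hn hk)⁻¹ w ∈ inv ρ (Subgroup.closure _)
    rw [mem_inv_closure]
    rintro x ⟨g, hg, rfl⟩
    have hg' : g = w7 ∨ g = m2 := by
      simpa [g21, m2] using hg
    rcases hg' with rfl | rfl
    · refine key w7 (pwl w7 3) ?_ (cc_mul hn hk (by decide) (by decide) (by unfold En; decide) (by decide))
      rw [P_pwl hn (m := 8) (by decide)]
      exact pow_mem (hmem w7 (by decide)) 3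
    · exact key m2 m2 (hmem m2 (by decide)) (cc_mul hn hk (by decide) (by decide) (by unfold En; decide) (by decide))
  -- a non-zero vector
  obtain ⟨w, hw, hw0⟩ : ∃ w ∈ inv ρ (Tg (m + 2) g21), w ≠ 0 := by
    rw [← Submodule.ne_bot_iff]
    intro h
    rw [h, finrank_bot] at hT
    norm_num at hT
  let S : Subgroup ↥(alternatingGroup (Fin (m + 2))) :=
    { carrier := {g | ρ g w = w}
      one_mem' := by show ρ 1 w = w; rw [map_one]; rfl
      mul_mem' := by
        intro a b ha hb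
        show ρ (a * b) w = w
        rw [map_mul, Module.End.mul_apply, show ρ b w = w from hb, show ρ a w = w from ha]
      inv_mem' := by
        intro a ha
        show ρ a⁻¹ w = w
        have h1 : ρ a⁻¹ (ρ a w) = w := by rw [← Module.End.mul_apply, ← map_mul, inv_mul_cancel, map_one]; rfl
        rwa [show ρ a w = w from ha] at h1 }
  have hS : S = ⊤ := by
    refine eq_top_of_star S fun k hk => ?_
    by_cases hk8 : 8 ≤ (k : ℕ)
    · refine ⟨cc hn hk8 * P (m + 2) [(0, 5), (0, 7)] * (cc hn hk8)⁻¹, ?_, cc_star hn hk8⟩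
      show ρ (cc hn hk8 * P (m + 2) [(0, 5), (0, 7)] * (cc hn hk8)⁻¹) w = w
      rw [← e8_P hn (by decide), map_mul, map_mul, Module.End.mul_apply, Module.End.mul_apply,
        hW8 _ (hWc k hk8 w hw), ← Module.End.mul_apply, ← map_mul, mul_inv_cancel, map_one]
      rfl
    · -- `k < 8`
      have hk0 : (k : ℕ) ≠ 0 := fun h => hk (Fin.ext h)
      have hlt : (k : ℕ) < 8 := by omega
      by_cases hk1 : (k : ℕ) = 1
      · refine ⟨1, S.one_mem, ?_⟩
        have : k = 1 := Fin.ext hk1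
        rw [this, swap_mul_self]
        rfl
      have hv : vl 8 [(0, 1), (0, (k : ℕ))] = true := by
        rw [vl_iff]
        refine ⟨by simp, ?_⟩
        intro x hx
        simp only [List.mem_cons, List.not_mem_nil, or_false] at hx
        rcases hx with rfl | rfl
        · exact ⟨by norm_num, by norm_num, by norm_num⟩
        · exact ⟨by norm_num, hlt, Ne.symm hk0⟩
      refine ⟨P (m + 2) [(0, 1), (0, (k : ℕ))], ?_, ?_⟩
      · show ρ (P (m + 2) [(0, 1), (0, (k : ℕ))]) w = w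
        rw [← e8_P hn hv]
        exact hW8 w hw _
      · rw [coe_P hn hv, pm_cons, pm_cons, pm_nil, mul_one]
        have h1 : Fin.ofNat (m + 2) (k : ℕ) = k := Fin.ext (val_ofNat' k.2)
        show swap (Fin.ofNat (m + 2) 0) (Fin.ofNat (m + 2) 1) * swap (Fin.ofNat (m + 2) 0) (Fin.ofNat (m + 2) (k : ℕ)) = _
        rw [h1]
        rfl
  apply hw0
  rw [← Submodule.mem_bot F, ← hfix, Representation.mem_invariants]
  intro g
  have hg : g ∈ S := by rw [hS]; exact Subgroup.mem_top g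
  exact hg

end main

end Cfsg.Agent.R2.T1.B2
end

private theorem dce_2c364004521b : _root_.True := by
  try have : _root_.True := by simp only [_root_.Cfsg.Agent.R2.T1.Pat2.g21.eq_1]
  try have : _root_.True := by simp only [_root_.Cfsg.Agent.R2.T1.B2.m2.eq_1]
  exact _root_.True.intro
end

-- part: R2/T1/T2p/K9
section
set_option linter.all false
open scoped Cfsg.Agent.FastGrp

-- part: R2/T1/T2p/Tb
section
/-!
# T1 (S5771, p = 2): certificates (helper25)

* `DK` : `L₂(8)` modulo a subgroup of order 9; `cK` : `e₉ e₇ v = v`;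
* `Db` : `A₅` modulo `⟨(012)⟩`; `c1`, `c2`, `c2'`;
* `Dt` : `A₅` modulo `⟨(01)(34)⟩`; `c3`.
-/

set_option autoImplicit false
set_option maxRecDepth 100000

namespace Cfsg.Agent.R2.T1.Msk

open Cfsg.Agent.R2.T1.Odd

/-- `L₂(8)` -/
def DK : Dat where
  gens := [[(0, 1), (1, 2), (2, 3), (3, 4), (4, 5), (5, 6)], [(0, 1), (1, 2), (2, 4), (4, 3), (3, 8), (8, 7), (7, 6), (6,
    5)]]
  zt := [(0, 1), (1, 2), (2, 4), (4, 3), (3, 8), (8, 7), (7, 6), (6, 5)]
  reps := [[], [(0, 1), (1, 2), (2, 3), (3, 4), (4, 5), (5, 6)], [(0, 2), (2, 4), (4, 6), (6, 1), (1, 3), (3, 5)], [(0, 2),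
    (2, 8), (8, 7), (7, 6), (6, 1), (1, 4)], [(0, 3), (3, 6), (6, 2), (2, 5), (5, 1), (1, 4)], [(0, 3), (3, 4), (4,
    1), (1, 5), (5, 6), (6, 2), (2, 8), (8, 7)], [(0, 4), (4, 5), (5, 1), (1, 8), (8, 7), (7, 6), (6, 2), (2, 3)],
    [(0, 4), (4, 1), (1, 3), (3, 8), (8, 6), (6, 2), (2, 7), (7, 5)], [(0, 4), (4, 1), (1, 5), (5, 2), (2, 6), (6,
    3)], [(0, 4), (4, 2), (2, 8), (8, 7), (7, 1), (1, 6), (6, 3), (3, 5)], [(0, 5), (5, 2), (2, 4), (4, 6), (6, 3),
    (3, 1), (1, 8), (8, 7)], [(0, 5), (5, 1), (1, 4), (4, 2), (2, 7), (7, 6), (6, 3), (3, 8)], [(0, 8), (8, 7), (7,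
    6), (6, 4), (4, 1), (1, 3), (3, 5), (5, 2)], [(0, 8), (8, 6), (6, 4), (4, 2), (2, 7), (7, 1)], [(0, 3), (3, 1),
    (1, 7), (7, 5), (5, 2), (2, 8), (8, 6), (6, 4)], [(0, 3), (3, 7), (1, 8), (8, 5), (2, 6), (6, 4)], [(0, 5), (5,
    3), (3, 1), (1, 6), (6, 4), (4, 2)], [(0, 5), (5, 1), (2, 8), (8, 7), (3, 6), (6, 4)], [(0, 6), (6, 4), (1, 8),
    (8, 7), (2, 5), (5, 3)], [(0, 6), (6, 4), (4, 3), (3, 8), (8, 1), (1, 5), (5, 2), (2, 7)], [(0, 8), (8, 7), (1,
    4), (4, 2), (3, 6), (6, 5)], [(0, 8), (2, 7), (3, 4), (5, 6)], [(0, 4), (4, 1), (1, 7), (7, 6), (6, 5), (5, 3),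
    (3, 2), (2, 8)], [(0, 3), (3, 1), (2, 5), (5, 4), (6, 8), (8, 7)], [(0, 3), (1, 5), (2, 7), (6, 8)], [(1, 7), (2,
    3), (4, 5), (6, 8)], [(1, 3), (3, 7), (7, 5), (5, 2), (2, 6), (6, 8)], [(0, 7), (7, 2), (2, 6), (6, 3), (3, 8),
    (8, 5)], [(0, 8), (8, 5), (5, 4), (4, 1), (1, 6), (6, 3), (3, 2), (2, 7)], [(0, 8), (1, 7), (2, 5), (3, 6)], [(1,
    8), (8, 7), (7, 2), (2, 6), (6, 5), (5, 4)], [(1, 6), (6, 5), (5, 3), (3, 8), (8, 2), (2, 7)], [(0, 8), (8, 1),
    (1, 2), (2, 7), (7, 3), (3, 5)], [(0, 5), (5, 4), (4, 2), (2, 8), (8, 1), (1, 7)], [(0, 4), (4, 3), (3, 2), (2,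
    6), (6, 8), (8, 7)], [(0, 4), (4, 5), (5, 2), (2, 7), (7, 3), (3, 1), (1, 6), (6, 8)], [(0, 1), (1, 7), (7, 2),
    (2, 4), (4, 6), (6, 8)], [(0, 1), (1, 4), (4, 5), (5, 3), (3, 7), (7, 6), (6, 8), (8, 2)], [(0, 7), (7, 3), (3,
    8), (8, 6), (6, 4), (4, 5), (5, 1), (1, 2)], [(1, 5), (5, 8), (8, 7), (7, 6), (6, 3), (3, 2)], [(2, 7), (7, 4),
    (4, 8), (8, 6), (6, 3), (3, 5)], [(0, 5), (5, 8), (8, 6), (6, 3), (3, 4), (4, 1), (1, 7), (7, 2)], [(0, 1), (1,
    6), (6, 7), (7, 2), (2, 8), (8, 5), (5, 3), (3, 4)], [(0, 1), (1, 8), (8, 2), (2, 5), (5, 4), (4, 3), (3, 6), (6,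
    7)], [(0, 6), (6, 8), (1, 2), (2, 5), (3, 7), (7, 4)], [(0, 7), (7, 1), (1, 5), (5, 3), (3, 4), (4, 2), (2, 6),
    (6, 8)], [(0, 7), (7, 2), (1, 6), (6, 8), (3, 5), (5, 4)], [(0, 1), (1, 8), (8, 7), (7, 3), (3, 4), (4, 2)], [(0,
    1), (2, 7), (3, 8), (4, 5)], [(0, 6), (1, 7), (2, 8), (3, 4)], [(0, 2), (2, 1), (1, 5), (5, 4), (4, 6), (6, 8),
    (8, 3), (3, 7)], [(0, 1), (1, 2), (2, 7), (7, 5), (5, 3), (3, 6), (6, 4), (4, 8)], [(0, 2), (2, 8), (8, 6), (6,
    7), (7, 3), (3, 5), (5, 4), (4, 1)], [(0, 2), (2, 6), (6, 7), (7, 1), (1, 8), (8, 3)], [(1, 7), (7, 2), (2, 8),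
    (8, 3), (3, 5), (5, 6)], [(0, 3), (3, 6), (6, 7), (7, 4), (4, 2), (2, 8)]]
  tab := [[(1, 0), (2, 0), (4, 0), (5, 0), (8, 0), (9, 0), (10, 0), (11, 0), (16, 0), (17, 0), (18, 0), (19, 0), (20, 0),
    (21, 0), (22, 0), (3, 1), (29, 4), (25, 5), (30, 0), (31, 0), (27, 4), (32, 0), (33, 0), (34, 0), (35, 0), (36,
    0), (37, 0), (38, 0), (13, 0), (0, 5), (47, 0), (48, 0), (45, 7), (49, 0), (7, 6), (6, 3), (15, 3), (50, 0), (42,
    7), (44, 8), (51, 0), (28, 1), (52, 0), (53, 0), (26, 0), (46, 0), (41, 1), (24, 6), (23, 3), (54, 0), (43, 3),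
    (14, 8), (55, 0), (39, 7), (40, 1), (12, 7)], [(0, 1), (3, 0), (6, 0), (7, 0), (12, 0), (13, 0), (14, 0), (15,
    0), (23, 0), (24, 0), (25, 0), (26, 0), (22, 1), (27, 0), (28, 0), (29, 0), (39, 0), (40, 0), (41, 0), (4, 2),
    (8, 6), (37, 4), (17, 3), (19, 4), (11, 4), (42, 0), (43, 0), (44, 0), (45, 0), (46, 0), (53, 6), (52, 3), (36,
    1), (31, 0), (10, 7), (16, 8), (5, 7), (33, 3), (48, 7), (2, 7), (20, 2), (1, 7), (9, 3), (34, 4), (30, 7), (51,
    4), (47, 7), (18, 4), (54, 6), (49, 8), (21, 4), (35, 8), (38, 7), (55, 6), (50, 2), (32, 0)]]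

theorem chkK : DK.chk 9 = true := by decide +kernel

/-- the sum over the subgroup of order 7 -/
def e7 : List (List ℕ) := [[], [0], [0, 0], [0, 0, 0], [0, 0, 0, 0], [0, 0, 0, 0, 0], [0, 0, 0, 0, 0, 0]]

/-- the sum over the subgroup of order 9 -/
def e9 : List (List ℕ) := [[], [1], [1, 1], [1, 1, 1], [1, 1, 1, 1], [1, 1, 1, 1, 1], [1, 1, 1, 1, 1, 1], [1, 1, 1, 1, 1, 1, 1], [1, 1, 1,
    1, 1, 1, 1, 1]]

theorem cK : sms DK.tab e9 (sms DK.tab e7 1) = 1 := by decide +kernel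

/-- `A₅` modulo `⟨(012)⟩` -/
def Db : Dat where
  gens := [[(0, 1), (1, 2)], [(0, 1), (1, 2), (2, 3), (3, 4)]]
  zt := [(0, 1), (1, 2)]
  reps := [[], [(0, 1), (1, 2), (2, 3), (3, 4)], [(0, 2), (2, 3), (3, 4), (4, 1)], [(0, 2), (2, 4), (4, 1), (1, 3)], [(2,
    3), (3, 4)], [(1, 3), (2, 4)], [(0, 3), (2, 4)], [(0, 1), (1, 3), (3, 2), (2, 4)], [(0, 3), (3, 1), (1, 2), (2,
    4)], [(0, 1), (1, 2), (2, 4), (4, 3)], [(0, 1), (1, 4), (4, 3), (3, 2)], [(0, 4), (4, 3), (3, 1), (1, 2)], [(0,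
    3), (3, 2), (2, 4), (4, 1)], [(0, 2), (1, 4)], [(0, 2), (1, 3)], [(1, 3), (3, 2)], [(0, 1), (1, 3)], [(0, 4), (4,
    2)], [(0, 1), (1, 4)], [(1, 2), (3, 4)]]
  tab := [[(0, 1), (2, 0), (4, 0), (5, 0), (1, 0), (7, 0), (8, 0), (3, 0), (12, 0), (11, 1), (9, 1), (10, 1), (6, 0), (17,
    2), (15, 0), (16, 0), (14, 0), (18, 1), (13, 0), (19, 2)], [(1, 0), (3, 0), (6, 0), (5, 1), (9, 0), (10, 0), (11,
    0), (13, 0), (12, 2), (14, 0), (0, 2), (15, 0), (17, 0), (4, 2), (7, 1), (18, 0), (8, 1), (19, 0), (2, 0), (16,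
    0)]]

theorem chkb : Db.chk 5 = true := by decide +kernel

/-- the sum of the elements of order 3 and 5 -/
def ee : List (List ℕ) := [[0], [1], [0, 0], [0, 1], [1, 0], [1, 1], [0, 0, 1], [0, 1, 0], [1, 0, 0], [1, 1, 1], [0, 0, 1, 0], [0, 0, 1,
    1], [0, 1, 0, 0], [0, 1, 0, 1], [0, 1, 1, 1], [1, 0, 0, 1], [1, 0, 1, 0], [1, 0, 1, 1], [1, 1, 0, 0], [1, 1, 0,
    1], [1, 1, 1, 0], [1, 1, 1, 1], [0, 0, 1, 0, 0], [0, 0, 1, 0, 1], [0, 1, 0, 1, 0], [0, 1, 1, 1, 1], [1, 0, 0, 1,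
    0], [1, 0, 1, 0, 0], [1, 0, 1, 0, 1], [1, 0, 1, 1, 1], [1, 1, 0, 1, 0], [1, 1, 1, 0, 1], [1, 1, 1, 1, 0], [0, 1,
    1, 1, 0, 1], [1, 0, 0, 1, 0, 1], [1, 0, 1, 1, 1, 0], [1, 0, 1, 1, 1, 1], [1, 1, 0, 0, 1, 0], [1, 1, 0, 1, 0, 0],
    [1, 1, 0, 1, 0, 1], [1, 1, 1, 0, 1, 0], [1, 1, 1, 1, 0, 1], [0, 1, 1, 1, 0, 1, 0, 0], [1, 1, 1, 1, 0, 1, 0, 0]]

/-- the sum over `⟨(012)⟩` -/
def e3 : List (List ℕ) := [[], [0], [0, 0]]

/-- the sum over `⟨(01234)⟩` -/
def e5 : List (List ℕ) := [[], [1], [1, 1], [1, 1, 1], [1, 1, 1, 1]]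

/-- `e₃ e₅ v = v + ε v` -/
theorem c1 : sms Db.tab e3 (sms Db.tab e5 1) = Nat.xor 1 (sms Db.tab ee 1) := by decide +kernel

/-- the mask of `(1 + e₃) x² ε v` -/
def m2 : ℕ := Nat.xor (sms Db.tab [[1, 1]] (sms Db.tab ee 1)) (sms Db.tab e3 (sms Db.tab [[1, 1]] (sms Db.tab ee 1)))

def h2 : List (List ℕ) := [[], [1], [0, 1], [1, 1, 0]]

theorem c2 : sms Db.tab h2 m2 = sms Db.tab ee 1 := by decide +kernel

theorem c2' : sms Db.tab ee m2 = m2 := by decide +kernel

/-- `A₅` modulo `⟨(01)(34)⟩` -/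
def Dt : Dat where
  gens := [[(0, 1), (1, 2)], [(0, 1), (1, 2), (2, 3), (3, 4)]]
  zt := [(0, 1), (3, 4)]
  reps := [[], [(0, 1), (1, 2)], [(0, 1), (1, 2), (2, 3), (3, 4)], [(0, 2), (2, 1)], [(0, 2), (2, 3), (3, 4), (4, 1)], [(0,
    2), (2, 1), (1, 3), (3, 4)], [(0, 2), (2, 4), (4, 1), (1, 3)], [(2, 3), (3, 4)], [(1, 3), (3, 4)], [(1, 3), (2,
    4)], [(0, 3), (3, 4)], [(0, 3), (2, 4)], [(0, 3), (1, 4)], [(0, 3), (3, 1), (1, 4), (4, 2)], [(0, 1), (1, 3), (3,
    4), (4, 2)], [(0, 3), (3, 4), (4, 1), (1, 2)], [(0, 3), (3, 2), (2, 1), (1, 4)], [(0, 1), (1, 2), (2, 4), (4,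
    3)], [(0, 1), (1, 4), (4, 2), (2, 3)], [(0, 1), (1, 4), (4, 3), (3, 2)], [(0, 4), (4, 1), (1, 2), (2, 3)], [(0,
    4), (4, 3), (3, 1), (1, 2)], [(0, 4), (4, 2), (2, 3), (3, 1)], [(0, 4), (4, 3), (3, 2), (2, 1)], [(0, 3), (3, 4),
    (4, 2), (2, 1)], [(0, 4), (4, 3)], [(0, 2), (2, 1), (1, 4), (4, 3)], [(0, 4), (4, 1)], [(0, 2), (2, 4), (4, 3),
    (3, 1)], [(2, 4), (4, 3)]]
  tab := [[(1, 0), (3, 0), (4, 0), (0, 0), (7, 0), (8, 0), (9, 0), (2, 0), (14, 0), (11, 1), (15, 0), (6, 1), (13, 0),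
    (16, 0), (5, 0), (24, 0), (12, 0), (28, 0), (20, 1), (26, 0), (22, 0), (23, 0), (18, 1), (25, 0), (10, 0), (21,
    0), (27, 1), (19, 1), (29, 0), (17, 0)], [(2, 0), (5, 0), (6, 0), (10, 0), (11, 0), (12, 0), (13, 0), (17, 0),
    (18, 0), (19, 0), (20, 0), (21, 0), (22, 0), (23, 0), (26, 0), (16, 1), (27, 0), (15, 1), (28, 0), (3, 0), (9,
    0), (24, 1), (29, 0), (0, 0), (25, 0), (4, 1), (8, 1), (7, 0), (14, 1), (1, 0)]]

theorem chkt : Dt.chk 5 = true := by decide +kernel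

def ha : List (List ℕ) := [[], [1], [1, 0], [0, 1], [1, 0, 0], [0, 1, 0], [0, 0, 1], [0, 1, 0, 0]]

def hb : List (List ℕ) := [[], [0, 0, 1]]

/-- `(234)` -/
def wd3 : List ℕ := [0, 0, 1]

/-- `v + (234) v = ha (v + ε v) + hb (e₃ v)` -/
theorem c3 : Nat.xor 1 (stps Dt.tab wd3 1) =
    Nat.xor (sms Dt.tab ha (Nat.xor 1 (sms Dt.tab ee 1))) (sms Dt.tab hb (sms Dt.tab e3 1)) := by decide +kernel

theorem cd_wd3 : cd 5 (wd Dt.gens wd3) = cd 5 [(2, 3), (3, 4)] := by decide

end Cfsg.Agent.R2.T1.Msk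
end

-- part: R2/T1/T2p/K9
section
/-!
# T1 (S5771, p = 2): elements of order 9 and 7 (helper25)

* `K_id` : `e₉ e₇ v = v` for `v` fixed by the element `zz` of order 9;
* `K_le` : `ev zz ≤ ev l7`; `K_inj` : if equality holds, then `e₉ w = 0` implies `w = 0` for `w` fixed by `l7`;
* `nine_rat2`, `ev_zz` : `ev zz = 8`.
-/

set_option autoImplicit false
set_option maxRecDepth 100000

namespace Cfsg.Agent.R2.T1.Msk

open Cfsg Cfsg.Lie Module Equiv Equiv.Perm
open Cfsg.Agent.H943.E7V.Block (D1 rho)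
open Cfsg.Agent.H952.F4 (ev es)
open Cfsg.Agent.R2.T1 Cfsg.Agent.R2.T1.Art Cfsg.Agent.R2.T1.Odd

universe u

/-- the element of order 9 -/
def zz : List (ℕ × ℕ) := DK.zt

theorem e7_eq : e7 = (List.range 7).map fun k => List.replicate k 0 := by decide

theorem e9_eq : e9 = (List.range 9).map fun k => List.replicate k 1 := by decide

section
variable {n m : ℕ} [NeZero n] {F : Type*} [Field F] {W : Type*} [AddCommGroup W] [Module F W]
  (ρ : Representation F ↥(alternatingGroup (Fin n)) W)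

theorem wd_replicate (gens : List (List (ℕ × ℕ))) (i k : ℕ) :
    wd gens (List.replicate k i) = pwl (gens.getD i []) k := by
  unfold wd pwl
  rw [List.map_replicate]

/-- the sum over a cyclic subgroup -/
theorem Op_cyc (hm : m ≤ n) {gens : List (List (ℕ × ℕ))} {i : ℕ} (h : vl m (gens.getD i []) = true) (N : ℕ) :
    Op ρ gens ((List.range N).map fun k => List.replicate k i) = ∑ k ∈ Finset.range N, ρ (P n (gens.getD i [])) ^ k := by
  unfold Op
  rw [List.map_map, ← List.sum_toFinset _ List.nodup_range, List.toFinset_range]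
  refine Finset.sum_congr rfl fun k _ => ?_
  show ρ (P n (wd gens (List.replicate k i))) = _
  rw [wd_replicate, P_pwl hm h, map_pow]

theorem geom_fix {T : Module.End F W} {N : ℕ} (hT : T ^ N = 1) (w : W) :
    T ((∑ k ∈ Finset.range N, T ^ k) w) = (∑ k ∈ Finset.range N, T ^ k) w := by
  have h := mul_geom_sum T N
  rw [hT, sub_self, sub_mul, one_mul, sub_eq_zero] at h
  rw [← Module.End.mul_apply, h]

theorem Op_fix (hm : m ≤ n) {gens : List (List (ℕ × ℕ))} {i : ℕ} (h : vl m (gens.getD i []) = true) {N : ℕ}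
    (hN : cd m (pwl (gens.getD i []) N) = cd m []) (w : W) :
    ρ (P n (gens.getD i [])) (Op ρ gens ((List.range N).map fun k => List.replicate k i) w) =
      Op ρ gens ((List.range N).map fun k => List.replicate k i) w := by
  rw [Op_cyc ρ hm h]
  exact geom_fix (by rw [← map_pow, P_pow_one hm h hN, map_one]) w

variable {ρ}

theorem K_id (hn : 9 ≤ n) (h2 : ∀ w : W, w + w = 0) {v : W} (hv : ρ (P n zz) v = v) :
    Op ρ DK.gens e9 (Op ρ DK.gens e7 v) = v := by
  have h := sumM_one (ρ := ρ) (D := DK) (v := v) rfl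
  conv_lhs => rw [← h]
  rw [eval hn h2 chkK hv (by decide), eval hn h2 chkK hv (by decide), cK, h]

theorem e7_fix (hn : 9 ≤ n) (w : W) : ρ (P n Odd.l7) (Op ρ DK.gens e7 w) = Op ρ DK.gens e7 w := by
  rw [e7_eq]
  exact Op_fix ρ hn (gens := DK.gens) (i := 0) (N := 7) (by decide) (by decide) w

theorem mem_es' {T : Module.End F W} {w : W} : w ∈ es T 1 ↔ T w = w := by
  rw [es, Module.End.mem_eigenspace_iff, one_smul]

variable [FiniteDimensional F W]

theorem K_map (hn : 9 ≤ n) (h2 : ∀ w : W, w + w = 0) :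
    finrank F ↥((es (ρ (P n zz)) 1).map (Op ρ DK.gens e7)) = ev (ρ (P n zz)) 1 ∧
      (es (ρ (P n zz)) 1).map (Op ρ DK.gens e7) ≤ es (ρ (P n Odd.l7)) 1 := by
  constructor
  · refine T3.finrank_map _ _ fun w hw h0 => ?_
    rw [← K_id hn h2 (mem_es'.1 hw), h0, map_zero]
  · rintro _ ⟨w, hw, rfl⟩
    exact mem_es'.2 (e7_fix hn w)

theorem K_le (hn : 9 ≤ n) (h2 : ∀ w : W, w + w = 0) : ev (ρ (P n zz)) 1 ≤ ev (ρ (P n Odd.l7)) 1 := by
  obtain ⟨h1, h3⟩ := K_map (ρ := ρ) hn h2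
  rw [← h1]
  exact Submodule.finrank_mono h3

theorem K_inj (hn : 9 ≤ n) (h2 : ∀ w : W, w + w = 0) (heq : ev (ρ (P n Odd.l7)) 1 ≤ ev (ρ (P n zz)) 1) {w : W}
    (hw : ρ (P n Odd.l7) w = w) (h0 : Op ρ DK.gens e9 w = 0) : w = 0 := by
  obtain ⟨h1, h3⟩ := K_map (ρ := ρ) hn h2
  have h4 := Submodule.eq_of_le_of_finrank_le h3 (by rw [h1]; exact heq)
  have h5 : w ∈ es (ρ (P n Odd.l7)) 1 := mem_es'.2 hw
  rw [← h4] at h5
  obtain ⟨v, hv, rfl⟩ := h5
  rw [K_id hn h2 (mem_es'.1 hv)] at h0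
  rw [h0, map_zero]

end

section nine
variable {F : Type u} [Field F]

/-- **rational elements of order 9** -/
theorem nine_rat2 [Finite F] (h3 : (3 : F) ≠ 0) {x g : Gh F} (hx : x ^ 9 = 1) (hg : g * x * g⁻¹ = x ^ 2)
    (h8 : ev (V F x) 1 ≤ 8) : ev (V F x) 1 % 3 = 0 ∨ ev (V F x) 1 = 8 ∨ 79 ≤ ev (L F x) 1 := by
  have h9 : ((9 : ℕ) : F) ≠ 0 := by
    have : ((9 : ℕ) : F) = 3 * 3 := by norm_num
    rw [this]
    exact mul_ne_zero h3 h3
  obtain ⟨p, hpp, hp, hcop⟩ := exists_char h9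
  obtain ⟨ζ, hζ, P, hP, h1⟩ := pat chk9 (by norm_num) p hcop hx
  have hm : ∀ j, ζ ^ j = ζ ^ (j % 9) := fun j => pow_mod_eq hζ j
  have eV := fun k => ev_rat (V (AlgebraicClosure F)) (N := 9) (a := 2) (b := 5) (emb_pow_one (algebraMap F _) hx)
    hζ.pow_eq_one (by norm_num) (by norm_num) (emb_rat _ hg) k
  have eL := fun k => ev_rat (L (AlgebraicClosure F)) (N := 9) (a := 2) (b := 5) (emb_pow_one (algebraMap F _) hx)
    hζ.pow_eq_one (by norm_num) (by norm_num) (emb_rat _ hg) k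
  have e1 := eV 1
  have e2 := eV 5
  have e3 := eV 3
  have e4 := eL 1
  rw [one_mul, (h1 1 (by norm_num)).1, (h1 5 (by norm_num)).1] at e1
  rw [hm (5 * 5), (h1 5 (by norm_num)).1, (h1 7 (by norm_num)).1] at e2
  rw [hm (3 * 5), (h1 3 (by norm_num)).1, (h1 6 (by norm_num)).1] at e3
  rw [one_mul, (h1 1 (by norm_num)).2, (h1 5 (by norm_num)).2] at e4
  have h0 := (h1 0 (by norm_num)).1
  have h0' := (h1 0 (by norm_num)).2
  rw [pow_zero, ev_V_one] at h0
  rw [pow_zero, ev_L_one] at h0'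
  rw [h0] at h8
  rw [h0, h0']
  have key : ∀ P ∈ T9, P.1.getD 1 0 = P.1.getD 5 0 → P.1.getD 5 0 = P.1.getD 7 0 → P.1.getD 3 0 = P.1.getD 6 0 →
      P.2.getD 1 0 = P.2.getD 5 0 → P.1.getD 0 0 ≤ 8 → P.1.getD 0 0 % 3 = 0 ∨ P.1.getD 0 0 = 8 ∨ 79 ≤ P.2.getD 0 0 := by decide
  exact key P hP e1 e2 e3 e4 h8

theorem ev_pow_le {W : Type*} [AddCommGroup W] [Module F W] [FiniteDimensional F W] (T : Module.End F W) (k : ℕ) :
    ev T 1 ≤ ev (T ^ k) 1 := by
  refine Submodule.finrank_mono fun w hw => ?_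
  rw [Module.End.mem_eigenspace_iff, one_smul] at hw ⊢
  induction k with
  | zero => rw [pow_zero]; rfl
  | succ k ih => rw [pow_succ, Module.End.mul_apply, hw, ih]

variable [Finite F] {n : ℕ} [NeZero n] {ψ : ↥(alternatingGroup (Fin n)) →* Gh F}

/-- the elements of type `3³` and of order 9 -/
theorem ev_nine (h3' : (3 : F) ≠ 0) (hψ : ∀ a, ad F (ψ a) = 1 → a = 1) (hn : 9 ≤ n)
    (h3 : ev (V F (ψ (P n l3))) 1 = 32) (h33 : ev (V F (ψ (P n l33))) 1 = 20) :
    ev (V F (ψ (P n l333))) 1 = 20 ∧ 3 ∣ ev (V F (ψ (P n l9))) 1 + ev (V F (ψ (P n l9b))) 1 + 2 := by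
  have hn8 : 8 ≤ n := by omega
  set ρ : Representation F ↥(alternatingGroup (Fin n)) (D1 → F) := MonoidHom.comp (V F) ψ with hρ
  have e0 : om ρ 1 = 56 := by rw [om_one, finrank_V]; norm_num
  have e3 : om ρ (P n l3) = 20 := by
    rw [om_prime ρ Nat.prime_three (orderOf_P hn8 (by decide +kernel)), finrank_V, show ev (ρ (P n l3)) 1 = 32 from h3]
    norm_num
  have e33 : om ρ (P n l33) = 2 := by
    rw [om_prime ρ Nat.prime_three (orderOf_P hn8 (by decide +kernel)), finrank_V, show ev (ρ (P n l33)) 1 = 20 from h33]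
    norm_num
  have e333 : om ρ (P n l333) = (3 * (ev (ρ (P n l333)) 1 : ℚ) - 56) / 2 := by
    rw [om_prime ρ Nat.prime_three (orderOf_P hn (by decide +kernel)), finrank_V]
    norm_num
  have c9 : ev (ρ (P n l9 ^ 3)) 1 = ev (ρ (P n l333)) 1 := by
    rw [← P_pwl hn (m := 9) (by decide), ev_cj hn ρ (x := pwl l9 3) (c := [(0, 3), (3, 2), (1, 6), (4, 5), (5, 8), (8, 7)])
      (r := l333) (by decide) (by decide) (by decide) (by decide)]
  have c9b : ev (ρ (P n l9b ^ 3)) 1 = ev (ρ (P n l333)) 1 := by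
    rw [← P_pwl hn (m := 9) (by decide), ev_cj hn ρ (x := pwl l9b 3) (c := [(1, 4), (4, 2), (2, 7), (7, 6), (6, 3), (3, 8)])
      (r := l333) (by decide) (by decide) (by decide) (by decide)]
  have e9 : om ρ (P n l9) = (9 * (ev (ρ (P n l9)) 1 : ℚ) - 3 * (ev (ρ (P n l333)) 1 : ℚ)) / 6 := by
    rw [om_nine ρ (orderOf_P hn (by decide +kernel)), c9]
  have e9b : om ρ (P n l9b) = (9 * (ev (ρ (P n l9b)) 1 : ℚ) - 3 * (ev (ρ (P n l333)) 1 : ℚ)) / 6 := by
    rw [om_nine ρ (orderOf_P hn (by decide +kernel)), c9b]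
  have l1 : ev (ρ (P n l9)) 1 ≤ ev (ρ (P n l333)) 1 := by
    rw [← c9, map_pow]; exact ev_pow_le _ 3
  have l2 : ev (ρ (P n l9b)) 1 ≤ ev (ρ (P n l333)) 1 := by
    rw [← c9b, map_pow]; exact ev_pow_le _ 3
  have h27 : ((27 : ℕ) : F) ≠ 0 := by
    have : ((27 : ℕ) : F) = 3 * 3 * 3 := by norm_num
    rw [this]; exact mul_ne_zero (mul_ne_zero h3' h3') h3'
  have h81 : ((81 : ℕ) : F) ≠ 0 := by
    have : ((81 : ℕ) : F) = 3 * 3 * (3 * 3) := by norm_num
    rw [this]; exact mul_ne_zero (mul_ne_zero h3' h3') (mul_ne_zero h3' h3')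
  have dB := dimC hn chkG_B27 chkC_B27 len_B27 (K := 8) rfl h27 cnt_B27 ρ
  have dW := dimC hn chkG_W81 chkC_W81 len_W81 (K := 8) rfl h81 cnt_W81 ρ
  simp only [r9t_eq, Finset.sum_range_succ, Finset.sum_range_zero, List.getD_cons_zero, List.getD_cons_succ, P_nil,
    e0, e3, e33, e333, e9, e9b] at dB dW
  have hv := three_val h3' (x := ψ (P n l333)) (by rw [← map_pow, P_pow_one hn (m := 9) (by decide) (by decide), map_one])
    (psi_ne' hψ hn (by decide) (by decide))
  have hv' : ev (ρ (P n l333)) 1 = 2 ∨ ev (ρ (P n l333)) 1 = 14 ∨ ev (ρ (P n l333)) 1 = 20 ∨ ev (ρ (P n l333)) 1 = 32 := hv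
  show ev (ρ (P n l333)) 1 = 20 ∧ 3 ∣ ev (ρ (P n l9)) 1 + ev (ρ (P n l9b)) 1 + 2
  generalize ev (ρ (P n l333)) 1 = d at *
  generalize ev (ρ (P n l9)) 1 = x at *
  generalize ev (ρ (P n l9b)) 1 = y at *
  generalize finrank F ↥(inv ρ (Tg n gB27)) = a at *
  generalize finrank F ↥(inv ρ (Tg n gW81)) = b at *
  push_cast at dB dW
  have k1 : 27 * (a : ℤ) = 12 * d - 24 := by
    have : 27 * (a : ℚ) = 12 * d - 24 := by linarith
    exact_mod_cast this
  have k2 : 81 * (b : ℤ) = 200 + 13 * (3 * d - 56) + 9 * (3 * x + 3 * y - 2 * d) := by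
    have : 81 * (b : ℚ) = 200 + 13 * (3 * d - 56) + 9 * (3 * x + 3 * y - 2 * d) := by linarith
    exact_mod_cast this
  rcases hv' with rfl | rfl | rfl | rfl
  · exfalso; omega
  · exfalso; omega
  · refine ⟨rfl, ?_⟩
    omega
  · exfalso; omega

end nine

end Cfsg.Agent.R2.T1.Msk
end

private theorem dce_309bc500d75b : _root_.True := by
  try have : _root_.True := by simp only [_root_.Cfsg.Agent.H952.F4.es.eq_1]
  exact _root_.True.intro
end

-- part: R2/T1/T2p/T3n
section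
prune_inst 0x10000000000000
set_option linter.all false
open scoped Cfsg.Agent.FastGrp

-- part: R2/T1/T2p/K9b
section
/-!
# T1 (S5771, p = 2): the pattern (32, 20, 16, ≤ 8, *) for `n ≥ 9` (helper25)

* `ev_zz` : `ev zz = 8`;
* `t1_false` : `ev l7 < 8` is impossible.
-/

set_option autoImplicit false
set_option maxRecDepth 100000

namespace Cfsg.Agent.R2.T1.Msk

open Cfsg Cfsg.Lie Module Equiv Equiv.Perm
open Cfsg.Agent.H943.E7V.Block (D1 rho)
open Cfsg.Agent.H952.F4 (ev es)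
open Cfsg.Agent.R2.T1 Cfsg.Agent.R2.T1.Art Cfsg.Agent.R2.T1.Odd

universe u

variable {F : Type u} [Field F] [Finite F] {n : ℕ} [NeZero n] {ψ : ↥(alternatingGroup (Fin n)) →* Gh F}

omit [Finite F] in
theorem three_ne (h2 : (2 : F) = 0) : (3 : F) ≠ 0 := fun h => one_ne_zero (α := F) (by linear_combination h - h2)

/-- rationality -/
theorem rat_of {m : ℕ} (hm : m ≤ n) {x c : List (ℕ × ℕ)} (hx : vl m x = true) (hc : vl m c = true)
    (h : cd m (pwl x 2 ++ c) = cd m (c ++ x)) : ψ (P n c) * ψ (P n x) * (ψ (P n c))⁻¹ = ψ (P n x) ^ 2 := by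
  rw [← map_mul, ← map_inv, ← map_mul, ← map_pow]
  congr 1
  rw [← P_append hm hc hx, ← (P_eq_iff hm (vl_append (vl_pwl hx 2) hc) (vl_append hc hx)).2 h,
    P_append hm (vl_pwl hx 2) hc, mul_inv_cancel_right, P_pwl hm hx]

theorem ev_zz (h2 : (2 : F) = 0) (hψ : ∀ a, ad F (ψ a) = 1 → a = 1) (hn : 9 ≤ n)
    (h3 : ev (V F (ψ (P n l3))) 1 = 32) (h33 : ev (V F (ψ (P n l33))) 1 = 20)
    (h7 : ev (V F (ψ (P n Odd.l7))) 1 ≤ 8) : ev (V F (ψ (P n zz))) 1 = 8 := by
  have h3' := three_ne h2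
  have h2' : ∀ w : D1 → F, w + w = 0 := fun w => by rw [← two_smul F w, h2, zero_smul]
  obtain ⟨k1, k2⟩ := ev_nine h3' hψ hn h3 h33
  let ρ : Representation F ↥(alternatingGroup (Fin n)) (D1 → F) := MonoidHom.comp (V F) ψ
  let ρ' : Representation F ↥(alternatingGroup (Fin n)) (D1 → F) := MonoidHom.comp ρ (cjt n)
  have a1 : ev (ρ (P n zz)) 1 = ev (ρ (P n l9b)) 1 :=
    ev_cj hn ρ (x := zz) (c := [(1, 5), (5, 3), (3, 2), (6, 8)]) (r := l9b) (by decide) (by decide) (by decide) (by decide) 1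
  have a2 : ev (ρ' (P n zz)) 1 = ev (ρ (P n l9)) 1 := by
    show ev (ρ (cjt n (P n zz))) 1 = _
    rw [cjt_P hn (by norm_num) (by decide)]
    exact ev_cj hn ρ (c := [(1, 2), (2, 4), (4, 8), (5, 7)]) (r := l9) (by decide) (by decide) (by decide) (by decide) 1
  have a3 : ev (ρ' (P n Odd.l7)) 1 = ev (ρ (P n Odd.l7)) 1 := by
    show ev (ρ (cjt n (P n Odd.l7))) 1 = _
    rw [cjt_P hn (by norm_num) (by decide)]
    exact ev_cj hn ρ (c := [(1, 2), (2, 3), (3, 4), (4, 5), (5, 6), (7, 8)]) (r := Odd.l7) (by decide) (by decide) (by decide)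
      (by decide) 1
  have b1 : ev (ρ (P n l9b)) 1 ≤ 8 := by
    rw [← a1]
    exact (K_le hn h2').trans h7
  have b2 : ev (ρ (P n l9)) 1 ≤ 8 := by
    rw [← a2]
    refine (K_le hn h2').trans ?_
    rw [a3]
    exact h7
  have c1 : ev (V F (ψ (P n l9))) 1 % 3 ≠ 1 :=
    nine_rat h3' (x := ψ (P n l9)) (g := ψ (P n [(1, 2), (2, 4), (4, 8), (8, 7), (7, 5), (3, 6)]))
      (by rw [← map_pow, P_pow_one hn (m := 9) (by decide) (by decide), map_one])
      (rat_of hn (by decide) (by decide) (by decide))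
  have c2 : ev (V F (ψ (P n l9b))) 1 % 3 ≠ 1 :=
    nine_rat h3' (x := ψ (P n l9b)) (g := ψ (P n [(1, 8), (8, 6), (6, 2), (2, 3), (3, 5), (4, 7)]))
      (by rw [← map_pow, P_pow_one hn (m := 9) (by decide) (by decide), map_one])
      (rat_of hn (by decide) (by decide) (by decide))
  have c3 := nine_rat2 h3' (x := ψ (P n l9b)) (g := ψ (P n [(1, 8), (8, 6), (6, 2), (2, 3), (3, 5), (4, 7)]))
      (by rw [← map_pow, P_pow_one hn (m := 9) (by decide) (by decide), map_one])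
      (rat_of hn (by decide) (by decide) (by decide)) b1
  have hb : ev (V F (ψ (P n l9b))) 1 % 3 ≠ 0 := by
    have c1' : ev (V F (ψ (P n l9))) 1 % 3 ≠ 1 := c1
    omega
  refine a1.trans ?_
  rcases c3 with c3 | c3 | c3
  · exact absurd c3 hb
  · exact c3
  · exfalso
    have c9b : ev (L F (ψ (P n l9b) ^ 3)) 1 = ev (L F (ψ (P n l333))) 1 := by
      rw [← map_pow, ← P_pwl hn (m := 9) (by decide)]
      exact ev_cj hn (MonoidHom.comp (L F) ψ) (x := pwl l9b 3) (c := [(1, 4), (4, 2), (2, 7), (7, 6), (6, 3), (3, 8)])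
        (r := l333) (by decide) (by decide) (by decide) (by decide) 1
    have d1 : ev (L F (ψ (P n l9b))) 1 ≤ ev (L F (ψ (P n l333))) 1 := by
      rw [← c9b, map_pow]
      exact ev_pow_le _ 3
    rcases three h3' (x := ψ (P n l333)) (by rw [← map_pow, P_pow_one hn (m := 9) (by decide) (by decide), map_one])
      (psi_ne' hψ hn (by decide) (by decide)) with ⟨e1, e2⟩ | ⟨e1, e2⟩ | ⟨e1, e2⟩ | ⟨e1, e2⟩ | ⟨e1, e2⟩ <;> omega

end Cfsg.Agent.R2.T1.Msk
end

-- part: R2/T1/T2p/T3n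
section
/-!
# T1 (S5771, p = 2): the pattern (32, 20, 16, 8, 8) for `n ≥ 9` (helper25)

* `SS ρ m` : the vectors fixed by the even permutations of the first `m` points;
* `up_step` : `SS ρ m ≤ SS ρ (m + 1)` for `m ≥ 8`, if `ev l7 ≤ ev zz`;
* `t3_false`.
-/

set_option autoImplicit false
set_option maxRecDepth 100000

namespace Cfsg.Agent.R2.T1.Msk

open Cfsg Cfsg.Lie Module Equiv Equiv.Perm
open Cfsg.Agent.H943.E7V.Block (D1 rho)
open Cfsg.Agent.H952.F4 (ev es)
open Cfsg.Agent.R2.T1 Cfsg.Agent.R2.T1.Art Cfsg.Agent.R2.T1.Odd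

universe u

section up
variable {n : ℕ} {F : Type*} [Field F] {W : Type*} [AddCommGroup W] [Module F W]

/-- the vectors fixed by the even permutations of the first `m` points -/
def SS (ρ : Representation F ↥(alternatingGroup (Fin n)) W) (m : ℕ) : Submodule F W where
  carrier := {v | ∀ a : ↥(alternatingGroup (Fin n)), (∀ i : Fin n, m ≤ i.val → (a : Perm (Fin n)) i = i) → ρ a v = v}
  add_mem' := fun {a b} ha hb g hg => by rw [map_add, ha g hg, hb g hg]
  zero_mem' := fun g _ => map_zero _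
  smul_mem' := fun c a ha g hg => by rw [map_smul, ha g hg]

variable {ρ : Representation F ↥(alternatingGroup (Fin n)) W}

/-- even permutations with small support -/
theorem exists_sw (hn : 9 ≤ n) {p i : Fin n} (hp : 7 ≤ p.val) (hip : i ≠ p) : ∃ g : ↥(alternatingGroup (Fin n)),
    (g : Perm (Fin n)) p = i ∧ ∀ j : Fin n, 3 ≤ j.val → j ≠ p → j ≠ i → (g : Perm (Fin n)) j = j := by
  obtain ⟨c, d, hcd, hci, hdi, hc, hd⟩ : ∃ c d : Fin n, c ≠ d ∧ c ≠ i ∧ d ≠ i ∧ c.val < 3 ∧ d.val < 3 := by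
    by_cases h0 : i.val = 0
    · exact ⟨⟨1, by omega⟩, ⟨2, by omega⟩, by simp, fun h => by rw [← h] at h0; simp at h0,
        fun h => by rw [← h] at h0; simp at h0, by simp, by simp⟩
    · by_cases h1 : i.val = 1
      · exact ⟨⟨0, by omega⟩, ⟨2, by omega⟩, by simp, fun h => by rw [← h] at h0; simp at h0,
          fun h => by rw [← h] at h1; simp at h1, by simp, by simp⟩
      · exact ⟨⟨0, by omega⟩, ⟨1, by omega⟩, by simp, fun h => by rw [← h] at h0; simp at h0,
          fun h => by rw [← h] at h1; simp at h1, by simp, by simp⟩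
  have hcp : c ≠ p := fun h => by rw [h] at hc; omega
  have hdp : d ≠ p := fun h => by rw [h] at hd; omega
  refine ⟨⟨swap p i * swap c d, ?_⟩, ?_, ?_⟩
  · rw [mem_alternatingGroup, Perm.sign_mul, sign_swap hip.symm, sign_swap hcd]
    rfl
  · show swap p i (swap c d p) = i
    rw [swap_apply_of_ne_of_ne hcp.symm hdp.symm, swap_apply_left]
  · intro j hj h1 h2
    show swap p i (swap c d j) = j
    have h3 : j ≠ c := fun h => by rw [h] at hj; omega
    have h4 : j ≠ d := fun h => by rw [h] at hj; omega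
    rw [swap_apply_of_ne_of_ne h3 h4, swap_apply_of_ne_of_ne h1 h2]

/-- the sum over a cyclic group vanishes on `w + T w` -/
theorem geom_zero (h2 : ∀ w : W, w + w = 0) {T : Module.End F W} {N : ℕ} (hT : T ^ N = 1) (w : W) :
    (∑ k ∈ Finset.range N, T ^ k) (w + T w) = 0 := by
  have h1 : (∑ k ∈ Finset.range N, T ^ k) * T = T * ∑ k ∈ Finset.range N, T ^ k := by
    rw [Finset.sum_mul, Finset.mul_sum]
    refine Finset.sum_congr rfl fun k _ => ?_
    rw [← pow_succ, ← pow_succ']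
  have h3 : (∑ k ∈ Finset.range N, T ^ k) (T w) = T ((∑ k ∈ Finset.range N, T ^ k) w) := by
    rw [← Module.End.mul_apply, h1, Module.End.mul_apply]
  rw [map_add, h3, geom_fix hT]
  exact h2 _

variable [NeZero n]

theorem P_fix {m : ℕ} (hm : m ≤ n) {l : List (ℕ × ℕ)} (h : vl m l = true) {i : Fin n} (hi : m ≤ i.val) :
    ((P n l : ↥(alternatingGroup (Fin n))) : Perm (Fin n)) i = i := by
  apply Fin.ext
  rw [coe_P hm h, pm_apply ((vl_iff.1 h).2.mono hm), ap_ge (vl_iff.1 h).2 hi]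

theorem P_val {m : ℕ} (hm : m ≤ n) {l : List (ℕ × ℕ)} (h : vl m l = true) (i : Fin n) :
    (((P n l : ↥(alternatingGroup (Fin n))) : Perm (Fin n)) i).val = ap l i.val := by
  rw [coe_P hm h, pm_apply ((vl_iff.1 h).2.mono hm)]

variable [FiniteDimensional F W]

/-- **from `m` to `m + 1` points** -/
theorem up_step (h2 : ∀ w : W, w + w = 0) (hn : 9 ≤ n) (heq : ev (ρ (P n Odd.l7)) 1 ≤ ev (ρ (P n zz)) 1) {m : ℕ} (hm : 8 ≤ m)
    (hmn : m < n) : SS ρ m ≤ SS ρ (m + 1) := by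
  classical
  intro v hv
  set o : Fin n := ⟨m, hmn⟩ with ho
  have hmul : ∀ a b : ↥(alternatingGroup (Fin n)), ∀ w, ρ (a * b) w = ρ a (ρ b w) := fun a b w => by
    rw [map_mul, Module.End.mul_apply]
  let Fx : ↥(alternatingGroup (Fin n)) → Prop := fun a => ∀ j : Fin n, m + 1 ≤ j.val → (a : Perm (Fin n)) j = j
  have hFmul : ∀ a b, Fx a → Fx b → Fx (a * b) := by
    intro a b ha hb j hj
    show (a : Perm (Fin n)) ((b : Perm (Fin n)) j) = j
    rw [hb j hj, ha j hj]
  let Y : Fin n → W := fun i => if h : ∃ a : ↥(alternatingGroup (Fin n)), (a : Perm (Fin n)) o = i ∧ Fx a then ρ h.choose v else 0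
  have hY : ∀ (a : ↥(alternatingGroup (Fin n))) (i : Fin n), (a : Perm (Fin n)) o = i → Fx a → ρ a v = Y i := by
    intro a i ha hf
    have hex : ∃ a : ↥(alternatingGroup (Fin n)), (a : Perm (Fin n)) o = i ∧ Fx a := ⟨a, ha, hf⟩
    obtain ⟨hb, hbf⟩ := hex.choose_spec
    show ρ a v = if h : ∃ a : ↥(alternatingGroup (Fin n)), (a : Perm (Fin n)) o = i ∧ Fx a then ρ h.choose v else 0
    rw [dif_pos hex]
    set b := hex.choose with hbd
    have h1 : ρ (b⁻¹ * a) v = v := by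
      apply hv
      intro j hj
      show ((b : Perm (Fin n))⁻¹) ((a : Perm (Fin n)) j) = j
      rw [Perm.inv_eq_iff_eq]
      rcases Nat.eq_or_lt_of_le hj with h | h
      · have hjo : j = o := Fin.ext h.symm
        rw [hjo, ha, hb]
      · rw [hf j h, hbf j h]
    conv_rhs => rw [← h1]
    rw [← hmul, mul_inv_cancel_left]
  have hex : ∀ i : Fin n, i.val ≤ m → ∃ a : ↥(alternatingGroup (Fin n)), (a : Perm (Fin n)) o = i ∧ Fx a := by
    intro i hi
    by_cases hio : i = o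
    · exact ⟨1, hio.symm, fun _ _ => rfl⟩
    · obtain ⟨g, g1, g2⟩ := exists_sw hn (p := o) (i := i) (by show 7 ≤ m; omega) hio
      refine ⟨g, g1, fun j hj => g2 j (by omega) (fun h => ?_) (fun h => ?_)⟩
      · rw [h] at hj; simp [ho] at hj
      · rw [h] at hj; omega
  have hact : ∀ (b : ↥(alternatingGroup (Fin n))) (i : Fin n), Fx b → i.val ≤ m → ρ b (Y i) = Y ((b : Perm (Fin n)) i) := by
    intro b i hb hi
    obtain ⟨a, ha, hf⟩ := hex i hi
    rw [← hY a i ha hf, ← hmul]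
    exact hY _ _ (by show (b : Perm (Fin n)) ((a : Perm (Fin n)) o) = _; rw [ha]) (hFmul _ _ hb hf)
  have hYo : Y o = v := by
    rw [← hY 1 o rfl fun _ _ => rfl, map_one]; rfl
  set p7 : Fin n := ⟨7, by omega⟩ with hp7
  set p8 : Fin n := ⟨8, by omega⟩ with hp8
  have h78 : p7 ≠ p8 := by simp [hp7, hp8]
  -- `Y 7 = Y 8`
  have hzF : Fx (P n zz) := fun j hj => P_fix hn (m := 9) (by decide) (by omega)
  have hz8 : ((P n zz : ↥(alternatingGroup (Fin n))) : Perm (Fin n)) p8 = p7 := by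
    apply Fin.ext
    rw [P_val hn (m := 9) (by decide)]
    show ap zz 8 = 7
    decide
  have hzY : ρ (P n zz) (Y p8) = Y p7 := by rw [hact _ _ hzF (by show 8 ≤ m; exact hm), hz8]
  have hyF : Fx (P n Odd.l7) := fun j hj => P_fix (m := 7) (by omega) (by decide) (by omega)
  have hy : ∀ i : Fin n, 7 ≤ i.val → i.val ≤ m → ρ (P n Odd.l7) (Y i) = Y i := by
    intro i hi hi'
    rw [hact _ _ hyF hi', P_fix (m := 7) (by omega) (by decide) hi]
  have h0 : Y p8 + Y p7 = 0 := by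
    refine K_inj hn h2 heq ?_ ?_
    · rw [map_add, hy p7 le_rfl (by show 7 ≤ m; omega), hy p8 (by show 7 ≤ 8; omega) hm]
    · rw [e9_eq, Op_cyc ρ hn (gens := DK.gens) (i := 1) (by decide), ← hzY]
      exact geom_zero h2 (by rw [← map_pow, P_pow_one hn (m := 9) (by decide) (by decide), map_one]) _
  have h1 : Y p7 = Y p8 := by
    have h3 : -Y p8 = Y p8 := neg_eq_of_add_eq_zero_left (h2 _)
    rw [← h3]
    exact (neg_eq_of_add_eq_zero_right h0).symm
  -- all translates are equal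
  have hall : ∀ i : Fin n, i.val ≤ m → Y i = Y p8 := by
    intro i hi
    by_cases hi8 : i = p8
    · rw [hi8]
    by_cases hi7 : i = p7
    · rw [hi7, h1]
    obtain ⟨g, g1, g2⟩ := exists_sw hn (p := p7) (i := i) le_rfl hi7
    have hgF : Fx g := fun j hj => g2 j (by omega) (fun h => by rw [h] at hj; simp [hp7] at hj; omega)
      (fun h => by rw [h] at hj; omega)
    have h3 := hact g p7 hgF (by show 7 ≤ m; omega)
    rw [g1, h1, hact g p8 hgF hm, g2 p8 (by show 3 ≤ 8; omega) h78.symm (Ne.symm hi8)] at h3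
    exact h3.symm
  intro a ha
  have h3 := hact a o ha (by show m ≤ m; exact le_rfl)
  rw [hYo] at h3
  rw [h3]
  have h4 : (((a : Perm (Fin n)) o : Fin n)).val ≤ m := by
    by_contra hcon
    have h5 := ha ((a : Perm (Fin n)) o) (by omega)
    have h6 := (a : Perm (Fin n)).injective h5
    rw [h6] at hcon
    exact hcon le_rfl
  rw [hall _ h4, ← hall o (by show m ≤ m; exact le_rfl), hYo]

theorem SS_eight (h2 : ∀ w : W, w + w = 0) (hn : 9 ≤ n) (heq : ev (ρ (P n Odd.l7)) 1 ≤ ev (ρ (P n zz)) 1)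
    (hfix : Representation.invariants ρ = ⊥) : SS ρ 8 = ⊥ := by
  have h1 : ∀ m, 8 ≤ m → m ≤ n → SS ρ 8 ≤ SS ρ m := by
    intro m hm
    induction m, hm using Nat.le_induction with
    | base => exact fun _ => le_rfl
    | succ m hm ih => exact fun h => (ih (by omega)).trans (up_step h2 hn heq hm (by omega))
  rw [eq_bot_iff, ← hfix]
  intro v hv
  have h3 := h1 n (by omega) le_rfl hv
  rw [Representation.mem_invariants]
  exact fun a => h3 a fun i hi => absurd i.2 (by omega)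

end up

section t3
variable {F : Type u} [Field F] [Finite F] {n : ℕ} [NeZero n] {ψ : ↥(alternatingGroup (Fin n)) →* Gh F}

/-- **the pattern (32, 20, 16, 8, 8) for `n ≥ 9`** -/
theorem t3_false (h2 : (2 : F) = 0) (hψ : ∀ a, ad F (ψ a) = 1 → a = 1) (hn : 9 ≤ n)
    (hfix : Representation.invariants (MonoidHom.comp (V F) ψ : Representation F ↥(alternatingGroup (Fin n)) (D1 → F)) = ⊥)
    (h3 : ∀ a : ↥(alternatingGroup (Fin n)), (a : Perm (Fin n)).cycleType = {3} → ev (V F (ψ a)) 1 = 32)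
    (h33 : ∀ a : ↥(alternatingGroup (Fin n)), (a : Perm (Fin n)).cycleType = {3, 3} → ev (V F (ψ a)) 1 = 20)
    (h5 : ∀ a : ↥(alternatingGroup (Fin n)), (a : Perm (Fin n)).cycleType = {5} → ev (V F (ψ a)) 1 = 16)
    (h7 : ∀ a : ↥(alternatingGroup (Fin n)), (a : Perm (Fin n)).cycleType = {7} → ev (V F (ψ a)) 1 = 8)
    (h53 : ∀ a : ↥(alternatingGroup (Fin n)), (a : Perm (Fin n)).cycleType = {5, 3} → ev (V F (ψ a)) 1 = 8) :
    False := by
  have hn8 : 8 ≤ n := by omega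
  have h2' : ∀ w : D1 → F, w + w = 0 := fun w => by rw [← two_smul F w, h2, zero_smul]
  have hct : ∀ a : A8, ((emb8 hn8 a : ↥(alternatingGroup (Fin n))) : Perm (Fin n)).cycleType = (a : Perm (Fin 8)).cycleType := by
    intro a
    rw [emb8_coe, Perm.cycleType_extendDomain]
  have hP : ∀ l : List (ℕ × ℕ), vl 8 l = true → ((P n l : ↥(alternatingGroup (Fin n))) : Perm (Fin n)).cycleType =
      (P 8 l : Perm (Fin 8)).cycleType := fun l hl => by rw [← emb8_P hn8 hl, hct]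
  have e3 : ev (V F (ψ (P n l3))) 1 = 32 := h3 _ (by rw [hP _ (by decide), coe_P le_rfl (by decide)]; decide +kernel)
  have e33 : ev (V F (ψ (P n l33))) 1 = 20 := h33 _ (by rw [hP _ (by decide), coe_P le_rfl (by decide)]; decide +kernel)
  have e7 : ev (V F (ψ (P n Odd.l7))) 1 = 8 := h7 _ (by rw [hP _ (by decide), coe_P le_rfl (by decide)]; decide +kernel)
  have ezz := ev_zz h2 hψ hn e3 e33 e7.le
  have hS : SS (MonoidHom.comp (V F) ψ : Representation F ↥(alternatingGroup (Fin n)) (D1 → F)) 8 = ⊥ :=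
    SS_eight h2' hn (by show ev (V F (ψ (P n Odd.l7))) 1 ≤ ev (V F (ψ (P n zz))) 1; rw [e7, ezz]) hfix
  refine T3.core (ρ := (MonoidHom.comp (V F) (ψ.comp (emb8 hn8)) : Representation F (T3.A 8) (D1 → F))) (B := sf F) ?_
  exact
    { two := h2
      dim := finrank_V
      nd := fun v hv => sf_nondeg' hv
      inv := fun g v w => sf_V (ψ (emb8 hn8 g)) v w
      symm := fun v w => by
        rw [sf_swap]
        have : sf F w v + sf F w v = 0 := by rw [← two_mul, h2, zero_mul]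
        exact neg_eq_of_add_eq_zero_left this
      fix := by
        rw [eq_bot_iff, ← hS]
        intro v hv a ha
        obtain ⟨b, rfl⟩ := exists_emb8 hn8 ha
        exact (Representation.mem_invariants _ _).1 hv b
      c3 := fun a ha => h3 _ (by rw [hct, ha])
      c33 := fun a ha => h33 _ (by rw [hct, ha])
      c5 := fun a ha => h5 _ (by rw [hct, ha])
      c7 := fun a ha => h7 _ (by rw [hct, ha])
      c53 := fun a ha => h53 _ (by rw [hct, ha]) }

end t3

end Cfsg.Agent.R2.T1.Msk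
end
end

-- part: R2/T1/T2p/T2a
section
set_option linter.all false
open scoped Cfsg.Agent.FastGrp

-- part: R2/T1/T2p/TabE
section
/-!
# S5771, p = 2: the tables of elementary abelian groups of order 9 in `A_9` (helper25)
-/

set_option autoImplicit false
set_option maxRecDepth 100000

namespace Cfsg.Agent.R2.T1.T2p

open Cfsg.Agent.R2.T1.Odd

/-- representatives of the classes: `1`, `3`, `3²` -/
def rE : List (List (ℕ × ℕ)) :=
  [[], [(0, 1), (1, 2)], [(0, 1), (1, 2), (4, 5), (5, 6)]]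

def gE1 : List (List (ℕ × ℕ)) :=
  [[(0, 1), (1, 2)], [(3, 4), (4, 5)]]

def eE1 : List (List ℕ) :=
  [[], [0], [1], [0, 0], [1, 0], [1, 1], [1, 0, 0], [1, 1, 0], [1, 1, 0, 0]]

def dE1 : List (ℕ × List (ℕ × ℕ)) :=
  [(0, []), (1, []), (1, [(0, 3), (3, 1), (1, 4), (2, 5)]), (1, [(1, 2), (3, 4)]), (2, [(3, 7), (7, 6), (6, 5),
   (5, 4)]), (1, [(0, 3), (1, 5), (5, 2), (2, 4)]), (2, [(1, 2), (3, 6), (6, 5), (5, 4)]), (2, [(3, 6), (6, 4)]),
   (2, [(1, 2), (3, 7), (7, 6), (6, 4)])]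

def gE2 : List (List (ℕ × ℕ)) :=
  [[(3, 4), (4, 5)], [(6, 7), (7, 8)]]

def eE2 : List (List ℕ) :=
  [[], [0], [1], [0, 0], [1, 0], [1, 1], [1, 0, 0], [1, 1, 0], [1, 1, 0, 0]]

def dE2 : List (ℕ × List (ℕ × ℕ)) :=
  [(0, []), (1, [(0, 3), (3, 1), (1, 4), (2, 5)]), (1, [(0, 6), (6, 3), (1, 7), (7, 4), (2, 8), (8, 5)]), (1, [(0,
   3), (1, 5), (5, 2), (2, 4)]), (2, [(0, 3), (3, 1), (1, 4), (4, 6), (6, 8), (8, 2), (2, 5), (5, 7)]), (1, [(0,
   6), (6, 3), (3, 1), (1, 8), (8, 5), (5, 2), (2, 7), (7, 4)]), (2, [(0, 3), (1, 5), (5, 7), (2, 4), (4, 6), (6,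
   8)]), (2, [(0, 3), (1, 4), (4, 6), (6, 7), (2, 5), (5, 8)]), (2, [(0, 3), (3, 1), (1, 5), (5, 8), (8, 2), (2,
   4), (4, 6), (6, 7)])]

def gE3 : List (List (ℕ × ℕ)) :=
  [[(0, 1), (1, 2)], [(5, 6), (6, 7)]]

def eE3 : List (List ℕ) :=
  [[], [0], [1], [0, 0], [1, 0], [1, 1], [1, 0, 0], [1, 1, 0], [1, 1, 0, 0]]

def dE3 : List (ℕ × List (ℕ × ℕ)) :=
  [(0, []), (1, []), (1, [(0, 5), (5, 2), (2, 7), (7, 4), (1, 6), (6, 3)]), (1, [(1, 2), (3, 4)]), (2, [(3, 4),
   (4, 5), (5, 6), (6, 7)]), (1, [(0, 5), (5, 2), (2, 6), (6, 3), (1, 7), (7, 4)]), (2, [(1, 2), (4, 5), (5, 6),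
   (6, 7)]), (2, [(4, 5), (5, 7)]), (2, [(1, 2), (3, 4), (4, 5), (5, 7)])]

theorem chkG_E1 : chkG 9 gE1 eE1 = true := by decide +kernel
theorem chkC_E1 : chkC 9 gE1 eE1 [] rE dE1 = true := by decide +kernel
theorem len_E1 : eE1.length = 9 := by decide +kernel
theorem cnt_E1 : (List.range 3).map (fun k => (dE1.map Prod.fst).count k) = [1, 4, 4] := by decide +kernel

theorem chkG_E2 : chkG 9 gE2 eE2 = true := by decide +kernel
theorem chkC_E2 : chkC 9 gE2 eE2 [] rE dE2 = true := by decide +kernel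
theorem len_E2 : eE2.length = 9 := by decide +kernel
theorem cnt_E2 : (List.range 3).map (fun k => (dE2.map Prod.fst).count k) = [1, 4, 4] := by decide +kernel

theorem chkG_E3 : chkG 9 gE3 eE3 = true := by decide +kernel
theorem chkC_E3 : chkC 9 gE3 eE3 [] rE dE3 = true := by decide +kernel
theorem len_E3 : eE3.length = 9 := by decide +kernel
theorem cnt_E3 : (List.range 3).map (fun k => (dE3.map Prod.fst).count k) = [1, 4, 4] := by decide +kernel

end Cfsg.Agent.R2.T1.T2p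
end

-- part: R2/T1/T2p/T2a
section
/-!
# T1 (S5771, p = 2): the pattern (20, 32, 16, 20, *) for `n ≥ 10`, step 1 (helper25)

* `Z3 T` : the kernel of `1 + T + T²`; `ker3`;
* `ev_nineB` : the elements of type `3³`;
* `X_fix` : the vectors `v` with `(345) v = v` and `v + (012) v + (021) v = 0` are fixed by all even permutations which fix 0, 1, 2.
-/

set_option autoImplicit false
set_option maxRecDepth 100000

namespace Cfsg.Agent.R2.T1.T2p

open Cfsg Cfsg.Lie Module Equiv Equiv.Perm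
open Cfsg.Agent.H943.E7V.Block (D1 rho)
open Cfsg.Agent.H952.F4 (ev es)
open Cfsg.Agent.R2.T1 Cfsg.Agent.R2.T1.Art Cfsg.Agent.R2.T1.Odd
open Cfsg.Agent.R2.T1.Msk (ev_pow_le P_fix P_val three_ne)

universe u

section z3
variable {F : Type*} [Field F] {W : Type*} [AddCommGroup W] [Module F W]

/-- the kernel of `1 + T + T²` -/
def Z3 (T : Module.End F W) : Submodule F W := LinearMap.ker (1 + T + T * T)

theorem mem_Z3 {T : Module.End F W} {v : W} : v ∈ Z3 T ↔ v + T v + T (T v) = 0 := by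
  unfold Z3
  rw [LinearMap.mem_ker, LinearMap.add_apply, LinearMap.add_apply, Module.End.one_apply, Module.End.mul_apply]

theorem mem_es {T : Module.End F W} {w : W} : w ∈ es T 1 ↔ T w = w := by
  rw [es, Module.End.mem_eigenspace_iff, one_smul]

variable [FiniteDimensional F W]

theorem ker3 (h3 : (3 : F) ≠ 0) {T : Module.End F W} (hT : T ^ 3 = 1) {M : Submodule F W} (hM : ∀ v ∈ M, T v ∈ M) :
    finrank F ↥(M ⊓ Z3 T) + finrank F ↥(M ⊓ es T 1) = finrank F ↥M := by
  let f : ↥M →ₗ[F] W := (1 + T + T * T) ∘ₗ M.subtype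
  have hf : ∀ v : ↥M, f v = v + T v + T (T v) := fun _ => rfl
  have hTT : ∀ v, T (T (T v)) = v := by
    intro v
    have h := LinearMap.congr_fun hT v
    rw [pow_succ, pow_two, Module.End.mul_apply, Module.End.mul_apply] at h
    exact h
  have h1 := LinearMap.finrank_range_add_finrank_ker f
  have h2 : LinearMap.range f = M ⊓ es T 1 := by
    apply le_antisymm
    · rintro _ ⟨v, rfl⟩
      rw [hf]
      refine ⟨M.add_mem (M.add_mem v.2 (hM _ v.2)) (hM _ (hM _ v.2)), mem_es.2 ?_⟩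
      rw [map_add, map_add, hTT]
      abel
    · intro v hv
      obtain ⟨hv1, hv2⟩ := hv
      have hv2' : T v = v := mem_es.1 hv2
      refine ⟨(3 : F)⁻¹ • ⟨v, hv1⟩, ?_⟩
      rw [map_smul, hf]
      show (3 : F)⁻¹ • (v + T v + T (T v)) = v
      rw [hv2', hv2']
      have h4 : v + v + v = (3 : F) • v := by
        have : (3 : F) = 1 + 1 + 1 := by norm_num
        rw [this, add_smul, add_smul, one_smul]
      rw [h4, smul_smul, inv_mul_cancel₀ h3, one_smul]
  have h3' : finrank F ↥(LinearMap.ker f) = finrank F ↥(M ⊓ Z3 T) := by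
    have h4 : (LinearMap.ker f).map M.subtype = M ⊓ Z3 T := by
      ext v
      constructor
      · rintro ⟨w, hw, rfl⟩
        exact ⟨w.2, mem_Z3.2 (by have := LinearMap.mem_ker.1 hw; rwa [hf] at this)⟩
      · rintro ⟨hv1, hv2⟩
        exact ⟨⟨v, hv1⟩, LinearMap.mem_ker.2 (by rw [hf]; exact mem_Z3.1 hv2), rfl⟩
    rw [← h4]
    exact (T3.finrank_map M.subtype _ fun w _ hw => Subtype.ext hw).symm
  rw [h2, h3'] at h1
  omega

end z3

/-- the 3-cycles `(012)`, `(345)`, `(678)`, `(349)` -/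
def lb : List (ℕ × ℕ) := [(0, 1), (1, 2)]
def la : List (ℕ × ℕ) := [(3, 4), (4, 5)]
def lc : List (ℕ × ℕ) := [(6, 7), (7, 8)]
def la' : List (ℕ × ℕ) := [(3, 4), (4, 9)]
/-- `(36)(47)(589)` -/
def lg : List (ℕ × ℕ) := [(3, 6), (4, 7), (5, 8), (8, 9)]

section t2
variable {F : Type u} [Field F] [Finite F] {n : ℕ} [NeZero n] {ψ : ↥(alternatingGroup (Fin n)) →* Gh F}

/-- the elements of type `3³` -/
theorem ev_nineB (h3' : (3 : F) ≠ 0) (hψ : ∀ a, ad F (ψ a) = 1 → a = 1) (hn : 9 ≤ n)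
    (h3 : ev (V F (ψ (P n l3))) 1 = 20) (h33 : ev (V F (ψ (P n l33))) 1 = 32) :
    finrank F ↥(inv (MonoidHom.comp (V F) ψ : Representation F ↥(alternatingGroup (Fin n)) (D1 → F)) (Tg n gB27)) = 12 := by
  have hn8 : 8 ≤ n := by omega
  set ρ : Representation F ↥(alternatingGroup (Fin n)) (D1 → F) := MonoidHom.comp (V F) ψ with hρ
  have e0 : om ρ 1 = 56 := by rw [om_one, finrank_V]; norm_num
  have e3 : om ρ (P n l3) = 2 := by
    rw [om_prime ρ Nat.prime_three (orderOf_P hn8 (by decide +kernel)), finrank_V, show ev (ρ (P n l3)) 1 = 20 from h3]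
    norm_num
  have e33 : om ρ (P n l33) = 20 := by
    rw [om_prime ρ Nat.prime_three (orderOf_P hn8 (by decide +kernel)), finrank_V, show ev (ρ (P n l33)) 1 = 32 from h33]
    norm_num
  have e333 : om ρ (P n l333) = (3 * (ev (ρ (P n l333)) 1 : ℚ) - 56) / 2 := by
    rw [om_prime ρ Nat.prime_three (orderOf_P hn (by decide +kernel)), finrank_V]
    norm_num
  have c9 : ev (ρ (P n l9 ^ 3)) 1 = ev (ρ (P n l333)) 1 := by
    rw [← P_pwl hn (m := 9) (by decide), ev_cj hn ρ (x := pwl l9 3) (c := [(0, 3), (3, 2), (1, 6), (4, 5), (5, 8), (8, 7)])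
      (r := l333) (by decide) (by decide) (by decide) (by decide)]
  have c9b : ev (ρ (P n l9b ^ 3)) 1 = ev (ρ (P n l333)) 1 := by
    rw [← P_pwl hn (m := 9) (by decide), ev_cj hn ρ (x := pwl l9b 3) (c := [(1, 4), (4, 2), (2, 7), (7, 6), (6, 3), (3, 8)])
      (r := l333) (by decide) (by decide) (by decide) (by decide)]
  have e9 : om ρ (P n l9) = (9 * (ev (ρ (P n l9)) 1 : ℚ) - 3 * (ev (ρ (P n l333)) 1 : ℚ)) / 6 := by
    rw [om_nine ρ (orderOf_P hn (by decide +kernel)), c9]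
  have e9b : om ρ (P n l9b) = (9 * (ev (ρ (P n l9b)) 1 : ℚ) - 3 * (ev (ρ (P n l333)) 1 : ℚ)) / 6 := by
    rw [om_nine ρ (orderOf_P hn (by decide +kernel)), c9b]
  have l1 : ev (ρ (P n l9)) 1 ≤ ev (ρ (P n l333)) 1 := by
    rw [← c9, map_pow]; exact ev_pow_le _ 3
  have l2 : ev (ρ (P n l9b)) 1 ≤ ev (ρ (P n l333)) 1 := by
    rw [← c9b, map_pow]; exact ev_pow_le _ 3
  have h27 : ((27 : ℕ) : F) ≠ 0 := by
    have : ((27 : ℕ) : F) = 3 * 3 * 3 := by norm_num
    rw [this]; exact mul_ne_zero (mul_ne_zero h3' h3') h3'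
  have h81 : ((81 : ℕ) : F) ≠ 0 := by
    have : ((81 : ℕ) : F) = 3 * 3 * (3 * 3) := by norm_num
    rw [this]; exact mul_ne_zero (mul_ne_zero h3' h3') (mul_ne_zero h3' h3')
  have dB := dimC hn chkG_B27 chkC_B27 len_B27 (K := 8) rfl h27 cnt_B27 ρ
  have dW := dimC hn chkG_W81 chkC_W81 len_W81 (K := 8) rfl h81 cnt_W81 ρ
  simp only [r9t_eq, Finset.sum_range_succ, Finset.sum_range_zero, List.getD_cons_zero, List.getD_cons_succ, P_nil,
    e0, e3, e33, e333, e9, e9b] at dB dW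
  have hv := three_val h3' (x := ψ (P n l333)) (by rw [← map_pow, P_pow_one hn (m := 9) (by decide) (by decide), map_one])
    (psi_ne' hψ hn (by decide) (by decide))
  have hv' : ev (ρ (P n l333)) 1 = 2 ∨ ev (ρ (P n l333)) 1 = 14 ∨ ev (ρ (P n l333)) 1 = 20 ∨ ev (ρ (P n l333)) 1 = 32 := hv
  generalize ev (ρ (P n l333)) 1 = d at *
  generalize ev (ρ (P n l9)) 1 = x at *
  generalize ev (ρ (P n l9b)) 1 = y at *
  generalize finrank F ↥(inv ρ (Tg n gB27)) = a at *
  generalize finrank F ↥(inv ρ (Tg n gW81)) = b at *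
  push_cast at dB dW
  have k1 : 27 * (a : ℤ) = 84 + 12 * d := by
    have : 27 * (a : ℚ) = 84 + 12 * d := by linarith
    exact_mod_cast this
  have k2 : 81 * (b : ℤ) = 308 + 13 * (3 * d - 56) + 9 * (3 * x + 3 * y - 2 * d) := by
    have : 81 * (b : ℚ) = 308 + 13 * (3 * d - 56) + 9 * (3 * x + 3 * y - 2 * d) := by linarith
    exact_mod_cast this
  rcases hv' with rfl | rfl | rfl | rfl
  · exfalso; omega
  · exfalso; omega
  · omega
  · exfalso; omega

theorem dimE (h3' : (3 : F) ≠ 0) (hn : 9 ≤ n) (h3 : ev (V F (ψ (P n l3))) 1 = 20) (h33 : ev (V F (ψ (P n l33))) 1 = 32)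
    {g : List (List (ℕ × ℕ))} {e : List (List ℕ)} {d : List (ℕ × List (ℕ × ℕ))} (hG : chkG 9 g e = true)
    (hC : chkC 9 g e [] rE d = true) (hl : e.length = 9)
    (hc : (List.range 3).map (fun k => (d.map Prod.fst).count k) = [1, 4, 4]) :
    finrank F ↥(inv (MonoidHom.comp (V F) ψ : Representation F ↥(alternatingGroup (Fin n)) (D1 → F)) (Tg n g)) = 16 := by
  have hn8 : 8 ≤ n := by omega
  set ρ : Representation F ↥(alternatingGroup (Fin n)) (D1 → F) := MonoidHom.comp (V F) ψ with hρ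
  have hN : ((9 : ℕ) : F) ≠ 0 := by
    have : ((9 : ℕ) : F) = 3 * 3 := by norm_num
    rw [this]
    exact mul_ne_zero h3' h3'
  have e0 : om ρ 1 = 56 := by rw [om_one, finrank_V]; norm_num
  have e3 : om ρ (P n l3) = 2 := by
    rw [om_prime ρ Nat.prime_three (orderOf_P hn8 (by decide +kernel)), finrank_V, show ev (ρ (P n l3)) 1 = 20 from h3]
    norm_num
  have e33 : om ρ (P n l33) = 20 := by
    rw [om_prime ρ Nat.prime_three (orderOf_P hn8 (by decide +kernel)), finrank_V, show ev (ρ (P n l33)) 1 = 32 from h33]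
    norm_num
  have hrE : rE = [[], l3, l33] := by decide
  have h := dimC hn hG hC hl (K := 3) rfl hN hc ρ
  simp only [hrE, Finset.sum_range_succ, Finset.sum_range_zero, List.getD_cons_zero, List.getD_cons_succ, P_nil,
    e0, e3, e33] at h
  generalize finrank F ↥(inv ρ (Tg n g)) = a at *
  push_cast at h
  have : (a : ℚ) = 16 := by linarith
  exact_mod_cast this

end t2

section x
variable {F : Type u} [Field F] {n : ℕ} [NeZero n] {W : Type*} [AddCommGroup W] [Module F W]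
  (ρ : Representation F ↥(alternatingGroup (Fin n)) W)

theorem mem_inv_two {x y : List (ℕ × ℕ)} {v : W} : v ∈ inv ρ (Tg n [x, y]) ↔ ρ (P n x) v = v ∧ ρ (P n y) v = v := by
  unfold Tg
  rw [mem_inv_closure]
  constructor
  · intro h
    exact ⟨h _ ⟨x, by simp, rfl⟩, h _ ⟨y, by simp, rfl⟩⟩
  · rintro ⟨h1, h2⟩ _ ⟨g, hg, rfl⟩
    simp only [List.mem_cons, List.not_mem_nil, or_false] at hg
    rcases hg with rfl | rfl
    · exact h1
    · exact h2

theorem mem_inv_three {x y z : List (ℕ × ℕ)} {v : W} : v ∈ inv ρ (Tg n [x, y, z]) ↔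
    ρ (P n x) v = v ∧ ρ (P n y) v = v ∧ ρ (P n z) v = v := by
  unfold Tg
  rw [mem_inv_closure]
  constructor
  · intro h
    exact ⟨h _ ⟨x, by simp, rfl⟩, h _ ⟨y, by simp, rfl⟩, h _ ⟨z, by simp, rfl⟩⟩
  · rintro ⟨h1, h2, h3⟩ _ ⟨g, hg, rfl⟩
    simp only [List.mem_cons, List.not_mem_nil, or_false] at hg
    rcases hg with rfl | rfl | rfl
    · exact h1
    · exact h2
    · exact h3

/-- commuting words -/
theorem comm_of {m : ℕ} (hm : m ≤ n) {x y : List (ℕ × ℕ)} (hx : vl m x = true) (hy : vl m y = true)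
    (h : cd m (x ++ y) = cd m (y ++ x)) (v : W) : ρ (P n x) (ρ (P n y) v) = ρ (P n y) (ρ (P n x) v) := by
  rw [← Module.End.mul_apply, ← Module.End.mul_apply, ← map_mul, ← map_mul, ← P_append hm hx hy, ← P_append hm hy hx,
    (P_eq_iff hm (vl_append hx hy) (vl_append hy hx)).2 h]

/-- conjugate words -/
theorem conj_of {m : ℕ} (hm : m ≤ n) {x y g : List (ℕ × ℕ)} (hx : vl m x = true) (hy : vl m y = true) (hg : vl m g = true)
    (h : cd m (g ++ x) = cd m (y ++ g)) (v : W) : ρ (P n g) (ρ (P n x) v) = ρ (P n y) (ρ (P n g) v) := by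
  rw [← Module.End.mul_apply, ← Module.End.mul_apply, ← map_mul, ← map_mul, ← P_append hm hg hx, ← P_append hm hy hg,
    (P_eq_iff hm (vl_append hg hx) (vl_append hy hg)).2 h]

/-- the space `X` -/
noncomputable def XX : Submodule F W := es (ρ (P n la)) 1 ⊓ Z3 (ρ (P n lb))

variable {ρ}

theorem mem_XX {v : W} : v ∈ XX ρ ↔ ρ (P n la) v = v ∧ v + ρ (P n lb) v + ρ (P n lb) (ρ (P n lb) v) = 0 := by
  unfold XX
  rw [Submodule.mem_inf, mem_es, mem_Z3]

variable [FiniteDimensional F W] (h3 : (3 : F) ≠ 0) (hn : 10 ≤ n) (ha : ev (ρ (P n la)) 1 = 20)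
  (hE1 : finrank F ↥(inv ρ (Tg n gE1)) = 16) (hE2 : finrank F ↥(inv ρ (Tg n gE2)) = 16)
  (hB : finrank F ↥(inv ρ (Tg n gB27)) = 12)

include h3 hn ha hE1

theorem dim_XX : finrank F ↥(XX ρ) = 4 := by
  have hn9 : 9 ≤ n := by omega
  have hbc : ρ (P n lb) ^ 3 = 1 := by rw [← map_pow, P_pow_one hn9 (m := 9) (by decide) (by decide), map_one]
  have h := ker3 h3 hbc (M := es (ρ (P n la)) 1) (fun v hv => by
    rw [mem_es] at hv ⊢
    rw [comm_of ρ hn9 (x := la) (y := lb) (by decide) (by decide) (by decide), hv])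
  have h1 : es (ρ (P n la)) 1 ⊓ es (ρ (P n lb)) 1 = inv ρ (Tg n gE1) := by
    ext v
    rw [Submodule.mem_inf, mem_es, mem_es]
    exact ⟨fun h => (mem_inv_two ρ).2 ⟨h.2, h.1⟩, fun h => ⟨((mem_inv_two ρ).1 h).2, ((mem_inv_two ρ).1 h).1⟩⟩
  rw [h1, hE1] at h
  have h4 : finrank F ↥(es (ρ (P n la)) 1) = 20 := ha
  rw [h4] at h
  unfold XX
  omega

include hE2 hB

/-- `(678)` fixes `X` -/
theorem XX_c {v : W} (hv : v ∈ XX ρ) : ρ (P n lc) v = v := by
  have hn9 : 9 ≤ n := by omega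
  have hbc : ρ (P n lb) ^ 3 = 1 := by rw [← map_pow, P_pow_one hn9 (m := 9) (by decide) (by decide), map_one]
  have h := ker3 h3 hbc (M := es (ρ (P n la)) 1 ⊓ es (ρ (P n lc)) 1) (fun v hv => by
    rw [Submodule.mem_inf, mem_es, mem_es] at hv ⊢
    rw [comm_of ρ hn9 (x := la) (y := lb) (by decide) (by decide) (by decide), hv.1,
      comm_of ρ hn9 (x := lc) (y := lb) (by decide) (by decide) (by decide), hv.2]
    exact ⟨rfl, rfl⟩)
  have h1 : es (ρ (P n la)) 1 ⊓ es (ρ (P n lc)) 1 = inv ρ (Tg n gE2) := by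
    ext v
    rw [Submodule.mem_inf, mem_es, mem_es]
    exact (mem_inv_two ρ).symm
  have h2 : es (ρ (P n la)) 1 ⊓ es (ρ (P n lc)) 1 ⊓ es (ρ (P n lb)) 1 = inv ρ (Tg n gB27) := by
    ext v
    rw [Submodule.mem_inf, Submodule.mem_inf, mem_es, mem_es, mem_es]
    constructor
    · rintro ⟨⟨h1, h2⟩, h3⟩
      exact (mem_inv_three ρ).2 ⟨h3, h1, h2⟩
    · intro h
      obtain ⟨h1, h2, h3⟩ := (mem_inv_three ρ).1 h
      exact ⟨⟨h2, h3⟩, h1⟩
  rw [h2, hB, h1, hE2, ← h1] at h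
  have h5 : es (ρ (P n la)) 1 ⊓ es (ρ (P n lc)) 1 ⊓ Z3 (ρ (P n lb)) = XX ρ := by
    apply Submodule.eq_of_le_of_finrank_eq
    · unfold XX
      exact inf_le_inf_right _ inf_le_left
    · rw [dim_XX h3 hn ha hE1]
      omega
  rw [← h5] at hv
  exact mem_es.1 hv.1.2

/-- `(349)` fixes `X` -/
theorem XX_a' {v : W} (hv : v ∈ XX ρ) : ρ (P n la') v = v := by
  have hc := XX_c h3 hn ha hE1 hE2 hB hv
  rw [mem_XX] at hv
  -- the vector `g⁻¹ v`
  have hginv : ∀ w, ρ (P n lg) (ρ (P n lg)⁻¹ w) = w := fun w => by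
    rw [← Module.End.mul_apply, ← map_mul, mul_inv_cancel, map_one]; rfl
  have hginj : Function.Injective (ρ (P n lg)) := by
    intro x y hxy
    have h1 := congrArg (ρ (P n lg)⁻¹) hxy
    rwa [← Module.End.mul_apply, ← Module.End.mul_apply, ← map_mul, inv_mul_cancel, map_one] at h1
  set w := ρ (P n lg)⁻¹ v with hw
  have hgw : ρ (P n lg) w = v := hginv v
  have h1 : w ∈ XX ρ := by
    rw [mem_XX]
    constructor
    · apply hginj
      rw [conj_of ρ hn (x := la) (y := lc) (g := lg) (by decide) (by decide) (by decide) (by decide), hgw, hc]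
    · apply hginj
      rw [map_add, map_add, map_zero, conj_of ρ hn (x := lb) (y := lb) (g := lg) (by decide) (by decide) (by decide) (by decide),
        conj_of ρ hn (x := lb) (y := lb) (g := lg) (by decide) (by decide) (by decide) (by decide),
        conj_of ρ hn (x := lb) (y := lb) (g := lg) (by decide) (by decide) (by decide) (by decide), hgw]
      exact hv.2
  have h2 := XX_c h3 hn ha hE1 hE2 hB h1
  have h4 := congrArg (ρ (P n lg)) h2
  rw [conj_of ρ hn (x := lc) (y := la') (g := lg) (by decide) (by decide) (by decide) (by decide), hgw] at h4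
  exact h4

end x

end Cfsg.Agent.R2.T1.T2p
end
end

-- part: R2/T1/T2p/T2c
section
prune_inst 0x10000000000000
set_option linter.all false
open scoped Cfsg.Agent.FastGrp

-- part: R2/T1/T2p/T2b
section
/-!
# T1 (S5771, p = 2): the pattern (20, 32, 16, 20, *) for `n ≥ 10`, step 2 (helper25)

* `XX_fix` : the vectors of `XX` are fixed by all even permutations which fix 0, 1, 2;
* `eps_X` : `ε v = v` for `v ∈ XX`; `fix_d` : if moreover `(01)(34) v = v` then `(234) v = v`;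
* `exists_u` : a nonzero vector of `US ψ 0 1` with `v + (012) v + (021) v = 0`.
-/

set_option autoImplicit false
set_option maxRecDepth 100000

namespace Cfsg.Agent.R2.T1.T2p

open Cfsg Cfsg.Lie Module Equiv Equiv.Perm
open Cfsg.Agent.H943.E7V.Block (D1 rho)
open Cfsg.Agent.H952.F4 (ev es)
open Cfsg.Agent.R2.T1 Cfsg.Agent.R2.T1.Art Cfsg.Agent.R2.T1.Odd
open Cfsg.Agent.R2.T1.Msk (P_fix P_val Op eval Db Dt chkb chkt ee e3 e5 c1 c2 c2' c3 m2 h2 ha hb wd3 cd_wd3 sumM gv sumM_one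
  sumM_xor sms stps wok Op_cons Op_nil)

universe u

section fixX
variable {F : Type u} [Field F] {n : ℕ} [NeZero n] {W : Type*} [AddCommGroup W] [Module F W]
  {ρ : Representation F ↥(alternatingGroup (Fin n)) W}

theorem comm_disj {m : ℕ} (hm : m ≤ n) {G : ↥(alternatingGroup (Fin n))} {l : List (ℕ × ℕ)} (hl : vl m l = true)
    (hG : ∀ i : Fin n, i.val < m → (G : Perm (Fin n)) i = i) : G * P n l = P n l * G := by
  apply Subtype.ext
  have h : Disjoint (G : Perm (Fin n)) (P n l : Perm (Fin n)) := by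
    intro x
    by_cases hx : x.val < m
    · exact Or.inl (hG x hx)
    · exact Or.inr (P_fix hm hl (by omega))
  exact h.commute.eq

theorem rho_mul' (a b : ↥(alternatingGroup (Fin n))) (w : W) : ρ (a * b) w = ρ a (ρ b w) := by
  rw [map_mul, Module.End.mul_apply]

theorem rho_inv_fix {a : ↥(alternatingGroup (Fin n))} {w : W} (h : ρ a w = w) : ρ a⁻¹ w = w := by
  nth_rewrite 1 [← h]
  rw [← rho_mul', inv_mul_cancel, map_one]; rfl

theorem XX_act {G : ↥(alternatingGroup (Fin n))} (hn : 6 ≤ n) (hG : ∀ i : Fin n, i.val < 6 → (G : Perm (Fin n)) i = i) {v : W}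
    (hv : v ∈ XX ρ) : ρ G v ∈ XX ρ := by
  rw [mem_XX] at hv ⊢
  have h1 := comm_disj (m := 6) hn (G := G) (l := la) (by decide) hG
  have h2 := comm_disj (m := 6) hn (G := G) (l := lb) (by decide) hG
  have h2' : ∀ w, ρ (P n lb) (ρ G w) = ρ G (ρ (P n lb) w) := fun w => by rw [← rho_mul', ← h2, rho_mul']
  refine ⟨?_, ?_⟩
  · rw [← rho_mul', ← h1, rho_mul', hv.1]
  · rw [h2', h2', ← map_add, ← map_add, hv.2, map_zero]

variable [FiniteDimensional F W] (h3 : (3 : F) ≠ 0) (hn : 10 ≤ n) (ha : ev (ρ (P n la)) 1 = 20)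
  (hE1 : finrank F ↥(inv ρ (Tg n gE1)) = 16) (hE2 : finrank F ↥(inv ρ (Tg n gE2)) = 16)
  (hB : finrank F ↥(inv ρ (Tg n gB27)) = 12)

include h3 hn ha hE1 hE2 hB

theorem XX_fix {v : W} (hv : v ∈ XX ρ) {a : ↥(alternatingGroup (Fin n))} (h : ∀ i : Fin n, i.val < 3 → (a : Perm (Fin n)) i = i) :
    ρ a v = v := by
  let S : Subgroup ↥(alternatingGroup (Fin n)) :=
    { carrier := {a | ρ a v = v}
      one_mem' := by show ρ 1 v = v; rw [map_one]; rfl
      mul_mem' := by
        intro x y hx hy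
        show ρ (x * y) v = v
        rw [rho_mul', show ρ y v = v from hy]
        exact hx
      inv_mem' := fun hx => rho_inv_fix hx }
  have hS : ∀ a, a ∈ S ↔ ρ a v = v := fun a => Iff.rfl
  set p3 : Fin n := ⟨3, by omega⟩ with hp3
  set p4 : Fin n := ⟨4, by omega⟩ with hp4
  have h34 : p3 ≠ p4 := by simp [hp3, hp4]
  have hof : ∀ (k : ℕ) (hk : k < n), Fin.ofNat n k = ⟨k, hk⟩ := fun k hk => Fin.ext (val_ofNat' hk)
  have hinv : ∀ k : Fin n, k ≠ p3 → k ≠ p4 → swap p3 p4 * swap p3 k = (swap p3 p4 * swap p4 k)⁻¹ := by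
    intro k hk3 hk4
    rw [mul_inv_rev, swap_inv, swap_inv]
    have h2 := Equiv.mul_swap_eq_swap_mul (swap p3 p4) p3 k
    rw [swap_apply_left, swap_apply_of_ne_of_ne hk3 hk4] at h2
    exact h2
  rw [← hS]
  refine gen_alt S (fun i => 3 ≤ i.val) h34 (by show 3 ≤ 3; exact le_rfl) ?_ a (fun i hi => h i (by omega))
  intro k hk hk0 a hak
  have hk3 : k.val ≠ 3 := fun h => hk0 (Fin.ext h)
  by_cases hk4 : k = p4
  · have h1 : a = 1 := Subtype.ext (by rw [hak, hk4, swap_mul_self]; rfl)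
    rw [h1]; exact one_mem S
  have hk4' : k.val ≠ 4 := fun h => hk4 (Fin.ext h)
  by_cases hk5 : k.val = 5
  · have h1 : a = (P n la)⁻¹ := by
      apply Subtype.ext
      rw [hak, hinv k hk0 hk4]
      show _ = ((P n la : ↥(alternatingGroup (Fin n))) : Perm (Fin n))⁻¹
      rw [coe_P (m := 6) (by omega) (by decide)]
      unfold la
      rw [pm_cons, pm_cons, pm_nil, mul_one, hof 3 (by omega), hof 4 (by omega), hof 5 (by omega)]
      have : k = ⟨5, by omega⟩ := Fin.ext hk5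
      rw [this]
    rw [h1]
    exact inv_mem ((hS _).2 (mem_XX.1 hv).1)
  have hk6 : 6 ≤ k.val := by omega
  -- the vector is fixed by `(349)`
  set p9 : Fin n := ⟨9, by omega⟩ with hp9
  have hkey : ∀ w ∈ XX ρ, ρ (P n la') w = w := fun w hw => XX_a' h3 hn ha hE1 hE2 hB hw
  have hla' : ((P n la' : ↥(alternatingGroup (Fin n))) : Perm (Fin n)) = swap p3 p4 * swap p4 p9 := by
    rw [coe_P hn (by decide)]
    unfold la'
    rw [pm_cons, pm_cons, pm_nil, mul_one, hof 3 (by omega), hof 4 (by omega), hof 9 (by omega)]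
  by_cases hk9 : k = p9
  · have h1 : a = (P n la')⁻¹ := by
      apply Subtype.ext
      rw [hak, hinv k hk0 hk4, hk9]
      show _ = ((P n la' : ↥(alternatingGroup (Fin n))) : Perm (Fin n))⁻¹
      rw [hla']
    rw [h1]
    exact inv_mem ((hS _).2 (hkey v hv))
  obtain ⟨c, d, hcd, hck, hdk, hc6, hc9, hd6, hd9⟩ : ∃ c d : Fin n, c ≠ d ∧ c ≠ k ∧ d ≠ k ∧ 6 ≤ c.val ∧ c.val < 9 ∧ 6 ≤ d.val ∧
      d.val < 9 := by
    by_cases h6 : k.val = 6
    · exact ⟨⟨7, by omega⟩, ⟨8, by omega⟩, by simp, fun h => by rw [← h] at h6; simp at h6,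
        fun h => by rw [← h] at h6; simp at h6, by simp, by simp, by simp, by simp⟩
    · by_cases h7 : k.val = 7
      · exact ⟨⟨6, by omega⟩, ⟨8, by omega⟩, by simp, fun h => by rw [← h] at h7; simp at h7,
          fun h => by rw [← h] at h7; simp at h7, by simp, by simp, by simp, by simp⟩
      · exact ⟨⟨6, by omega⟩, ⟨7, by omega⟩, by simp, fun h => by rw [← h] at h6; simp at h6,
          fun h => by rw [← h] at h7; simp at h7, by simp, by simp, by simp, by simp⟩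
  have hGe : swap p9 k * swap c d ∈ alternatingGroup (Fin n) := by
    rw [mem_alternatingGroup, Perm.sign_mul, sign_swap (Ne.symm hk9), sign_swap hcd]
    decide
  set G : ↥(alternatingGroup (Fin n)) := ⟨swap p9 k * swap c d, hGe⟩ with hG
  have hval : ∀ x y : Fin n, x.val ≠ y.val → x ≠ y := fun x y h h' => h (by rw [h'])
  have hGfix : ∀ i : Fin n, i.val < 6 → (G : Perm (Fin n)) i = i := by
    intro i hi
    show swap p9 k (swap c d i) = i
    rw [swap_apply_of_ne_of_ne (a := c) (b := d) (hval _ _ (by omega)) (hval _ _ (by omega)),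
      swap_apply_of_ne_of_ne (a := p9) (b := k) (hval _ _ (by show i.val ≠ 9; omega)) (hval _ _ (by omega))]
  have hG9 : (G : Perm (Fin n)) p9 = k := by
    show swap p9 k (swap c d p9) = k
    rw [swap_apply_of_ne_of_ne (a := c) (b := d) (hval _ _ (by show 9 ≠ c.val; omega)) (hval _ _ (by show 9 ≠ d.val; omega)),
      swap_apply_left]
  have h1 : a = G * (P n la')⁻¹ * G⁻¹ := by
    rw [eq_mul_inv_iff_mul_eq]
    apply Subtype.ext
    show (a : Perm (Fin n)) * (G : Perm (Fin n)) = (G : Perm (Fin n)) * ((P n la' : ↥(alternatingGroup (Fin n))) : Perm (Fin n))⁻¹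
    have e4 : (G : Perm (Fin n)) p4 = p4 := hGfix p4 (by show 4 < 6; norm_num)
    have e3 : (G : Perm (Fin n)) p3 = p3 := hGfix p3 (by show 3 < 6; norm_num)
    have hc : ∀ x y, (G : Perm (Fin n)) * swap x y = swap ((G : Perm (Fin n)) x) ((G : Perm (Fin n)) y) * (G : Perm (Fin n)) :=
      fun x y => Equiv.mul_swap_eq_swap_mul _ _ _
    have hr : (G : Perm (Fin n)) * (swap p4 p9 * swap p3 p4) = swap p4 k * swap p3 p4 * (G : Perm (Fin n)) := by
      rw [← mul_assoc (G : Perm (Fin n)), hc, mul_assoc, hc, e3, e4, hG9, ← mul_assoc]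
    rw [hak, hinv k hk0 hk4, hla', mul_inv_rev, mul_inv_rev, swap_inv, swap_inv, swap_inv, hr]
  rw [h1, hS, rho_mul', rho_mul']
  have hGi : ρ G⁻¹ v ∈ XX ρ := XX_act (by omega) (fun i hi => by
    show (G : Perm (Fin n))⁻¹ i = i
    rw [Perm.inv_eq_iff_eq, hGfix i hi]) hv
  rw [rho_inv_fix (hkey _ hGi), ← rho_mul', mul_inv_cancel, map_one]
  rfl

end fixX

end Cfsg.Agent.R2.T1.T2p
end

-- part: R2/T1/T2p/T2c
section
/-!
# T1 (S5771, p = 2): the pattern (20, 32, 16, 20, *) for `n ≥ 10`, step 2 (helper25)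

* `eps_X` : `ε v = v` for `v ∈ XX`; `fix_d` : if moreover `(01)(34) v = v` then `(234) v = v`;
* `exists_u` : a nonzero vector fixed by all even permutations which fix 0 and 1, with `v + (012) v + (021) v = 0`.
-/

set_option autoImplicit false
set_option maxRecDepth 100000

namespace Cfsg.Agent.R2.T1.T2p

open Cfsg Cfsg.Lie Module Equiv Equiv.Perm
open Cfsg.Agent.H943.E7V.Block (D1 rho)
open Cfsg.Agent.H952.F4 (ev es)
open Cfsg.Agent.R2.T1 Cfsg.Agent.R2.T1.Art Cfsg.Agent.R2.T1.Odd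
open Cfsg.Agent.R2.T1.Msk (P_fix P_val Op eval Db Dt chkb chkt ee e3 e5 c1 c2 c2' c3 m2 h2 ha hb wd3 cd_wd3 sumM gv sumM_one
  sumM_xor sms stps wok Op_cons Op_nil Op_fix)

universe u

section eps
variable {F : Type u} [Field F] {n : ℕ} [NeZero n] {W : Type*} [AddCommGroup W] [Module F W]
  {ρ : Representation F ↥(alternatingGroup (Fin n)) W}

/-- `(01)(34)`, `(567)`, `(01234)`, `(01234)(567)`, `(234)` -/
def ltt : List (ℕ × ℕ) := [(0, 1), (3, 4)]
def l567 : List (ℕ × ℕ) := [(5, 6), (6, 7)]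
def lx : List (ℕ × ℕ) := [(0, 1), (1, 2), (2, 3), (3, 4)]
def l53 : List (ℕ × ℕ) := [(0, 1), (1, 2), (2, 3), (3, 4), (5, 6), (6, 7)]
def ld : List (ℕ × ℕ) := [(2, 3), (3, 4)]

theorem Dt_gens : Dt.gens = Db.gens := by decide

/-- operators commute with elements with disjoint support -/
theorem Op_comm (hn : 5 ≤ n) {G : ↥(alternatingGroup (Fin n))} (hG : ∀ i : Fin n, i.val < 5 → (G : Perm (Fin n)) i = i)
    (ws : List (List ℕ)) (v : W) : Op ρ Db.gens ws (ρ G v) = ρ G (Op ρ Db.gens ws v) := by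
  induction ws with
  | nil => rw [Op_nil, LinearMap.zero_apply, LinearMap.zero_apply, map_zero]
  | cons w ws ih =>
    rw [Op_cons, Op_cons, ih, map_add, ← rho_mul', ← rho_mul',
      comm_disj hn (G := G) (l := wd Db.gens w) (vl_wd (by decide) w) hG]

theorem Op_e3 (hn : 5 ≤ n) (v : W) : Op ρ Db.gens e3 v = v + ρ (P n lb) v + ρ (P n lb) (ρ (P n lb) v) := by
  unfold e3
  rw [Op_cons, Op_cons, Op_cons, Op_nil, LinearMap.zero_apply, add_zero]
  have h0 : wd Db.gens [] = [] := rfl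
  have h1 : wd Db.gens [0] = lb := by decide
  have h2 : wd Db.gens [0, 0] = lb ++ lb := by decide
  rw [h0, h1, h2, P_nil, map_one, P_append hn (m := 5) (by decide) (by decide), rho_mul', add_assoc]
  rfl

/-- the operator `θ` -/
noncomputable def Th (ρ : Representation F ↥(alternatingGroup (Fin n)) W) : W →ₗ[F] W :=
  (Op ρ Db.gens [[1, 1]] + Op ρ Db.gens e3 ∘ₗ Op ρ Db.gens [[1, 1]]) ∘ₗ Op ρ Db.gens ee

theorem Th_apply (v : W) : Th ρ v = Op ρ Db.gens [[1, 1]] (Op ρ Db.gens ee v) +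
    Op ρ Db.gens e3 (Op ρ Db.gens [[1, 1]] (Op ρ Db.gens ee v)) := rfl

section cert
variable (hn : 5 ≤ n) (h2' : ∀ w : W, w + w = 0) {v : W} (hv : ρ (P n lb) v = v)

include hn h2' hv

theorem f1 : Op ρ Db.gens e3 (Op ρ Db.gens e5 v) = v + Op ρ Db.gens ee v := by
  have h := sumM_one (ρ := ρ) (D := Db) (v := v) rfl
  have h1 : Op ρ Db.gens e3 (Op ρ Db.gens e5 (sumM (gv ρ Db v) 1)) = sumM (gv ρ Db v) 1 + Op ρ Db.gens ee (sumM (gv ρ Db v) 1) := by
    rw [eval hn h2' chkb hv (by decide), eval hn h2' chkb hv (by decide), eval hn h2' chkb hv (by decide), c1]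
    exact sumM_xor h2' _ _ _
  rw [h] at h1
  exact h1

theorem fTh : Th ρ v = sumM (gv ρ Db v) m2 := by
  have h := sumM_one (ρ := ρ) (D := Db) (v := v) rfl
  rw [Th_apply]
  nth_rewrite 1 [← h]
  nth_rewrite 2 [← h]
  rw [eval hn h2' chkb hv (by decide), eval hn h2' chkb hv (by decide), eval hn h2' chkb hv (by decide)]
  exact (sumM_xor h2' _ _ _).symm

theorem f2 : Op ρ Db.gens h2 (Th ρ v) = Op ρ Db.gens ee v := by
  have h := sumM_one (ρ := ρ) (D := Db) (v := v) rfl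
  rw [fTh hn h2' hv, eval hn h2' chkb hv (by decide), c2, ← eval hn h2' chkb hv (by decide), h]

theorem f3 : Op ρ Db.gens ee (Th ρ v) = Th ρ v := by
  rw [fTh hn h2' hv, eval hn h2' chkb hv (by decide), c2']

theorem f4 : Op ρ Db.gens e3 (Th ρ v) = 0 := by
  rw [fTh hn h2' hv, eval hn h2' chkb hv (by decide)]
  have : sms Db.tab e3 m2 = 0 := by decide +kernel
  rw [this, Msk.sumM_zero]

end cert

/-- `v + (234) v` -/
theorem f5 (hn : 5 ≤ n) (h2' : ∀ w : W, w + w = 0) {v : W} (ht : ρ (P n ltt) v = v)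
    (he : Op ρ Db.gens ee v = v) (hb3 : Op ρ Db.gens e3 v = 0) : ρ (P n ld) v = v := by
  have h := sumM_one (ρ := ρ) (D := Dt) (v := v) rfl
  have hev := fun (ws : List (List ℕ)) (hw : wok Dt ws = true) (a : ℕ) =>
    eval (ρ := ρ) (m := 5) hn h2' chkt ht (ws := ws) hw a
  have key := c3
  have h1 : sumM (gv ρ Dt v) (Nat.xor 1 (stps Dt.tab wd3 1)) = v + ρ (P n (wd Dt.gens wd3)) v := by
    have h3 : sumM (gv ρ Dt v) (Nat.xor 1 (stps Dt.tab wd3 1)) = sumM (gv ρ Dt v) 1 + sumM (gv ρ Dt v) (stps Dt.tab wd3 1) :=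
      sumM_xor h2' _ _ _
    rw [h3, h, ← Msk.word_spec hn h2' chkt ht (by decide), h]
  have h4 : sumM (gv ρ Dt v) (Nat.xor 1 (sms Dt.tab ee 1)) = v + Op ρ Dt.gens ee v := by
    have h3 : sumM (gv ρ Dt v) (Nat.xor 1 (sms Dt.tab ee 1)) = sumM (gv ρ Dt v) 1 + sumM (gv ρ Dt v) (sms Dt.tab ee 1) :=
      sumM_xor h2' _ _ _
    rw [h3, ← hev ee (by decide), h]
  have h5 : sumM (gv ρ Dt v) (sms Dt.tab e3 1) = Op ρ Dt.gens e3 v := by
    rw [← hev e3 (by decide), h]
  rw [key] at h1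
  have h6 : sumM (gv ρ Dt v) (Nat.xor (sms Dt.tab ha (Nat.xor 1 (sms Dt.tab ee 1))) (sms Dt.tab hb (sms Dt.tab e3 1))) =
      sumM (gv ρ Dt v) (sms Dt.tab ha (Nat.xor 1 (sms Dt.tab ee 1))) + sumM (gv ρ Dt v) (sms Dt.tab hb (sms Dt.tab e3 1)) :=
    sumM_xor h2' _ _ _
  rw [h6, ← hev ha (by decide), ← hev hb (by decide), h4, h5, Dt_gens, he, hb3, h2', map_zero, map_zero, add_zero] at h1
  have h7 : P n (wd Db.gens wd3) = P n ld := by
    rw [P_eq_iff hn (vl_wd (by decide) _) (by decide), ← Dt_gens]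
    exact cd_wd3
  rw [h7] at h1
  have h8 : -v = v := neg_eq_of_add_eq_zero_left (h2' v)
  exact (neg_eq_of_add_eq_zero_right h1.symm).symm.trans h8

end eps

section X
variable {F : Type u} [Field F] {n : ℕ} [NeZero n] {W : Type*} [AddCommGroup W] [Module F W]
  {ρ : Representation F ↥(alternatingGroup (Fin n)) W}
variable [FiniteDimensional F W] (h3 : (3 : F) ≠ 0) (h2' : ∀ w : W, w + w = 0) (hn : 10 ≤ n) (ha : ev (ρ (P n l567)) 1 = 20)
  (hE3 : finrank F ↥(inv ρ (Tg n gE3)) = 16) (h53 : ev (ρ (P n l53)) 1 ≤ 12)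

include h3 h2' hn ha hE3 h53

/-- `ε v = v` -/
theorem eps_Z {v : W} (hv : ρ (P n l567) v = v) (hv3 : v + ρ (P n lb) v + ρ (P n lb) (ρ (P n lb) v) = 0) :
    Op ρ Db.gens ee v = v := by
  have hn9 : 9 ≤ n := by omega
  have hn5 : 5 ≤ n := by omega
  set M' : Submodule F W := es (ρ (P n l567)) 1 with hM'
  set N : Submodule F W := M' ⊓ es (ρ (P n lb)) 1 with hN
  have hfix567 : ∀ i : Fin n, i.val < 5 → ((P n l567 : ↥(alternatingGroup (Fin n))) : Perm (Fin n)) i = i := by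
    intro i hi
    apply Fin.ext
    rw [P_val (m := 8) (by omega) (by decide)]
    have : i.val = 0 ∨ i.val = 1 ∨ i.val = 2 ∨ i.val = 3 ∨ i.val = 4 := by omega
    rcases this with h | h | h | h | h <;> rw [h] <;> decide
  have hOpM : ∀ (ws : List (List ℕ)) (w : W), w ∈ M' → Op ρ Db.gens ws w ∈ M' := by
    intro ws w hw
    rw [hM', mem_es] at hw ⊢
    rw [← Op_comm hn5 hfix567, hw]
  have hNdim : finrank F ↥N = 16 := by
    have h1 : N = inv ρ (Tg n gE3) := by
      ext w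
      rw [hN, hM', Submodule.mem_inf, mem_es, mem_es]
      exact ⟨fun h => (mem_inv_two ρ).2 ⟨h.2, h.1⟩, fun h => ⟨((mem_inv_two ρ).1 h).2, ((mem_inv_two ρ).1 h).1⟩⟩
    rw [h1, hE3]
  have hZdim : finrank F ↥(M' ⊓ Z3 (ρ (P n lb))) = 4 := by
    have hbc : ρ (P n lb) ^ 3 = 1 := by rw [← map_pow, P_pow_one hn9 (m := 9) (by decide) (by decide), map_one]
    have h := ker3 h3 hbc (M := M') (fun w hw => by
      rw [hM', mem_es] at hw ⊢
      rw [comm_of ρ hn9 (x := l567) (y := lb) (by decide) (by decide) (by decide), hw])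
    have h4 : finrank F ↥M' = 20 := ha
    rw [h4] at h
    have h5 : finrank F ↥(M' ⊓ es (ρ (P n lb)) 1) = 16 := hNdim
    omega
  -- the map `θ` on `N`
  let f : ↥N →ₗ[F] W := Th ρ ∘ₗ N.subtype
  have hf : ∀ w : ↥N, f w = Th ρ w := fun _ => rfl
  have hb : ∀ w : ↥N, ρ (P n lb) (w : W) = w := fun w => mem_es.1 w.2.2
  have h1 := LinearMap.finrank_range_add_finrank_ker f
  -- the kernel
  have hker : finrank F ↥(LinearMap.ker f) ≤ 12 := by
    have e1 : finrank F ↥(((LinearMap.ker f).map N.subtype).map (Op ρ Db.gens e5)) = finrank F ↥((LinearMap.ker f).map N.subtype) := by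
      refine T3.finrank_map _ _ fun w hw h0 => ?_
      obtain ⟨w', hw', rfl⟩ := hw
      have h4 := f1 hn5 h2' (hb w')
      have h0' : Op ρ Db.gens e5 (w' : W) = 0 := h0
      have h5 : Th ρ (w' : W) = 0 := LinearMap.mem_ker.1 hw'
      have h6 := f2 hn5 h2' (hb w')
      rw [h5, map_zero] at h6
      rw [h0', map_zero, ← h6, add_zero] at h4
      exact h4.symm
    have e2 : finrank F ↥((LinearMap.ker f).map N.subtype) = finrank F ↥(LinearMap.ker f) :=
      T3.finrank_map N.subtype _ fun w _ hw => Subtype.ext hw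
    have e3' : ((LinearMap.ker f).map N.subtype).map (Op ρ Db.gens e5) ≤ es (ρ (P n l53)) 1 := by
      rintro _ ⟨_, ⟨w', hw', rfl⟩, rfl⟩
      rw [mem_es]
      have h4 : P n l53 = P n lx * P n l567 := by
        have h5 : l53 = lx ++ l567 := rfl
        rw [h5, P_append hn9 (m := 9) (by decide) (by decide)]
      have h5 : Op ρ Db.gens e5 (w' : W) ∈ M' := hOpM _ _ w'.2.1
      have h6 : ρ (P n lx) (Op ρ Db.gens e5 (w' : W)) = Op ρ Db.gens e5 (w' : W) := by
        have h7 : e5 = (List.range 5).map fun k => List.replicate k 1 := by decide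
        rw [h7]
        exact Op_fix ρ hn9 (gens := Db.gens) (i := 1) (N := 5) (by decide) (by decide) _
      show ρ (P n l53) (Op ρ Db.gens e5 (w' : W)) = Op ρ Db.gens e5 (w' : W)
      rw [h4, rho_mul', mem_es.1 h5, h6]
    have h8 := Submodule.finrank_mono e3'
    rw [e1, e2] at h8
    exact h8.trans h53
  have hrange : LinearMap.range f ≤ M' ⊓ Z3 (ρ (P n lb)) := by
    rintro _ ⟨w, rfl⟩
    refine ⟨?_, mem_Z3.2 ?_⟩
    · rw [hf, Th_apply]
      exact M'.add_mem (hOpM _ _ (hOpM _ _ w.2.1)) (hOpM _ _ (hOpM _ _ (hOpM _ _ w.2.1)))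
    · rw [hf, ← Op_e3 hn5, f4 hn5 h2' (hb w)]
  have hle := Submodule.finrank_mono hrange
  have heq : LinearMap.range f = M' ⊓ Z3 (ρ (P n lb)) := by
    apply Submodule.eq_of_le_of_finrank_le hrange
    rw [hZdim]
    rw [hNdim] at h1
    omega
  have hvZ : v ∈ M' ⊓ Z3 (ρ (P n lb)) := ⟨mem_es.2 hv, mem_Z3.2 hv3⟩
  rw [← heq] at hvZ
  obtain ⟨w, rfl⟩ := hvZ
  exact f3 hn5 h2' (hb w)

end X

end Cfsg.Agent.R2.T1.T2p
end
end

-- part: R2/T1/T2p/T2e
section
set_option linter.all false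
open scoped Cfsg.Agent.FastGrp

-- part: R2/T1/T2p/T2d
section
/-!
# T1 (S5771, p = 2): the pattern (20, 32, 16, 20, *) for `n ≥ 10`, step 2 (helper25)

* `exists_u` : a nonzero vector fixed by all even permutations which fix 0 and 1, with `v + (012) v + (021) v = 0`.
-/

set_option autoImplicit false
set_option maxRecDepth 100000

namespace Cfsg.Agent.R2.T1.T2p

open Cfsg Cfsg.Lie Module Equiv Equiv.Perm
open Cfsg.Agent.H943.E7V.Block (D1 rho)
open Cfsg.Agent.H952.F4 (ev es)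
open Cfsg.Agent.R2.T1 Cfsg.Agent.R2.T1.Art Cfsg.Agent.R2.T1.Odd
open Cfsg.Agent.R2.T1.Msk (P_fix P_val Op Db e3 ee)

universe u

section X
variable {F : Type u} [Field F] {n : ℕ} [NeZero n] {W : Type*} [AddCommGroup W] [Module F W]
  {ρ : Representation F ↥(alternatingGroup (Fin n)) W}

theorem lb_pow (hn : 10 ≤ n) (v : W) : ρ (P n lb) (ρ (P n lb) (ρ (P n lb) v)) = v := by
  have h : P n lb * (P n lb * P n lb) = 1 := by
    rw [← P_append (m := 5) (by omega) (l := lb) (l' := lb) (by decide) (by decide),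
      ← P_append (m := 5) (by omega) (l := lb) (l' := lb ++ lb) (by decide) (by decide),
      (P_eq_iff (m := 5) (by omega) (l := lb ++ (lb ++ lb)) (l' := []) (by decide) (by decide)).2 (by decide), P_nil]
  rw [← rho_mul', ← rho_mul', mul_assoc, h, map_one]
  rfl

theorem XX_t (hn : 10 ≤ n) {v : W} (hv : v ∈ XX ρ) : ρ (P n ltt) v ∈ XX ρ := by
  rw [mem_XX] at hv ⊢
  have h1 : ∀ w, ρ (P n la) (ρ (P n ltt) w) = ρ (P n ltt) (ρ (P n la) (ρ (P n la) w)) := by
    intro w
    rw [← rho_mul', ← rho_mul', ← rho_mul', mul_assoc (P n ltt), ← P_append (m := 6) (by omega) (l := la) (l' := ltt) (by decide) (by decide),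
      ← P_append (m := 6) (by omega) (l := la) (l' := la) (by decide) (by decide),
      ← P_append (m := 6) (by omega) (l := ltt) (l' := la ++ la) (by decide) (by decide),
      (P_eq_iff (m := 6) (by omega) (l := la ++ ltt) (l' := ltt ++ (la ++ la)) (by decide) (by decide)).2 (by decide)]
  have h2 : ∀ w, ρ (P n lb) (ρ (P n ltt) w) = ρ (P n ltt) (ρ (P n lb) (ρ (P n lb) w)) := by
    intro w
    rw [← rho_mul', ← rho_mul', ← rho_mul', mul_assoc (P n ltt), ← P_append (m := 6) (by omega) (l := lb) (l' := ltt) (by decide) (by decide),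
      ← P_append (m := 6) (by omega) (l := lb) (l' := lb) (by decide) (by decide),
      ← P_append (m := 6) (by omega) (l := ltt) (l' := lb ++ lb) (by decide) (by decide),
      (P_eq_iff (m := 6) (by omega) (l := lb ++ ltt) (l' := ltt ++ (lb ++ lb)) (by decide) (by decide)).2 (by decide)]
  refine ⟨by rw [h1, hv.1, hv.1], ?_⟩
  rw [h2, h2, lb_pow hn, ← map_add, ← map_add]
  have h3 : v + ρ (P n lb) (ρ (P n lb) v) + ρ (P n lb) v = 0 := by
    rw [← hv.2]; abel
  rw [h3, map_zero]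

variable [FiniteDimensional F W] (h3 : (3 : F) ≠ 0) (h2' : ∀ w : W, w + w = 0) (hn : 10 ≤ n)
  (hla : ev (ρ (P n la)) 1 = 20) (h567 : ev (ρ (P n l567)) 1 = 20)
  (hE1 : finrank F ↥(inv ρ (Tg n gE1)) = 16) (hE2 : finrank F ↥(inv ρ (Tg n gE2)) = 16)
  (hE3 : finrank F ↥(inv ρ (Tg n gE3)) = 16) (hB : finrank F ↥(inv ρ (Tg n gB27)) = 12)
  (h53 : ev (ρ (P n l53)) 1 ≤ 12)

include h3 h2' hn hla h567 hE1 hE2 hE3 hB h53

theorem exists_u : ∃ u : W, u ≠ 0 ∧ (∀ a : ↥(alternatingGroup (Fin n)), (∀ i : Fin n, i.val < 2 → (a : Perm (Fin n)) i = i) →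
    ρ a u = u) ∧ u + ρ (P n lb) u + ρ (P n lb) (ρ (P n lb) u) = 0 := by
  have hn5 : 5 ≤ n := by omega
  have hX : XX ρ ≠ ⊥ := by
    intro h
    have h1 := dim_XX (ρ := ρ) h3 hn hla hE1
    rw [h, finrank_bot] at h1
    omega
  obtain ⟨v, hv, hv0⟩ := Submodule.exists_mem_ne_zero_of_ne_bot hX
  have htt : ∀ w, ρ (P n ltt) (ρ (P n ltt) w) = w := by
    intro w
    rw [← rho_mul', ← P_append (m := 5) (by omega) (l := ltt) (l' := ltt) (by decide) (by decide),
      (P_eq_iff (m := 5) (by omega) (l := ltt ++ ltt) (l' := []) (by decide) (by decide)).2 (by decide), P_nil, map_one]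
    rfl
  obtain ⟨u, hu, hu0, hut⟩ : ∃ u ∈ XX ρ, u ≠ 0 ∧ ρ (P n ltt) u = u := by
    by_cases h : ρ (P n ltt) v = v
    · exact ⟨v, hv, hv0, h⟩
    · refine ⟨v + ρ (P n ltt) v, (XX ρ).add_mem hv (XX_t hn hv), ?_, ?_⟩
      · intro h0
        apply h
        rw [← (neg_eq_of_add_eq_zero_right h0)]
        exact neg_eq_of_add_eq_zero_left (h2' v)
      · rw [map_add, htt]
        exact add_comm _ _
  have hfix3 : ∀ a : ↥(alternatingGroup (Fin n)), (∀ i : Fin n, i.val < 3 → (a : Perm (Fin n)) i = i) → ρ a u = u :=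
    fun a ha => XX_fix h3 hn hla hE1 hE2 hB hu ha
  have hu3 := (mem_XX.1 hu).2
  have h567' : ρ (P n l567) u = u := hfix3 _ (by
    intro i hi
    apply Fin.ext
    rw [P_val (m := 8) (by omega) (by decide)]
    have : i.val = 0 ∨ i.val = 1 ∨ i.val = 2 := by omega
    rcases this with h | h | h <;> rw [h] <;> decide)
  have heps := eps_Z h3 h2' hn h567 hE3 h53 h567' hu3
  have hd : ρ (P n ld) u = u := f5 hn5 h2' hut heps (by rw [Op_e3 hn5]; exact hu3)
  refine ⟨u, hu0, ?_, hu3⟩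
  intro a ha
  let S : Subgroup ↥(alternatingGroup (Fin n)) :=
    { carrier := {a | ρ a u = u}
      one_mem' := by show ρ 1 u = u; rw [map_one]; rfl
      mul_mem' := by
        intro x y hx hy
        show ρ (x * y) u = u
        rw [rho_mul', show ρ y u = u from hy]
        exact hx
      inv_mem' := fun hx => rho_inv_fix hx }
  set p3 : Fin n := ⟨3, by omega⟩ with hp3
  set p4 : Fin n := ⟨4, by omega⟩ with hp4
  have h34 : p3 ≠ p4 := by simp [hp3, hp4]
  have hof : ∀ (k : ℕ) (hk : k < n), Fin.ofNat n k = ⟨k, hk⟩ := fun k hk => Fin.ext (val_ofNat' hk)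
  have hval : ∀ x y : Fin n, x.val ≠ y.val → x ≠ y := fun x y h h' => h (by rw [h'])
  show a ∈ S
  refine gen_alt S (fun i => 2 ≤ i.val) h34 (by show 2 ≤ 3; norm_num) ?_ a (fun i hi => ha i (by omega))
  intro k hk hk0 a hak
  by_cases hk4 : k = p4
  · have h1 : a = 1 := Subtype.ext (by rw [hak, hk4, swap_mul_self]; rfl)
    rw [h1]; exact one_mem S
  by_cases hk2 : k.val = 2
  · have hk' : k = ⟨2, by omega⟩ := Fin.ext hk2
    have h1 : a = (P n ld)⁻¹ := by
      apply Subtype.ext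
      rw [hak]
      show _ = ((P n ld : ↥(alternatingGroup (Fin n))) : Perm (Fin n))⁻¹
      rw [coe_P (m := 6) (by omega) (by decide)]
      unfold ld
      rw [pm_cons, pm_cons, pm_nil, mul_one, hof 2 (by omega), hof 3 (by omega), hof 4 (by omega), mul_inv_rev, swap_inv,
        swap_inv, hk', swap_comm p3 ⟨2, by omega⟩]
    rw [h1]
    exact inv_mem hd
  · apply hfix3
    intro i hi
    rw [hak, Perm.mul_apply]
    have hk3 : k.val ≠ 3 := fun h => hk0 (Fin.ext h)
    rw [swap_apply_of_ne_of_ne (a := p3) (b := k) (hval _ _ (by show i.val ≠ 3; omega)) (hval _ _ (by omega)),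
      swap_apply_of_ne_of_ne (a := p3) (b := p4) (hval _ _ (by show i.val ≠ 3; omega)) (hval _ _ (by show i.val ≠ 4; omega))]

end X

end Cfsg.Agent.R2.T1.T2p
end

-- part: R2/T1/T2p/T2e
section
/-!
# T1 (S5771, p = 2): the pattern (20, 32, 16, 20, *) for `n ≥ 10`, step 3 (helper25)

* `Phi_zero` : the combination of the values of the moment map vanishes;
* `heq_T2` : the values of the moment map at the translates are equal;
* `n_le` : `n ≤ 22`;
* `t2_false`.
-/

set_option autoImplicit false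
set_option maxRecDepth 100000

namespace Cfsg.Agent.R2.T1.T2p

open Cfsg Cfsg.Lie Module Equiv Equiv.Perm
open Cfsg.Agent.H943.E7V.Block (D1 rho)
open Cfsg.Agent.H952.F4 (ev es MaxAlt)
open Cfsg.Agent.R2.T1 Cfsg.Agent.R2.T1.Art Cfsg.Agent.R2.T1.Odd Cfsg.Agent.R2.T1.Mu2 Cfsg.Agent.R2.PX
open Cfsg.Agent.R2.T1.Msk (P_fix P_val)

universe u

section phi
variable {F : Type u} [Field F]

/-- the combination of the values of the moment map -/
noncomputable def PhiF (x : Gh F) (ω : AlgebraicClosure F) (w : D1 → F) (z : chevE7.Idx → F) : AlgebraicClosure F :=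
  algebraMap F (AlgebraicClosure F) (Mu F w z) + ω * algebraMap F (AlgebraicClosure F) (Mu F (V F x w) z) +
    ω ^ 2 * algebraMap F (AlgebraicClosure F) (Mu F (V F x (V F x w)) z)

theorem V_comm {x g : Gh F} (hg : g * x = x * g) (w : D1 → F) : V F x (V F g w) = V F g (V F x w) := by
  rw [← V_mul, ← V_mul, hg]

theorem Mu_L (g : Gh F) (w : D1 → F) (z : chevE7.Idx → F) : Mu F (V F g w) z = Mu F w (L F g⁻¹ z) := by
  rw [Mu_V', LinearMap.comp_apply]

theorem PhiF_comm {x g : Gh F} (hg : g * x = x * g) (ω : AlgebraicClosure F) (w : D1 → F) (z : chevE7.Idx → F) :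
    PhiF x ω (V F g w) z = PhiF x ω w (L F g⁻¹ z) := by
  unfold PhiF
  rw [V_comm hg, V_comm hg, Mu_L g w, Mu_L g (V F x w), Mu_L g (V F x (V F x w))]

theorem PhiF_x {x : Gh F} (hx : x ^ 3 = 1) {ω : AlgebraicClosure F} (hω : ω ^ 2 + ω + 1 = 0) (w : D1 → F) (z : chevE7.Idx → F) :
    PhiF x ω (V F x w) z = ω ^ 2 * PhiF x ω w z := by
  have hω3 : ω ^ 3 = 1 := by linear_combination (ω - 1) * hω
  have e1 : V F x (V F x (V F x w)) = w := by
    rw [← V_mul, ← V_mul]
    have h : x * x * x = 1 := by rw [← hx, pow_succ, pow_two]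
    rw [h, V_one]
  unfold PhiF
  rw [e1]
  generalize algebraMap F (AlgebraicClosure F) (Mu F w z) = m0
  generalize algebraMap F (AlgebraicClosure F) (Mu F (V F x w) z) = m1
  generalize algebraMap F (AlgebraicClosure F) (Mu F (V F x (V F x w)) z) = m2
  linear_combination (-m1 - ω * m2) * hω3

/-- **the combination vanishes** -/
theorem Phi_zero [Finite F] (h2 : (2 : F) = 0) {x a b s : Gh F} (hx : x ^ 3 = 1) (h32 : ev (V F x) 1 = 32)
    (hbx : b * x = x * b) (hsx : s * x = x * s) (hbs : b * s = s * a) {u : D1 → F}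
    (hbu : V F b u = u) (hxu : V F x u = V F a u) (h0 : u + V F x u + V F x (V F x u) = 0) :
    ∃ ω : AlgebraicClosure F, ω ^ 2 + ω + 1 = 0 ∧ ∀ z, PhiF x ω u z = 0 := by
  obtain ⟨ω, l, hω, hl⟩ := line_F h2 hx h32
  refine ⟨ω, hω, ?_⟩
  have h2K : (2 : AlgebraicClosure F) = 0 := by
    have h := congrArg (algebraMap F (AlgebraicClosure F)) h2
    rwa [map_ofNat, map_zero] at h
  have hω1 : ω ^ 2 ≠ 1 := by
    intro h
    have h3 : ω = 0 := by linear_combination hω - h - h2K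
    rw [h3] at hω
    norm_num at hω
  obtain ⟨q1, hq1⟩ := hl u h0
  have hs0 : V F s u + V F x (V F s u) + V F x (V F x (V F s u)) = 0 := by
    rw [V_comm hsx, V_comm hsx, ← map_add, ← map_add, h0, map_zero]
  obtain ⟨q2, hq2⟩ := hl (V F s u) hs0
  have hq1' : ∀ z, PhiF x ω u z = q1 * l z := hq1
  have hq2' : ∀ z, PhiF x ω (V F s u) z = q2 * l z := hq2
  by_contra hcon
  push Not at hcon
  obtain ⟨z0, hz0'⟩ := hcon
  have hq10 : q1 ≠ 0 := by
    intro h
    rw [hq1', h, zero_mul] at hz0'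
    exact hz0' rfl
  have hl0 : l z0 ≠ 0 := by
    intro h
    rw [hq1', h, mul_zero] at hz0'
    exact hz0' rfl
  have hq20 : q2 ≠ 0 := by
    intro h
    have h1 := PhiF_comm hsx ω u (L F s z0)
    have h3 : L F s⁻¹ (L F s z0) = z0 := by
      rw [← Module.End.mul_apply, ← map_mul, inv_mul_cancel, map_one]; rfl
    rw [h3, hq2', h, zero_mul] at h1
    exact hz0' h1.symm
  have k1 : ∀ z, l (L F b⁻¹ z) = l z := by
    intro z
    have h1 := PhiF_comm hbx ω u z
    rw [hbu, hq1', hq1'] at h1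
    exact (mul_left_cancel₀ hq10 h1).symm
  have k2 : ∀ z, l (L F b⁻¹ z) = ω ^ 2 * l z := by
    intro z
    have h1 := PhiF_comm hbx ω (V F s u) z
    have h3 : V F b (V F s u) = V F x (V F s u) := by
      rw [V_comm hsx, ← V_mul, hbs, V_mul, hxu]
    rw [h3, PhiF_x hx hω, hq2', hq2'] at h1
    have h4 : q2 * (ω ^ 2 * l z) = q2 * l (L F b⁻¹ z) := by rw [← h1]; ring
    exact (mul_left_cancel₀ hq20 h4).symm
  have h5 := k2 z0
  rw [k1] at h5
  apply hω1
  have h6 : (1 : AlgebraicClosure F) * l z0 = ω ^ 2 * l z0 := by rw [one_mul]; exact h5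
  exact (mul_right_cancel₀ hl0 h6).symm

end phi

/-- `(012)(345)`, `(03)(14)(25)(67)` -/
def lxx : List (ℕ × ℕ) := [(0, 1), (1, 2), (3, 4), (4, 5)]
def lss : List (ℕ × ℕ) := [(0, 3), (1, 4), (2, 5), (6, 7)]

section heq
variable {F : Type u} [Field F] {n : ℕ} [NeZero n] {ψ : ↥(alternatingGroup (Fin n)) →* Gh F}

theorem word_eq {m : ℕ} (hm : m ≤ n) {x y z w : List (ℕ × ℕ)} (hx : vl m x = true) (hy : vl m y = true) (hz : vl m z = true)
    (hw : vl m w = true) (h : cd m (x ++ y) = cd m (z ++ w)) : ψ (P n x) * ψ (P n y) = ψ (P n z) * ψ (P n w) := by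
  rw [← map_mul, ← map_mul, ← P_append hm hx hy, ← P_append hm hz hw,
    (P_eq_iff hm (vl_append hx hy) (vl_append hz hw)).2 h]

theorem P_at {m : ℕ} (hm : m ≤ n) {l : List (ℕ × ℕ)} (h : vl m l = true) {i j : Fin n} (hij : ap l i.val = j.val) :
    ((P n l : ↥(alternatingGroup (Fin n))) : Perm (Fin n)) i = j :=
  Fin.ext ((P_val hm h i).trans hij)

/-- **the values of the moment map are equal** -/
theorem heq_T2 [Finite F] (h2 : (2 : F) = 0) (hn : 10 ≤ n) (h32 : ev (V F (ψ (P n lxx))) 1 = 32) {o p q : Fin n}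
    (ho : o.val = 0) (hp : p.val = 1) (hq : q.val = 2) {u : D1 → F} (hu : u ∈ US ψ o p)
    (h0 : u + V F (ψ (P n lb)) u + V F (ψ (P n lb)) (V F (ψ (P n lb)) u) = 0) :
    W ψ o p u o p + W ψ o p u p q + W ψ o p u q o = 0 ∧ Mu F (W ψ o p u o p) = Mu F (W ψ o p u p q) := by
  have hn8 : 8 ≤ n := by omega
  have hop : o ≠ p := fun h => by rw [h, hp] at ho; omega
  have hoq : o ≠ q := fun h => by rw [h, hq] at ho; omega
  have hpq : p ≠ q := fun h => by rw [h, hq] at hp; omega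
  -- the translates
  have w1 : V F (ψ (P n lb)) u = W ψ o p u p q := W_eq hu
    (P_at (m := 8) hn8 (by decide) (by rw [ho, hp]; decide)) (P_at (m := 8) hn8 (by decide) (by rw [hp, hq]; decide))
  have w2 : V F (ψ (P n lb)) (V F (ψ (P n lb)) u) = W ψ o p u q o := by
    rw [w1, W_act (by omega) hop hu _ hpq, P_at (m := 8) hn8 (i := p) (j := q) (by decide) (by rw [hp, hq]; decide),
      P_at (m := 8) hn8 (i := q) (j := o) (by decide) (by rw [ho, hq]; decide)]
  have hself : W ψ o p u o p = u := W_self hu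
  have hT0 : W ψ o p u o p + W ψ o p u p q + W ψ o p u q o = 0 := by rw [hself, ← w1, ← w2]; exact h0
  have hT : ∀ i j k : Fin n, i ≠ j → j ≠ k → i ≠ k → W ψ o p u i j + W ψ o p u j k + W ψ o p u k i = 0 :=
    fun i j k h1 h3 h4 => tri (by omega) hop hu hoq hpq hT0 h1 h3 h4
  have hsym : ∀ i j : Fin n, i ≠ j → W ψ o p u i j = W ψ o p u j i := fun i j h => W_symm h2 (by omega) hT h
  refine ⟨hT0, ?_⟩
  -- the elements
  have hbu : V F (ψ (P n la)) u = u := hu _
    (P_at (m := 8) hn8 (by decide) (by rw [ho]; decide)) (P_at (m := 8) hn8 (by decide) (by rw [hp]; decide))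
  have hxab : ψ (P n lxx) = ψ (P n lb) * ψ (P n la) := by
    rw [← map_mul, ← P_append hn8 (by decide) (by decide)]
    rfl
  have hab : ψ (P n lb) * ψ (P n la) = ψ (P n la) * ψ (P n lb) :=
    word_eq hn8 (by decide) (by decide) (by decide) (by decide) (by decide)
  have hxu : V F (ψ (P n lxx)) u = V F (ψ (P n lb)) u := by rw [hxab, V_mul, hbu]
  have hxu2 : V F (ψ (P n lxx)) (V F (ψ (P n lxx)) u) = V F (ψ (P n lb)) (V F (ψ (P n lb)) u) := by
    rw [hxu, hxab, V_mul, ← V_mul (ψ (P n la)), ← hab, V_mul, hbu]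
  obtain ⟨ω, hω, hΦ⟩ := Phi_zero h2 (x := ψ (P n lxx)) (a := ψ (P n lb)) (b := ψ (P n la)) (s := ψ (P n lss))
    (by rw [← map_pow, P_pow_one hn8 (m := 8) (by decide) (by decide), map_one]) h32
    (word_eq hn8 (by decide) (by decide) (by decide) (by decide) (by decide))
    (word_eq hn8 (by decide) (by decide) (by decide) (by decide) (by decide))
    (word_eq hn8 (by decide) (by decide) (by decide) (by decide) (by decide)) hbu hxu (by rw [hxu2, hxu]; exact h0)
  have h2K : (2 : AlgebraicClosure F) = 0 := by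
    have h := congrArg (algebraMap F (AlgebraicClosure F)) h2
    rwa [map_ofNat, map_zero] at h
  refine LinearMap.ext fun z => ?_
  have hΦ' : ∀ z, algebraMap F (AlgebraicClosure F) (Mu F u z) + ω * algebraMap F (AlgebraicClosure F) (Mu F (W ψ o p u p q) z) +
      ω ^ 2 * algebraMap F (AlgebraicClosure F) (Mu F (W ψ o p u q o) z) = 0 := by
    intro z
    have h := hΦ z
    unfold PhiF at h
    rw [hxu2, hxu, w2, w1] at h
    exact h
  have e1 := hΦ' z
  -- the element `(01)(34)`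
  set t := ψ (P n ltt) with ht
  have t1 : V F t u = u := by
    have h3 := W_act (by omega) hop hu (P n ltt) hop
    rw [hself, P_at (m := 8) hn8 (i := o) (j := p) (by decide) (by rw [ho, hp]; decide),
      P_at (m := 8) hn8 (i := p) (j := o) (by decide) (by rw [ho, hp]; decide), hsym p o hop.symm, hself] at h3
    exact h3
  have t2 : V F t (W ψ o p u p q) = W ψ o p u q o := by
    rw [W_act (by omega) hop hu (P n ltt) hpq, P_at (m := 8) hn8 (i := p) (j := o) (by decide) (by rw [ho, hp]; decide),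
      P_at (m := 8) hn8 (i := q) (j := q) (by decide) (by rw [hq]; decide), hsym o q hoq]
  have t3 : V F t (W ψ o p u q o) = W ψ o p u p q := by
    rw [W_act (by omega) hop hu (P n ltt) hoq.symm, P_at (m := 8) hn8 (i := o) (j := p) (by decide) (by rw [ho, hp]; decide),
      P_at (m := 8) hn8 (i := q) (j := q) (by decide) (by rw [hq]; decide), hsym q p hpq.symm]
  have e2 := hΦ' (L F t⁻¹ z)
  rw [← Mu_L, ← Mu_L, ← Mu_L, t1, t2, t3] at e2
  rw [hself]
  exact phi_eq h2K (algebraMap F (AlgebraicClosure F)) hω e1 e2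

end heq

end Cfsg.Agent.R2.T1.T2p
end
end

-- part: R2/T1/T2p/T2f
section
prune_inst 0x10000000000000
set_option linter.all false
open scoped Cfsg.Agent.FastGrp

/-!
# T1 (S5771, p = 2): the pattern (20, 32, 16, 20, *) for `n ≥ 10` (helper25)

* `n_le` : `n ≤ 22`;
* `t2_false`.
-/

set_option autoImplicit false
set_option maxRecDepth 100000

namespace Cfsg.Agent.R2.T1.T2p

open Cfsg Cfsg.Lie Module Equiv Equiv.Perm
open Cfsg.Agent.H943.E7V.Block (D1 rho)
open Cfsg.Agent.H952.F4 (ev es MaxAlt)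
open Cfsg.Agent.R2.T1 Cfsg.Agent.R2.T1.Art Cfsg.Agent.R2.T1.Odd Cfsg.Agent.R2.T1.Mu2 Cfsg.Agent.R2.PX
open Cfsg.Agent.R2.T1.Msk (P_fix P_val three_ne)
open Cfsg.Agent.R2.T1.Pat2 (ct_P)

universe u

section nle
variable {F : Type u} [Field F] {n : ℕ} [NeZero n] {ψ : ↥(alternatingGroup (Fin n)) →* Gh F}

/-- **`n ≤ 22`** -/
theorem n_le (h2 : (2 : F) = 0) (hn : 10 ≤ n) (h5 : ev (V F (ψ (P n lx))) 1 = 16) {o p : Fin n}
    (ho : o.val = 0) (hp : p.val = 1) {u : D1 → F} (hu : u ∈ US ψ o p) (hu0 : u ≠ 0)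
    (hT : ∀ i j k : Fin n, i ≠ j → j ≠ k → i ≠ k → W ψ o p u i j + W ψ o p u j k + W ψ o p u k i = 0) : n ≤ 22 := by
  have hop : o ≠ p := fun h => by rw [h, hp] at ho; omega
  have hval : ∀ x y : Fin n, x.val ≠ y.val → x ≠ y := fun x y h h' => h (by rw [h'])
  have hsym : ∀ i j : Fin n, i ≠ j → W ψ o p u i j = W ψ o p u j i := fun i j h => W_symm h2 (by omega) hT h
  have hne : ∀ i j : Fin n, i ≠ j → W ψ o p u i j ≠ 0 := by
    intro i j hij h
    obtain ⟨a, a1, a2⟩ := exists_even2 (n := n) (by omega) hop hij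
    have h1 := W_eq hu a1 a2
    rw [h] at h1
    apply hu0
    have h3 : V F (ψ a)⁻¹ (V F (ψ a) u) = u := by rw [← V_mul, inv_mul_cancel, V_one]
    rw [← h3, h1, map_zero]
  set p5 : Fin n := ⟨5, by omega⟩ with hp5
  let w : Fin (n - 6) → Fin n := fun k => ⟨k.val + 6, by omega⟩
  let v : Fin (n - 6) → (D1 → F) := fun k => W ψ o p u p5 (w k)
  have hw5 : ∀ k, p5 ≠ w k := fun k => hval _ _ (by show 5 ≠ k.val + 6; omega)
  have hmem : ∀ k, v k ∈ es (V F (ψ (P n lx))) 1 := by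
    intro k
    rw [mem_es]
    show V F (ψ (P n lx)) (W ψ o p u p5 (w k)) = W ψ o p u p5 (w k)
    rw [W_act (by omega) hop hu _ (hw5 k), P_fix (m := 5) (by omega) (by decide) (by show 5 ≤ 5; exact le_rfl),
      P_fix (m := 5) (by omega) (by decide) (by show 5 ≤ k.val + 6; omega)]
  have hli : LinearIndependent F v := by
    rw [linearIndependent_iff']
    intro s g hs i hi
    have hio : w i ≠ o := hval _ _ (by rw [ho]; show i.val + 6 ≠ 0; omega)
    have hip : w i ≠ p := hval _ _ (by rw [hp]; show i.val + 6 ≠ 1; omega)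
    have hev : swap (w i) o * swap o p ∈ alternatingGroup (Fin n) := by
      rw [mem_alternatingGroup, Perm.sign_mul, sign_swap hio, sign_swap hop]
      decide
    set γ : ↥(alternatingGroup (Fin n)) := ⟨swap (w i) o * swap o p, hev⟩ with hγ
    have hγi : (γ : Perm (Fin n)) (w i) = o := by
      show swap (w i) o (swap o p (w i)) = o
      rw [swap_apply_of_ne_of_ne hio hip, swap_apply_left]
    have hγj : ∀ j : Fin n, j ≠ w i → j ≠ o → j ≠ p → (γ : Perm (Fin n)) j = j := by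
      intro j h1 h3 h4
      show swap (w i) o (swap o p j) = j
      rw [swap_apply_of_ne_of_ne h3 h4, swap_apply_of_ne_of_ne h1 h3]
    have hγ5 : (γ : Perm (Fin n)) p5 = p5 := hγj _ (hw5 i) (hval _ _ (by rw [ho]; show 5 ≠ 0; norm_num))
      (hval _ _ (by rw [hp]; show 5 ≠ 1; norm_num))
    have h1 : ∑ j ∈ s, g j • (v j - V F (ψ γ) (v j)) = 0 := by
      have h3 : ∑ j ∈ s, g j • (v j - V F (ψ γ) (v j)) = ∑ j ∈ s, g j • v j - V F (ψ γ) (∑ j ∈ s, g j • v j) := by
        rw [map_sum, ← Finset.sum_sub_distrib]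
        refine Finset.sum_congr rfl fun j _ => ?_
        rw [map_smul, smul_sub]
      rw [h3, hs, map_zero, sub_zero]
    have h4 : ∀ j ∈ s, j ≠ i → g j • (v j - V F (ψ γ) (v j)) = 0 := by
      intro j _ hji
      have h5' : w j ≠ w i := hval _ _ (by
        show j.val + 6 ≠ i.val + 6
        have : j.val ≠ i.val := fun h => hji (Fin.ext h)
        omega)
      have h6 : V F (ψ γ) (v j) = v j := by
        show V F (ψ γ) (W ψ o p u p5 (w j)) = W ψ o p u p5 (w j)
        rw [W_act (by omega) hop hu _ (hw5 j), hγ5, hγj _ h5' (hval _ _ (by rw [ho]; show j.val + 6 ≠ 0; omega))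
          (hval _ _ (by rw [hp]; show j.val + 6 ≠ 1; omega))]
      rw [h6, sub_self, smul_zero]
    rw [Finset.sum_eq_single_of_mem i hi h4] at h1
    rcases smul_eq_zero.1 h1 with h5' | h5'
    · exact h5'
    · exfalso
      have h6 : V F (ψ γ) (v i) = W ψ o p u p5 o := by
        show V F (ψ γ) (W ψ o p u p5 (w i)) = _
        rw [W_act (by omega) hop hu _ (hw5 i), hγ5, hγi]
      have h7 : W ψ o p u p5 (w i) = W ψ o p u p5 o := by
        rw [h6] at h5'
        exact sub_eq_zero.1 h5'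
      have h50 : p5 ≠ o := hval _ _ (by rw [ho]; show 5 ≠ 0; norm_num)
      have h8 := hT p5 (w i) o (hw5 i) hio h50
      rw [h7, hsym o p5 h50.symm] at h8
      apply hne (w i) o hio
      have h9 : W ψ o p u p5 o + W ψ o p u (w i) o + W ψ o p u p5 o = W ψ o p u (w i) o := by
        rw [add_comm (W ψ o p u p5 o) (W ψ o p u (w i) o), add_assoc, add_self_zero h2, add_zero]
      rw [← h9]
      exact h8
  have h1 := finrank_span_eq_card hli
  have h3 : Submodule.span F (Set.range v) ≤ es (V F (ψ (P n lx))) 1 := by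
    rw [Submodule.span_le]
    rintro _ ⟨k, rfl⟩
    exact hmem k
  have h4 := Submodule.finrank_mono h3
  have h6 : finrank F ↥(es (V F (ψ (P n lx))) 1) = 16 := h5
  rw [h1, h6, Fintype.card_fin] at h4
  omega

end nle

section main
variable {F : Type u} [Field F] {n : ℕ} {H : Subgroup ↥(chevE7.group F)}
  {φ : ↥(alternatingGroup (Fin n)) →* ↥(chevE7.group F)} {ψ : ↥(alternatingGroup (Fin n)) →* Gh F}

/-- **the pattern (20, 32, 16, *, 12 or less) for `n ≥ 10`** -/
theorem t2_false [Finite F] (h2 : (2 : F) = 0) (hn : 10 ≤ n) (hM : MaxAlt H n φ) (hψ : Lift φ ψ)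
    (hinj : ∀ a, ad F (ψ a) = 1 → a = 1)
    (h3 : ∀ a : ↥(alternatingGroup (Fin n)), (a : Perm (Fin n)).cycleType = {3} → ev (V F (ψ a)) 1 = 20)
    (h33 : ∀ a : ↥(alternatingGroup (Fin n)), (a : Perm (Fin n)).cycleType = {3, 3} → ev (V F (ψ a)) 1 = 32)
    (h5 : ∀ a : ↥(alternatingGroup (Fin n)), (a : Perm (Fin n)).cycleType = {5} → ev (V F (ψ a)) 1 = 16)
    (h53 : ∀ a : ↥(alternatingGroup (Fin n)), (a : Perm (Fin n)).cycleType = {5, 3} → ev (V F (ψ a)) 1 ≤ 12)
    (hcard : n ≤ 22 → 4 * Nat.card ↥H < Nat.card F ^ 76)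
    (hts : n ≤ 22 → ∀ S : Submodule F (D1 → F), Stab (V F) H S → S ≠ ⊥ → (∀ x ∈ S, Sing x) → False) : False := by
  have : NeZero n := ⟨by omega⟩
  have hn8 : 8 ≤ n := by omega
  have hn9 : 9 ≤ n := by omega
  have h3' := three_ne h2
  have h2' : ∀ w : D1 → F, w + w = 0 := fun w => by rw [← two_smul F w, h2, zero_smul]
  have hct : ∀ {l : List (ℕ × ℕ)}, vl 8 l = true → ((P n l : ↥(alternatingGroup (Fin n))) : Perm (Fin n)).cycleType =
      (pm 8 l).cycleType := fun h => ct_P hn8 h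
  let ρ : Representation F ↥(alternatingGroup (Fin n)) (D1 → F) := MonoidHom.comp (V F) ψ
  have e3 : ev (V F (ψ (P n l3))) 1 = 20 := h3 _ (by rw [hct (by decide)]; decide +kernel)
  have e33 : ev (V F (ψ (P n l33))) 1 = 32 := h33 _ (by rw [hct (by decide)]; decide +kernel)
  have ela : ev (V F (ψ (P n la))) 1 = 20 := h3 _ (by rw [hct (by decide)]; decide +kernel)
  have e567 : ev (V F (ψ (P n l567))) 1 = 20 := h3 _ (by rw [hct (by decide)]; decide +kernel)
  have exx : ev (V F (ψ (P n lxx))) 1 = 32 := h33 _ (by rw [hct (by decide)]; decide +kernel)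
  have ex : ev (V F (ψ (P n lx))) 1 = 16 := h5 _ (by rw [hct (by decide)]; decide +kernel)
  have e53 : ev (V F (ψ (P n l53))) 1 ≤ 12 := h53 _ (by rw [hct (by decide)]; decide +kernel)
  have hE1 := dimE (ψ := ψ) h3' hn9 e3 e33 chkG_E1 chkC_E1 len_E1 cnt_E1
  have hE2 := dimE (ψ := ψ) h3' hn9 e3 e33 chkG_E2 chkC_E2 len_E2 cnt_E2
  have hE3 := dimE (ψ := ψ) h3' hn9 e3 e33 chkG_E3 chkC_E3 len_E3 cnt_E3
  have hB := ev_nineB (ψ := ψ) h3' hinj hn9 e3 e33
  obtain ⟨u0, hu00, hu0f, hu0b⟩ := exists_u (ρ := ρ) h3' h2' hn ela e567 hE1 hE2 hE3 hB e53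
  set o : Fin n := ⟨0, by omega⟩ with ho
  set p : Fin n := ⟨1, by omega⟩ with hp
  set q : Fin n := ⟨2, by omega⟩ with hq
  have hop : o ≠ p := by simp [ho, hp]
  have hoq : o ≠ q := by simp [ho, hq]
  have hpq : p ≠ q := by simp [hp, hq]
  -- the space of all such vectors
  let U' : Submodule F (D1 → F) := US ψ o p ⊓ Z3 (V F (ψ (P n lb)))
  have hU0 : U' ≠ ⊥ := by
    intro h
    apply hu00
    have h1 : u0 ∈ U' := by
      refine ⟨?_, mem_Z3.2 hu0b⟩
      intro a h6 h7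
      apply hu0f
      intro i hi
      have h8 : i.val = 0 ∨ i.val = 1 := by omega
      rcases h8 with h8 | h8
      · rw [show i = o from Fin.ext h8]; exact h6
      · rw [show i = p from Fin.ext h8]; exact h7
    rw [h] at h1
    exact (Submodule.mem_bot F).1 h1
  obtain ⟨u, hu, hune, hH⟩ := exists_vec h2 (by omega) hM hψ hop U' hU0 (by
    intro t0 ht2 ht w hw
    obtain ⟨hw1, hw2⟩ := hw
    have hcs : ∀ a : ↥(alternatingGroup (Fin n)), swap o p * (a : Perm (Fin n)) * swap o p ∈ alternatingGroup (Fin n) := by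
      intro a
      rw [mem_alternatingGroup, Perm.sign_mul, Perm.sign_mul, mem_alternatingGroup.1 a.2, mul_one, sign_swap hop]
      decide
    have hss : ∀ a : Perm (Fin n), swap o p * (swap o p * a * swap o p) * swap o p = a := by
      intro a
      have h4 : (swap o p : Perm (Fin n)) * swap o p = 1 := swap_mul_self _ _
      calc _ = (swap o p * swap o p) * a * (swap o p * swap o p) := by simp only [mul_assoc]
        _ = a := by rw [h4, one_mul, mul_one]
    have hact : ∀ (a b : ↥(alternatingGroup (Fin n))), (b : Perm (Fin n)) = swap o p * a * swap o p → ∀ w,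
        V F (ψ b) (V F t0 w) = V F t0 (V F (ψ a) w) := by
      intro a b hb w
      rw [← ht a b hb, V_mul, V_mul, ← V_mul t0⁻¹, inv_mul_cancel, V_one]
    refine ⟨?_, ?_⟩
    · intro a h6 h7
      have h8 := hact ⟨_, hcs a⟩ a (hss _).symm w
      rw [h8, hw1 ⟨_, hcs a⟩]
      · show swap o p ((a : Perm (Fin n)) (swap o p o)) = o
        rw [swap_apply_left, h7, swap_apply_right]
      · show swap o p ((a : Perm (Fin n)) (swap o p p)) = p
        rw [swap_apply_right, h6, swap_apply_left]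
    · rw [SetLike.mem_coe, mem_Z3] at hw2 ⊢
      have hb2 : ((P n (lb ++ lb) : ↥(alternatingGroup (Fin n))) : Perm (Fin n)) * swap o p =
          swap o p * ((P n lb : ↥(alternatingGroup (Fin n))) : Perm (Fin n)) := by
        have hof : ∀ (k : ℕ) (hk : k < n), Fin.ofNat n k = ⟨k, hk⟩ := fun k hk => Fin.ext (val_ofNat' hk)
        have h1 : swap o p = pm n [(0, 1)] := by
          rw [pm_cons, pm_nil, mul_one, hof 0 (by omega), hof 1 (by omega)]
        rw [coe_P hn8 (by decide), coe_P hn8 (by decide), h1, ← pm_append, ← pm_append]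
        exact pm_eq hn8 (by unfold En; decide) (by unfold En; decide) (by decide)
      have h9 : ((P n lb : ↥(alternatingGroup (Fin n))) : Perm (Fin n)) =
          swap o p * ((P n (lb ++ lb) : ↥(alternatingGroup (Fin n))) : Perm (Fin n)) * swap o p := by
        rw [mul_assoc, hb2, ← mul_assoc, swap_mul_self, one_mul]
      have h10 : ∀ w, V F (ψ (P n lb)) (V F t0 w) = V F t0 (V F (ψ (P n lb)) (V F (ψ (P n lb)) w)) := by
        intro w
        rw [hact _ _ h9, P_append hn8 (by decide) (by decide), map_mul, V_mul]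
      have h11 : V F (ψ (P n lb)) (V F (ψ (P n lb)) (V F (ψ (P n lb)) w)) = w := lb_pow (ρ := ρ) hn w
      rw [h10, h10, h11, ← map_add, ← map_add]
      have h12 : w + V F (ψ (P n lb)) (V F (ψ (P n lb)) w) + V F (ψ (P n lb)) w = 0 := by
        rw [← hw2]; abel
      rw [h12, map_zero])
  obtain ⟨hu1, hu2⟩ := hu
  obtain ⟨hT0, heq⟩ := heq_T2 h2 hn exx (o := o) (p := p) (q := q) rfl rfl rfl hu1 (mem_Z3.1 hu2)
  have hT : ∀ i j k : Fin n, i ≠ j → j ≠ k → i ≠ k → W ψ o p u i j + W ψ o p u j k + W ψ o p u k i = 0 :=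
    fun i j k h1 h3 h4 => tri (by omega) hop hu1 hoq hpq hT0 h1 h3 h4
  have hn22 : n ≤ 22 := n_le h2 hn ex (o := o) (p := p) rfl rfl hu1 hune hT
  exact final h2 (by omega) hM hψ hop (hcard hn22) (hts hn22) hu1 hoq hpq hT0 hune hH heq

end main

end Cfsg.Agent.R2.T1.T2p
end

-- part: R2/T1/B2/Ts2_mg
section

end
end
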